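import Mathlib
import Cfsg.Prelude.Def_Sporadic

/-!
A transitive group of degree eleven and order 7920 whose point stabiliser contains a simple group
of order 360 is simple.
-/

set_option autoImplicit false

namespace Cfsg.Agent.H92.SuzThree

open MulAction

variable {M Ω : Type*} [Group M] [Finite M] [MulAction M Ω] [Finite Ω] [FaithfulSMul M Ω]

/-- an element commuting with a transitive subgroup and fixing a point is trivial -/
theorem eq_one_of_commute_transitive (P : Subgroup M) (hP : IsPretransitive P Ω) (a : Ω) {x : M}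
    (hx : ∀ p ∈ P, Commute x p) (ha : x • a = a) : x = 1 :=
  FaithfulSMul.eq_of_smul_eq_smul (α := Ω) fun b => by
    obtain ⟨p, rfl⟩ := exists_smul_eq P a b
    change x • (p : M) • a = (1 : M) • (p : M) • a
    rw [one_smul, smul_smul, (hx p p.2).eq, mul_smul, ha]

theorem transitive_of_eleven (P : Subgroup M) (hP : Nat.card P = 11) (hΩ : Nat.card Ω = 11) :
    IsPretransitive P Ω := by
  haveI : Fact (Nat.Prime 11) := ⟨by norm_num⟩
  have hP' : P ≠ ⊥ := fun e => by rw [e, Subgroup.card_bot] at hP; omega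
  obtain ⟨a, ha⟩ : ∃ a : Ω, (orbit P a).ncard ≠ 1 := by
    by_contra hc
    simp only [not_exists, not_not] at hc
    refine hP' ((Subgroup.eq_bot_iff_forall _).mpr fun p hp => FaithfulSMul.eq_of_smul_eq_smul
      (α := Ω) fun b => ?_)
    obtain ⟨c, hc'⟩ := Set.ncard_eq_one.mp (hc b)
    have h1 : (⟨p, hp⟩ : P) • b ∈ orbit P b := mem_orbit _ _
    have h2 : b ∈ orbit P b := mem_orbit_self _
    rw [hc', Set.mem_singleton_iff] at h1 h2
    rw [one_smul]
    exact h1.trans h2.symm
  have hd : (orbit P a).ncard ∣ 11 := by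
    rw [← MulAction.index_stabilizer, ← hP]
    exact Subgroup.index_dvd_card _
  rcases (Nat.dvd_prime (by norm_num)).mp hd with h | h
  · exact absurd h ha
  rw [MulAction.isPretransitive_iff_orbit_eq_univ a]
  exact Set.eq_of_subset_of_ncard_le (Set.subset_univ _) (by rw [Set.ncard_univ, hΩ, h]) (Set.toFinite _)

theorem card_centralizer_eleven (P : Subgroup M) (hP : Nat.card P = 11) (hΩ : Nat.card Ω = 11)
    (a : Ω) : Nat.card (Subgroup.centralizer (P : Set M)) ≤ 11 := by
  have htr := transitive_of_eleven (Ω := Ω) P hP hΩ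
  rw [← hΩ]
  refine Nat.card_le_card_of_injective (fun c => (c : M) • a) fun c d e => ?_
  have : ((d : M))⁻¹ * c = 1 := by
    refine eq_one_of_commute_transitive P htr a (fun p hp => ?_) ?_
    · exact (Subgroup.mem_centralizer_iff.mp (mul_mem (inv_mem d.2) c.2) p hp).symm
    · rw [mul_smul, show (c : M) • a = (d : M) • a from e, inv_smul_smul]
  exact Subtype.ext (inv_mul_eq_one.mp this).symm

theorem card_normalizer_eleven (P : Subgroup M) (hP : Nat.card P = 11) (hΩ : Nat.card Ω = 11)
    (a : Ω) : ∃ k, k ∣ 10 ∧ Nat.card (Subgroup.normalizer (P : Set M)) = 11 * k := by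
  haveI : Fact (Nat.Prime 11) := ⟨by norm_num⟩
  haveI : IsCyclic P := isCyclic_of_prime_card hP
  set N := Subgroup.normalizer (P : Set M)
  have hker : P.normalizerMonoidHom.ker = P.subgroupOf N := by
    rw [Subgroup.normalizerMonoidHom_ker]
    congr 1
    refine (Subgroup.eq_of_le_of_card_ge ?_ ((card_centralizer_eleven P hP hΩ a).trans_eq hP.symm)).symm
    intro p hp
    rw [Subgroup.mem_centralizer_iff]
    intro q hq
    exact congrArg Subtype.val ((IsCyclic.commGroup (α := P)).mul_comm ⟨q, hq⟩ ⟨p, hp⟩)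
  refine ⟨Nat.card P.normalizerMonoidHom.range, ?_, ?_⟩
  · refine (Subgroup.card_subgroup_dvd_card _).trans ?_
    rw [IsCyclic.card_mulAut, hP, Nat.totient_prime (by norm_num)]
  · rw [← Subgroup.index_ker, ← Subgroup.card_mul_index P.normalizerMonoidHom.ker, hker,
      Nat.card_congr (Subgroup.subgroupOfEquivOfLe Subgroup.le_normalizer).toEquiv, hP]

theorem isM11_of_eleven [IsPretransitive M Ω] (hΩ : Nat.card Ω = 11) (hM : Nat.card M = 7920)
    (a : Ω) (H : Subgroup M) (hH : H ≤ stabilizer M a) (hcard : Nat.card H = 360) [IsSimpleGroup H] :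
    Cfsg.IsM11 M := by
  haveI : Fact (Nat.Prime 11) := ⟨by norm_num⟩
  haveI : Nontrivial M := Finite.one_lt_card_iff_nontrivial.mp (by omega)
  refine ⟨⟨fun K hKn => ?_⟩, hM⟩
  haveI := hKn
  by_cases hbot : K = ⊥
  · exact Or.inl hbot
  right
  have hSt : Nat.card (stabilizer M a) = 720 := by
    have := Subgroup.card_mul_index (stabilizer M a)
    rw [index_stabilizer, hM, orbit_eq_univ, Set.ncard_univ, hΩ] at this
    omega
  -- the orbit of a normal subgroup has size eleven
  have horb : (orbit K a).ncard = 11 := by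
    have hd : (orbit K a).ncard ∣ 11 := by
      rw [← hΩ]
      exact (IsBlock.orbit_of_normal (G := M) (N := K) a).ncard_dvd_card (nonempty_orbit a)
    rcases (Nat.dvd_prime (by norm_num)).mp hd with h | h
    · exfalso
      refine hbot ((Subgroup.eq_bot_iff_forall _).mpr fun k hk => FaithfulSMul.eq_of_smul_eq_smul
        (α := Ω) fun b => ?_)
      obtain ⟨g, rfl⟩ := exists_smul_eq M a b
      obtain ⟨c, hc⟩ := Set.ncard_eq_one.mp h
      have hk' : g⁻¹ * k * g ∈ K := by simpa using hKn.conj_mem k hk g⁻¹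
      have h1 : (⟨_, hk'⟩ : K) • a ∈ orbit K a := mem_orbit _ _
      have h2 : a ∈ orbit K a := mem_orbit_self _
      rw [hc, Set.mem_singleton_iff] at h1 h2
      have h3 : (g⁻¹ * k * g) • a = a := h1.trans h2.symm
      rw [one_smul, smul_smul, show k * g = g * (g⁻¹ * k * g) by group, mul_smul, h3]
    · exact h
  have hK : Nat.card K = 11 * Nat.card (stabilizer K a) := by
    rw [← horb, ← index_stabilizer, mul_comm, Subgroup.card_mul_index]
  have hKa : Nat.card (stabilizer K a) = Nat.card (K ⊓ stabilizer M a : Subgroup M) :=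
    Nat.card_congr ⟨fun x => ⟨x.1.1, x.1.2, x.2⟩, fun x => ⟨⟨x.1, x.2.1⟩, x.2.2⟩,
      fun _ => rfl, fun _ => rfl⟩
  rw [hKa] at hK
  have hdvd : Nat.card (K ⊓ stabilizer M a : Subgroup M) ∣ 720 :=
    hSt ▸ Subgroup.card_dvd_of_le inf_le_right
  obtain ⟨P₀, hP₀⟩ : ∃ P : Subgroup M, P ≤ K ∧ Nat.card P = 11 := by
    obtain ⟨x, hx⟩ := exists_prime_orderOf_dvd_card' (G := K) 11 (hK ▸ dvd_mul_right 11 _)
    exact ⟨Subgroup.zpowers (x : M), Subgroup.zpowers_le.mpr x.2,
      by rw [Nat.card_zpowers, Subgroup.orderOf_coe, hx]⟩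
  haveI : (K.subgroupOf H).Normal := hKn.subgroupOf H
  rcases (Subgroup.Normal.eq_bot_or_eq_top (inferInstance : (K.subgroupOf H).Normal)) with h | h
  · exfalso
    -- then the normal subgroup has order 11 or 22
    have h2 : Nat.card (K ⊓ stabilizer M a : Subgroup M) * 360 ≤ 720 := by
      rw [← hcard, ← hSt, ← Nat.card_prod]
      refine Nat.card_le_card_of_injective
        (fun p => (⟨p.1.1 * p.2.1, mul_mem p.1.2.2 (hH p.2.2)⟩ : stabilizer M a)) fun p q e => ?_
      have e' : (p.1.1 : M) * p.2.1 = q.1.1 * q.2.1 := congrArg Subtype.val e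
      have hmem : (p.2.1 * (q.2.1)⁻¹ : M) ∈ K := by
        rw [show (p.2.1 * (q.2.1)⁻¹ : M) = (p.1.1)⁻¹ * q.1.1 from by
          rw [mul_inv_eq_iff_eq_mul, mul_assoc, ← e', inv_mul_cancel_left]]
        exact K.mul_mem (K.inv_mem (Subgroup.mem_inf.mp p.1.2).1) (Subgroup.mem_inf.mp q.1.2).1
      have h3 : (⟨_, mul_mem p.2.2 (inv_mem q.2.2)⟩ : H) ∈ K.subgroupOf H := hmem
      rw [h, Subgroup.mem_bot] at h3
      have h4 : (p.2.1 : M) = q.2.1 := mul_inv_eq_one.mp (congrArg Subtype.val h3)
      rw [h4] at e'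
      exact Prod.ext (Subtype.ext (mul_right_cancel e')) (Subtype.ext h4)
    have hle : Nat.card (K ⊓ stabilizer M a : Subgroup M) ≤ 2 := by omega
    -- its subgroup of order eleven is normal in the whole group
    have hnorm : ∀ g : M, g ∈ Subgroup.normalizer (P₀ : Set M) := fun g => by
      have huniq : ∀ Q : Subgroup M, Q ≤ K → Nat.card Q = 11 → Q = P₀ := fun Q hQK hQ => by
        by_contra hne
        have hinf : Q ⊓ P₀ = ⊥ := by
          have := Subgroup.card_dvd_of_le (inf_le_left : Q ⊓ P₀ ≤ Q)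
          rw [hQ] at this
          rcases (Nat.dvd_prime (by norm_num)).mp this with e | e
          · exact Subgroup.eq_bot_of_card_eq _ e
          · exact absurd (Subgroup.eq_of_le_of_card_ge (inf_le_right : Q ⊓ P₀ ≤ P₀) (by rw [e, hP₀.2]))
              (fun e' => hne ((Subgroup.eq_of_le_of_card_ge
                (inf_le_left : Q ⊓ P₀ ≤ Q) (by rw [e, hQ])).symm.trans e'))
        have h121 : 121 ≤ Nat.card K := by
          rw [show (121 : ℕ) = Nat.card Q * Nat.card P₀ by rw [hQ, hP₀.2], ← Nat.card_prod]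
          refine Nat.card_le_card_of_injective
            (fun p => (⟨p.1.1 * p.2.1, mul_mem (hQK p.1.2) (hP₀.1 p.2.2)⟩ : K)) fun p q e => ?_
          have e' : (p.1.1 : M) * p.2.1 = q.1.1 * q.2.1 := congrArg Subtype.val e
          have hm : (q.1.1)⁻¹ * p.1.1 ∈ Q ⊓ P₀ := Subgroup.mem_inf.mpr ⟨Q.mul_mem (Q.inv_mem q.1.2) p.1.2, by
            rw [show (q.1.1)⁻¹ * p.1.1 = q.2.1 * (p.2.1)⁻¹ from by
              rw [eq_mul_inv_iff_mul_eq, mul_assoc, e', inv_mul_cancel_left]]
            exact P₀.mul_mem q.2.2 (P₀.inv_mem p.2.2)⟩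
          rw [hinf, Subgroup.mem_bot, inv_mul_eq_one] at hm
          rw [hm] at e'
          exact Prod.ext (Subtype.ext hm.symm) (Subtype.ext (mul_left_cancel e'))
        rw [hK] at h121
        omega
      have himg : P₀.map (MulAut.conj g).toMonoidHom = P₀ := huniq _
        (by rintro _ ⟨x, hx, rfl⟩; exact hKn.conj_mem x (hP₀.1 hx) g)
        (by rw [Subgroup.card_map_of_injective (MulAut.conj g).injective, hP₀.2])
      refine Subgroup.mem_normalizer_iff.mpr fun x => ⟨fun hx => himg ▸ ⟨x, hx, rfl⟩, fun hx => ?_⟩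
      rw [← himg] at hx
      obtain ⟨y, hy, e⟩ := hx
      exact (mul_left_cancel (mul_right_cancel e) : y = x) ▸ hy
    obtain ⟨k, hk, hN⟩ := card_normalizer_eleven P₀ hP₀.2 hΩ a
    rw [(Subgroup.eq_top_iff' _).mpr hnorm, Subgroup.card_top, hM] at hN
    have := Nat.le_of_dvd (by norm_num) hk
    omega
  · have hHK : H ≤ K := Subgroup.subgroupOf_eq_top.mp h
    have h3 : 360 ∣ Nat.card (K ⊓ stabilizer M a : Subgroup M) :=
      hcard ▸ Subgroup.card_dvd_of_le (le_inf hHK hH)
    obtain ⟨c, hc⟩ := h3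
    have hc2 : c ∣ 2 := by
      rw [hc] at hdvd
      exact Nat.dvd_of_mul_dvd_mul_left (by norm_num) (show 360 * c ∣ 360 * 2 by simpa using hdvd)
    rcases (Nat.dvd_prime Nat.prime_two).mp hc2 with rfl | rfl
    · exfalso
      -- count the subgroups of order eleven
      have hK' : Nat.card K = 3960 := by rw [hK, hc]
      let P : Sylow 11 K := default
      have hPcard : Nat.card (P : Subgroup K) = 11 := by
        rw [P.card_eq_multiplicity, hK',
          show Nat.factorization 3960 11 = 1 by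
            rw [show 3960 = 11 * 360 by norm_num, Nat.factorization_mul (by norm_num) (by norm_num)]
            simp [Nat.factorization_eq_zero_of_not_dvd (show ¬ 11 ∣ 360 by norm_num),
              Nat.Prime.factorization_self (show Nat.Prime 11 by norm_num)], pow_one]
      obtain ⟨k, hk, hN⟩ := card_normalizer_eleven (M := K) (Ω := Ω) (P : Subgroup K) hPcard hΩ a
      have hmod := card_sylow_modEq_one 11 K
      rw [Sylow.card_eq_index_normalizer P] at hmod
      have hidx := Subgroup.card_mul_index (Subgroup.normalizer ((P : Subgroup K) : Set K))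
      rw [hN, hK'] at hidx
      set i := (Subgroup.normalizer ((P : Subgroup K) : Set K)).index
      have hk10 := Nat.le_of_dvd (by norm_num) hk
      change i % 11 = 1 % 11 at hmod
      have hki : k * i = 360 := by nlinarith [hidx]
      interval_cases k <;> omega
    · exact Subgroup.eq_top_of_card_eq _ (by rw [hK, hc, hM])

end Cfsg.Agent.H92.SuzThree
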