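import Cfsg.Agent.H92.SuzThree.Quot
import Cfsg.Agent.H69.M11.Unique
import Cfsg.Agent.Golay.Mathieu

/-!
Suzuki type groups: Sylow 3-subgroups of the normaliser of the element of order three are Sylow.
-/

set_option autoImplicit false

namespace Cfsg.Agent.H92.SuzThree

variable {G : Type*} [Group G] [Finite G]

theorem not_three_dvd_index (P N : Subgroup G) (hP : IsPGroup 3 P) (hPN : P ≤ N)
    (hN : Subgroup.normalizer (P : Set G) ≤ N) (hcard : Nat.card P = 3 ^ 7)
    (hNcard : ¬ 3 ^ 8 ∣ Nat.card N) : ¬ 3 ∣ P.index := by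
  haveI : Fact (Nat.Prime 3) := ⟨by norm_num⟩
  obtain ⟨R, hR⟩ := hP.exists_le_sylow
  suffices h : P = R by
    rw [h]; exact R.not_dvd_index
  by_contra hne
  set P' := P.subgroupOf (R : Subgroup G) with hP'
  have hlt : P' < ⊤ := lt_top_iff_ne_top.2 fun e => hne (le_antisymm hR (Subgroup.subgroupOf_eq_top.1 e))
  haveI : Group.IsNilpotent ↥(R : Subgroup G) := R.2.isNilpotent
  have hgrow := normalizerCondition_of_isNilpotent P' hlt
  obtain ⟨r, hr, hr'⟩ := SetLike.exists_of_lt hgrow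
  have hrN : (r : G) ∈ Subgroup.normalizer (P : Set G) := by
    refine Subgroup.mem_normalizer_iff_map_conj_eq.2 (Subgroup.eq_of_le_of_card_ge ?_
      (le_of_eq (Subgroup.card_map_of_injective (MulEquiv.injective _)).symm))
    rintro _ ⟨v, hv, rfl⟩
    exact (Subgroup.mem_normalizer_iff.1 hr ⟨v, hR hv⟩).1 hv
  have hle : P ⊔ Subgroup.zpowers (r : G) ≤ (R : Subgroup G) ⊓ N :=
    sup_le (le_inf hR hPN)
      (Subgroup.zpowers_le.2 ⟨r.2, hN hrN⟩)
  obtain ⟨j, hj⟩ := IsPGroup.iff_card.1 (R.2.to_le (hle.trans inf_le_left))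
  have hlt' : P < P ⊔ Subgroup.zpowers (r : G) := lt_of_le_of_ne le_sup_left fun e =>
    hr' (show (r : G) ∈ P by
      rw [e]; exact Subgroup.mem_sup_right (Subgroup.mem_zpowers _))
  have hcl : Nat.card P < Nat.card ↥(P ⊔ Subgroup.zpowers (r : G)) := by
    by_contra hc
    exact hlt'.ne (Subgroup.eq_of_le_of_card_ge le_sup_left (not_lt.1 hc))
  rw [hcard, hj] at hcl
  have h8 : 8 ≤ j := (Nat.pow_lt_pow_iff_right (by norm_num)).1 hcl
  refine hNcard ((Nat.pow_dvd_pow 3 h8).trans ?_)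
  rw [← hj]
  exact Subgroup.card_dvd_of_le (hle.trans inf_le_right)

namespace Data

variable {z x : G} {Q : Subgroup G} (d : Data z x Q)

theorem main (d : Data z x Q) (P : Subgroup G) (hPC : P ≤ Subgroup.centralizer ({x} : Set G))
    (hP : IsPGroup 3 P) (hcard : Nat.card P = 3 ^ 7) :
    ¬ 3 ∣ P.index ∧ ∃ A : Subgroup G, A ≤ P ∧ Cfsg.IsElementaryAbelian 3 A ∧
      Nat.card A = 3 ^ 5 ∧ Subgroup.centralizer (A : Set G) = A ∧
      ∃ _ : (A.subgroupOf (Subgroup.normalizer (A : Set G))).Normal,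
        Cfsg.Spor.IsoM11 (↥(Subgroup.normalizer (A : Set G)) ⧸
          A.subgroupOf (Subgroup.normalizer (A : Set G))) := by
  haveI : Fact (Nat.Prime 3) := ⟨by norm_num⟩
  set C := Subgroup.centralizer ({x} : Set G) with hC
  -- a conjugate of `A` inside `P`
  have hfac : (Nat.card C).factorization 3 = 7 := by
    rw [hC, d.card_C, show (3 * 3265920 : ℕ) = 3 ^ 7 * 4480 by norm_num,
      Nat.factorization_mul (by norm_num) (by norm_num), Finsupp.add_apply,
      Nat.Prime.factorization_pow (by norm_num),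
      Nat.factorization_eq_zero_of_not_dvd (show ¬ 3 ∣ 4480 by norm_num)]
    simp
  let Ps : Sylow 3 C := Sylow.ofCard (P.subgroupOf C) (by
    rw [hfac, Nat.card_congr (Subgroup.subgroupOfEquivOfLe hPC).toEquiv, hcard])
  have hA3 : IsPGroup 3 (d.A.subgroupOf C) := IsPGroup.of_card (n := 5) (by
    rw [Nat.card_congr (Subgroup.subgroupOfEquivOfLe d.A_le_C).toEquiv, d.card_A]; norm_num)
  obtain ⟨R, hR⟩ := hA3.exists_le_sylow
  obtain ⟨c, hc⟩ := MulAction.exists_smul_eq C R Ps
  set σ := MulAut.conj (c : G) with hσ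
  set A' := d.A.map σ.toMonoidHom with hA'
  have hA'P : A' ≤ P := by
    rintro _ ⟨v, hv, rfl⟩
    have hm : c * ⟨v, d.A_le_C hv⟩ * c⁻¹ ∈ (Ps : Subgroup C) := by
      rw [← hc]; exact ⟨_, hR hv, rfl⟩
    exact hm
  have hA'N : Subgroup.normalizer (A' : Set G) = d.NA.map σ.toMonoidHom :=
    (Subgroup.map_equiv_normalizer_eq d.A σ).symm
  have hPA : Subgroup.normalizer (P : Set G) ≤ Subgroup.normalizer (A' : Set G) := by
    intro g hg
    rw [hA'N]
    refine ⟨(c : G)⁻¹ * g * c, ?_, by simp [hσ, mul_assoc]⟩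
    refine d.mem_NA_of_le fun v hv => ?_
    have hback : ∀ E : Subgroup G, E ≤ P → Cfsg.IsElementaryAbelian 3 E → Nat.card E = 243 →
        E.map (MulAut.conj (c : G)⁻¹).toMonoidHom = d.A := by
      intro E hEP hE hEc
      refine d.A_unique (P.map (MulAut.conj (c : G)⁻¹).toMonoidHom) ?_ (hP.map _) ?_ _
        (Subgroup.map_mono hEP) (isElementaryAbelian_map _ hE)
        (by rw [Subgroup.card_map_of_injective (MulEquiv.injective _), hEc])
      · rintro _ ⟨p, hp, rfl⟩
        exact mul_mem (mul_mem (inv_mem c.2) (hPC hp)) (inv_mem (inv_mem c.2))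
      · intro a ha
        exact ⟨_, hA'P ⟨a, ha, rfl⟩, by simp [hσ, mul_assoc]⟩
    have hgA : A'.map (MulAut.conj g).toMonoidHom ≤ P := by
      rintro _ ⟨a, ha, rfl⟩
      exact (Subgroup.mem_normalizer_iff.1 hg a).1 (hA'P ha)
    have e := hback _ hgA (isElementaryAbelian_map _ (isElementaryAbelian_map _ d.A_elem))
      (by rw [Subgroup.card_map_of_injective (MulEquiv.injective _), hA',
        Subgroup.card_map_of_injective (MulEquiv.injective _), d.card_A])
    rw [← e]
    exact ⟨_, ⟨_, ⟨v, hv, rfl⟩, rfl⟩, by simp [hσ, mul_assoc]⟩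
  have hcardN : Nat.card ↥(Subgroup.normalizer (A' : Set G)) = 1924560 := by
    rw [hA'N, Subgroup.card_map_of_injective (MulEquiv.injective _), d.card_NA_eq]
  have hPN : P ≤ Subgroup.normalizer (A' : Set G) := Subgroup.le_normalizer.trans hPA
  refine ⟨not_three_dvd_index P _ hP hPN hPA hcard (by rw [hcardN]; norm_num), A', hA'P,
    isElementaryAbelian_map _ d.A_elem, ?_, ?_, ?_⟩
  · rw [hA', Subgroup.card_map_of_injective (MulEquiv.injective _), d.card_A]; norm_num
  · refine le_antisymm (fun g hg => ?_) fun g hg => ?_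
    · refine ⟨(c : G)⁻¹ * g * c, ?_, by simp [hσ, mul_assoc]⟩
      rw [← d.centralizer_A]
      refine Subgroup.mem_centralizer_iff.2 fun v hv => ?_
      have h : (c : G) * v * (c : G)⁻¹ * g = g * ((c : G) * v * (c : G)⁻¹) :=
        Subgroup.mem_centralizer_iff.1 hg _ ⟨v, hv, rfl⟩
      calc v * ((c : G)⁻¹ * g * c) = (c : G)⁻¹ * ((c : G) * v * (c : G)⁻¹ * g) * c := by group
        _ = (c : G)⁻¹ * g * c * v := by rw [h]; group
    · obtain ⟨v, hv, rfl⟩ := hg
      refine Subgroup.mem_centralizer_iff.2 ?_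
      rintro _ ⟨w, hw, rfl⟩
      exact ((show Commute w v from (d.A_spec hw).2 v hv).map σ.toMonoidHom).eq
  · obtain ⟨hn, hM⟩ := d.iso_m11
    haveI := hn
    haveI hn' : (A'.subgroupOf (Subgroup.normalizer (A' : Set G))).Normal :=
      Subgroup.normal_in_normalizer
    refine ⟨hn', ?_⟩
    set e : ↥d.NA ≃* ↥(Subgroup.normalizer (A' : Set G)) :=
      (σ.subgroupMap d.NA).trans (MulEquiv.subgroupCongr hA'N.symm) with he
    have hmap : (d.A.subgroupOf d.NA).map (e : ↥d.NA →* ↥(Subgroup.normalizer (A' : Set G))) =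
        A'.subgroupOf (Subgroup.normalizer (A' : Set G)) := by
      ext ⟨g, hg⟩
      constructor
      · rintro ⟨v, hv, h⟩
        exact ⟨(v : G), hv, congrArg Subtype.val h⟩
      · rintro ⟨v, hv, h⟩
        exact ⟨⟨v, d.A_le_NA hv⟩, hv, Subtype.ext h⟩
    have q := QuotientGroup.congr _ _ e hmap
    obtain ⟨m⟩ := H69.M11.nonempty_mulEquiv hM Golay.isM11_spor
    exact ⟨q.symm.trans m⟩

end Data

end Cfsg.Agent.H92.SuzThree
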