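import Cfsg.Agent.H92.SuzThree.Final
import Cfsg.Prelude.Def_Classical

/-!
Suzuki type groups: from the centraliser of the element of order three to the normaliser of `3^5`.
-/

set_option autoImplicit false

namespace Cfsg.Agent.H92.SuzThree

open scoped commutatorElement

variable {G : Type*} [Group G] [Finite G]

theorem exists_data {z : G} {Q : Subgroup G} (h : H73.Suz.Setup z Q) {x : G} (hxz : x * z = z * x)
    (hx3 : x ^ 3 = 1) (hx1 : x ≠ 1) (hρ : h.ρ x = rotO 0)
    (hn : ((Subgroup.zpowers x).subgroupOf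
      (Subgroup.centralizer (Subgroup.zpowers x : Set G))).Normal)
    {K : Type} [Field K] [Fintype K] (hK : Fintype.card K = 9)
    (hiso : Nonempty (↥(Subgroup.centralizer (Subgroup.zpowers x : Set G)) ⧸
      (Subgroup.zpowers x).subgroupOf (Subgroup.centralizer (Subgroup.zpowers x : Set G)) ≃*
        Cfsg.PSU 4 K 3))
    (hidx : (Subgroup.centralizer (Subgroup.zpowers x : Set G)).relIndex
      (Subgroup.normalizer (Subgroup.zpowers x : Set G)) = 2) :
    Nonempty (Data z x Q) := by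
  obtain ⟨e1⟩ := hiso
  obtain ⟨e2⟩ := H95.UFourThree.psu_chain hK
  have hC : Subgroup.centralizer ({x} : Set G) = Subgroup.centralizer (Subgroup.zpowers x : Set G) := by
    rw [Subgroup.zpowers_eq_closure, Subgroup.centralizer_closure]
  set e0 := MulEquiv.subgroupCongr hC with he0
  let ψ : ↥(Subgroup.centralizer ({x} : Set G)) →* HH :=
    ((e1.trans e2).toMonoidHom.comp (QuotientGroup.mk' _)).comp e0.toMonoidHom
  have hψk : ∀ c, ψ c = 1 ↔ (c : G) ∈ Subgroup.zpowers x := fun c => by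
    show (e1.trans e2) (QuotientGroup.mk' _ (e0 c)) = 1 ↔ _
    rw [MulEquiv.map_eq_one_iff]
    exact QuotientGroup.eq_one_iff _
  have hψs : Function.Surjective ψ :=
    ((e1.trans e2).surjective.comp (QuotientGroup.mk'_surjective _)).comp e0.surjective
  set zC : ↥(Subgroup.centralizer ({x} : Set G)) :=
    ⟨z, Subgroup.mem_centralizer_singleton_iff.2 hxz.symm⟩ with hzC
  have hz1 : ψ zC ≠ 1 := fun e => by
    obtain ⟨k, hk⟩ := Subgroup.mem_zpowers_iff.1 ((hψk zC).1 e)
    have h3 : z ^ 3 = 1 := by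
      rw [show z = x ^ k from hk.symm, ← zpow_natCast, ← zpow_mul, mul_comm, zpow_mul,
        zpow_natCast, hx3, one_zpow]
    rw [pow_succ, pow_two, h.zz, one_mul] at h3
    exact h.z_ne h3
  obtain ⟨w, hw⟩ := inv_conj (u := ψ zC)
    (by rw [← map_mul, show zC * zC = 1 from Subtype.ext h.zz, map_one]) hz1
  have hinv : ∃ g, g * x * g⁻¹ = x⁻¹ := by
    have hne : ¬ Subgroup.normalizer (Subgroup.zpowers x : Set G) ≤
        Subgroup.centralizer (Subgroup.zpowers x : Set G) := fun hle => by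
      rw [Subgroup.relIndex_eq_one.2 hle] at hidx
      omega
    obtain ⟨g, hgN, hgC⟩ := SetLike.not_le_iff_exists.1 hne
    refine ⟨g, ?_⟩
    obtain ⟨k, hk⟩ := Subgroup.mem_zpowers_iff.1
      ((Subgroup.mem_normalizer_iff.1 hgN x).1 (Subgroup.mem_zpowers x))
    have ho : orderOf x = 3 := haveI : Fact (Nat.Prime 3) := ⟨by norm_num⟩
      orderOf_eq_prime hx3 hx1
    rw [← hk, ← zpow_mod_orderOf, ho]
    have h1 := Int.emod_nonneg k (show ((3 : ℕ) : ℤ) ≠ 0 by norm_num)
    have h2 := Int.emod_lt_of_pos k (show (0 : ℤ) < (3 : ℕ) by norm_num)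
    obtain hh | hh | hh : k % ((3 : ℕ) : ℤ) = 0 ∨ k % ((3 : ℕ) : ℤ) = 1 ∨ k % ((3 : ℕ) : ℤ) = 2 := by
      omega
    · exfalso
      refine hx1 ((conj_eq_one_iff (a := g)).1 ?_)
      rw [← hk, ← zpow_mod_orderOf, ho, hh, zpow_zero]
    · exfalso
      refine hgC ?_
      rw [← hC, Subgroup.mem_centralizer_singleton_iff, ← mul_inv_eq_iff_eq_mul, ← hk,
        ← zpow_mod_orderOf, ho, hh, zpow_one]
    · rw [hh]
      refine eq_inv_of_mul_eq_one_left ?_
      rw [show ((2 : ℤ)) = ((2 : ℕ) : ℤ) from rfl, zpow_natCast, ← pow_succ, hx3]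
  exact ⟨{
    h := h
    hx3 := hx3
    hx1 := hx1
    hxz := hxz
    hρ := hρ
    φ := (MulAut.conj w).toMonoidHom.comp ψ
    φ_surj := (MulAut.conj w).surjective.comp hψs
    φ_ker := fun c => by
      show MulAut.conj w (ψ c) = 1 ↔ _
      rw [MulEquiv.map_eq_one_iff, hψk]
    φ_z := hw
    inverter := hinv }⟩

/-- A 3-subgroup of the normaliser lies in the centraliser. -/
theorem three_le_centralizer {x : G} (hinv : ∀ g ∈ Subgroup.normalizer (Subgroup.zpowers x : Set G),
    g * g ∈ Subgroup.centralizer ({x} : Set G))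
    {P : Subgroup G} (hP : IsPGroup 3 P)
    (hle : P ≤ Subgroup.normalizer (Subgroup.zpowers x : Set G)) :
    P ≤ Subgroup.centralizer ({x} : Set G) := by
  intro p hp
  obtain ⟨k, hk⟩ := hP ⟨p, hp⟩
  have hk' : p ^ 3 ^ k = 1 := congrArg Subtype.val hk
  obtain ⟨m, hm⟩ : Odd (3 ^ k) := Odd.pow (by decide)
  have : p = (p * p) ^ (m + 1) := by
    rw [← pow_two, ← pow_mul, show 2 * (m + 1) = 3 ^ k + 1 by omega, pow_succ, hk', one_mul]
  rw [this]
  exact pow_mem (hinv p (hle hp)) _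

theorem main_of_psu (z : G) (hz : orderOf z = 2) (Q : Subgroup (Subgroup.centralizer ({z} : Set G)))
    [Q.Normal] (hF : Cfsg.generalizedFittingSubgroup (Subgroup.centralizer ({z} : Set G)) = Q)
    (hQ : Cfsg.IsExtraspecial 2 Q) (hcard : Nat.card Q = 2 ^ 7)
    (e : (Subgroup.centralizer ({z} : Set G)) ⧸ Q ≃*
      Cfsg.Omega (ZMod 2) (Cfsg.quadFormMinus 2 (ZMod 2) 1 1))
    (hnwc : ∃ g : G, (∃ hq : g * z * g⁻¹ ∈ Subgroup.centralizer ({z} : Set G),
      (⟨g * z * g⁻¹, hq⟩ : Subgroup.centralizer ({z} : Set G)) ∈ Q) ∧ g * z * g⁻¹ ≠ z)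
    (X : Subgroup (Subgroup.centralizer ({z} : Set G))) (hX : Nat.card X = 3)
    (hQX : Nat.card ↥⁅Q, X⁆ = 8) (hQXna : ¬ IsMulCommutative ↥⁅Q, X⁆)
    (XG : Subgroup G) (hXG : XG = X.map (Subgroup.centralizer ({z} : Set G)).subtype)
    (hn : (XG.subgroupOf (Subgroup.centralizer (XG : Set G))).Normal)
    {K : Type} [Field K] [Fintype K] (hK : Fintype.card K = 9)
    (hiso : Nonempty (↥(Subgroup.centralizer (XG : Set G)) ⧸
      XG.subgroupOf (Subgroup.centralizer (XG : Set G)) ≃* Cfsg.PSU 4 K 3))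
    (hidx : (Subgroup.centralizer (XG : Set G)).relIndex (Subgroup.normalizer (XG : Set G)) = 2)
    (P : Sylow 3 ↥(Subgroup.normalizer (XG : Set G))) :
    ¬ 3 ∣ ((P : Subgroup ↥(Subgroup.normalizer (XG : Set G))).map
        (Subgroup.normalizer (XG : Set G)).subtype).index ∧
      ∃ A : Subgroup G, A ≤ (P : Subgroup ↥(Subgroup.normalizer (XG : Set G))).map
        (Subgroup.normalizer (XG : Set G)).subtype ∧ Cfsg.IsElementaryAbelian 3 A ∧
      Nat.card A = 3 ^ 5 ∧ Subgroup.centralizer (A : Set G) = A ∧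
      ∃ _ : (A.subgroupOf (Subgroup.normalizer (A : Set G))).Normal,
        Cfsg.Spor.IsoM11 (↥(Subgroup.normalizer (A : Set G)) ⧸
          A.subgroupOf (Subgroup.normalizer (A : Set G))) := by
  haveI : Fact (Nat.Prime 3) := ⟨by norm_num⟩
  obtain ⟨h⟩ := H73.Suz.setup_of hz Q hF hQ hcard e hnwc
  obtain ⟨x0, hx0⟩ := exists_prime_orderOf_dvd_card' (G := X) 3 (by rw [hX])
  set x : G := ((x0 : ↥(Subgroup.centralizer ({z} : Set G))) : G) with hx
  have hox : orderOf x = 3 := by rw [hx, Subgroup.orderOf_coe, Subgroup.orderOf_coe, hx0]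
  have hx3 : x ^ 3 = 1 := hox ▸ pow_orderOf_eq_one x
  have hx1 : x ≠ 1 := fun e => by rw [e, orderOf_one] at hox; norm_num at hox
  have hxz : x * z = z * x :=
    Subgroup.mem_centralizer_singleton_iff.1 (x0 : ↥(Subgroup.centralizer ({z} : Set G))).2
  have hXeq : Subgroup.zpowers x = XG := by
    refine Subgroup.eq_of_le_of_card_ge (Subgroup.zpowers_le.2 (hXG ▸ ⟨_, x0.2, rfl⟩)) ?_
    rw [hXG, Subgroup.card_map_of_injective Subtype.val_injective, hX, Nat.card_zpowers, hox]
  subst hXeq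
  -- coordinates in which `x` is a rotation
  set Y := (⁅Q, X⁆).map (Subgroup.centralizer ({z} : Set G)).subtype with hY
  have hYc : Nat.card Y = 8 := by rw [hY, Subgroup.card_map_of_injective Subtype.val_injective, hQX]
  have hna : ∃ a ∈ Y, ∃ b ∈ Y, a * b ≠ b * a := by
    by_contra hc
    simp only [not_exists, not_and, not_not] at hc
    refine hQXna ⟨⟨fun a b => ?_⟩⟩
    exact Subtype.ext (Subtype.ext
      (hc _ ⟨a.1, a.2, rfl⟩ _ ⟨b.1, b.2, rfl⟩))
  have hYQ : Y ≤ Q.map (Subgroup.centralizer ({z} : Set G)).subtype :=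
    Subgroup.map_mono (Subgroup.commutator_le.2 fun q hq y hy => by
      rw [commutatorElement_def, show q * y * q⁻¹ * y⁻¹ = q * (y * q⁻¹ * y⁻¹) by group]
      exact mul_mem hq (‹Q.Normal›.conj_mem _ (inv_mem hq) y))
  have hcomm : ∀ q ∈ Q.map (Subgroup.centralizer ({z} : Set G)).subtype,
      q * (x * q⁻¹ * x⁻¹) ∈ Y := by
    rintro _ ⟨q, hq, rfl⟩
    refine ⟨⁅q, (x0 : ↥(Subgroup.centralizer ({z} : Set G)))⁆,
      Subgroup.commutator_mem_commutator hq x0.2, ?_⟩
    rw [commutatorElement_def]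
    simp [hx, mul_assoc]
  obtain ⟨h', hρ⟩ := exists_twist h hxz hx3 hx1 Y hYc hna hYQ hcomm
  obtain ⟨d⟩ := exists_data h' hxz hx3 hx1 hρ hn hK hiso hidx
  have hC : Subgroup.centralizer ({x} : Set G) = Subgroup.centralizer (Subgroup.zpowers x : Set G) := by
    rw [Subgroup.zpowers_eq_closure, Subgroup.centralizer_closure]
  have hCN : Subgroup.centralizer (Subgroup.zpowers x : Set G) ≤ (Subgroup.normalizer (Subgroup.zpowers x : Set G)) :=
    Subgroup.centralizer_le_normalizer _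
  set C' := (Subgroup.centralizer (Subgroup.zpowers x : Set G)).subgroupOf (Subgroup.normalizer (Subgroup.zpowers x : Set G)) with hC'
  have hidx' : C'.index = 2 := hidx
  have hsq : ∀ g ∈ (Subgroup.normalizer (Subgroup.zpowers x : Set G)), g * g ∈ Subgroup.centralizer ({x} : Set G) := by
    intro g hg
    rw [hC]
    exact (Subgroup.mul_mem_iff_of_index_two hidx' (a := ⟨g, hg⟩) (b := ⟨g, hg⟩)).2 Iff.rfl
  have hP : IsPGroup 3 ((P : Subgroup ↥(Subgroup.normalizer (Subgroup.zpowers x : Set G))).map (Subgroup.normalizer (Subgroup.zpowers x : Set G)).subtype) := P.2.map _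
  refine d.main _ (three_le_centralizer hsq hP (Subgroup.map_subtype_le _)) hP ?_
  rw [Subgroup.card_map_of_injective Subtype.val_injective]
  refine P.card_eq_multiplicity.trans ?_
  have hcN : Nat.card (Subgroup.normalizer (Subgroup.zpowers x : Set G)) = 3 ^ 7 * 8960 := by
    rw [← Subgroup.card_mul_index C', hidx', hC',
      Nat.card_congr (Subgroup.subgroupOfEquivOfLe hCN).toEquiv, ← hC, d.card_C]
    norm_num
  rw [hcN, Nat.factorization_mul (by norm_num) (by norm_num), Finsupp.add_apply,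
    Nat.Prime.factorization_pow (by norm_num),
    Nat.factorization_eq_zero_of_not_dvd (show ¬ 3 ∣ 8960 by norm_num)]
  simp

end Cfsg.Agent.H92.SuzThree
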