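import Cfsg.Agent.H92.SuzThree.Model

/-!
U4(3) on 112 points: the forty lines of the subgroup of order 81.
-/

set_option autoImplicit false
set_option maxRecDepth 100000

namespace Cfsg.Agent.H92.SuzThree

open Cfsg.Agent.Compute Cfsg.Agent.H95.UFourThree

attribute [local irreducible] checkChain sift permDen wordsOf lex lall lcount

/-- Element of `Tg` from a code. -/
theorem code_mem {p : ℕ × ℕ} (hp : ops.okInv p.1 p.2 = true) (hs : sift ops [tLv] p.1 = true) :
    den p.1 ∈ Tg :=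
  mem_of_sift t_chain (ok_of_okInv hp).1 hs

theorem sameLine_coe {x y : HH}
    (h : SameLine (x : Equiv.Perm (Fin 112)) (y : Equiv.Perm (Fin 112))) : SameLine x y := by
  rcases h with h | h
  · exact Or.inl (Subtype.ext h)
  · exact Or.inr (Subtype.ext h)

theorem sameLine_coe_val {x y : HH} (h : SameLine x y) :
    SameLine (x : Equiv.Perm (Fin 112)) (y : Equiv.Perm (Fin 112)) := by
  rcases h with h | h
  · exact Or.inl (congrArg Subtype.val h)
  · exact Or.inr (congrArg Subtype.val h)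

theorem four_ok {p : ℕ × ℕ} (hp : p ∈ [za, zb, zc, zd]) :
    ops.okInv p.1 p.2 = true ∧ den p.1 ∈ Tg ∧ Commute (den zInv) (den p.1) := by
  have h := (lall_iff _ _).1 z_comm p hp
  simp only [Bool.and_eq_true] at h
  have hz := z_ok
  simp only [Bool.and_eq_true] at hz
  exact ⟨h.1.1, code_mem h.1.1 h.1.2,
    (comm_iff (ok_of_okInv hz.1.1).1 (ok_of_okInv h.1.1).1).1 h.2⟩

/-- Lines centralised by the involution. -/
noncomputable def aH : HH := ⟨den za.1, Tg_le_chain (four_ok (p := za) (by simp)).2.1⟩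
/-- Lines centralised by the involution. -/
noncomputable def bH : HH := ⟨den zb.1, Tg_le_chain (four_ok (p := zb) (by simp)).2.1⟩
/-- Lines centralised by the involution. -/
noncomputable def cH : HH := ⟨den zc.1, Tg_le_chain (four_ok (p := zc) (by simp)).2.1⟩
/-- Lines centralised by the involution. -/
noncomputable def dH : HH := ⟨den zd.1, Tg_le_chain (four_ok (p := zd) (by simp)).2.1⟩

theorem four_mem : aH ∈ TT ∧ bH ∈ TT ∧ cH ∈ TT ∧ dH ∈ TT :=
  ⟨(four_ok (p := za) (by simp)).2.1, (four_ok (p := zb) (by simp)).2.1,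
    (four_ok (p := zc) (by simp)).2.1, (four_ok (p := zd) (by simp)).2.1⟩

theorem four_comm : Commute zH aH ∧ Commute zH bH ∧ Commute zH cH ∧ Commute zH dH :=
  ⟨Subtype.ext (four_ok (p := za) (by simp)).2.2.eq, Subtype.ext (four_ok (p := zb) (by simp)).2.2.eq,
    Subtype.ext (four_ok (p := zc) (by simp)).2.2.eq,
    Subtype.ext (four_ok (p := zd) (by simp)).2.2.eq⟩

theorem zH_cent {t : HH} (ht : t ∈ TT) (hc : Commute zH t) :
    t = 1 ∨ SameLine t aH ∨ SameLine t bH ∨ SameLine t cH ∨ SameLine t dH := by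
  obtain ⟨e, he, hte⟩ := mem_Tg.1 (mem_TT.1 ht)
  have hz := z_ok
  simp only [Bool.and_eq_true] at hz
  have hck := (lall_iff _ _).1 z_cent e he
  have hcm : comm zInv e.u = true := by
    rw [comm_iff (ok_of_okInv hz.1.1).1 (tFacts.orb_ok e he).1, ← hte]
    exact congrArg Subtype.val hc.eq
  rw [hcm, cond_true] at hck
  simp only [Bool.or_eq_true] at hck
  have key : ∀ {p : ℕ × ℕ}, p ∈ [za, zb, zc, zd] → pm e.u p = true →
      ∀ (x : HH), (x : Equiv.Perm (Fin 112)) = den p.1 → SameLine t x := fun hp h x hx =>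
    sameLine_coe (by rw [hte, hx]; exact pm_den (four_ok hp).1 h)
  rcases hck with (((h | h) | h) | h) | h
  · exact Or.inl (Subtype.ext (by rw [hte, beq_eq h, den_one]; rfl))
  · exact Or.inr (Or.inl (key (p := za) (by simp) h aH rfl))
  · exact Or.inr (Or.inr (Or.inl (key (p := zb) (by simp) h bH rfl)))
  · exact Or.inr (Or.inr (Or.inr (Or.inl (key (p := zc) (by simp) h cH rfl))))
  · exact Or.inr (Or.inr (Or.inr (Or.inr (key (p := zd) (by simp) h dH rfl))))

theorem k_mem : den kSwap.1 ∈ H1g := by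
  have h := k_ok
  simp only [Bool.and_eq_true] at h
  exact mem_of_sift two_chain (ok_of_okInv h.1.1.1.1).1 h.1.1.1.2

/-- The swap of the first two lines. -/
noncomputable def kH : HH := ⟨den kSwap.1, H0g_le (H1g_le k_mem)⟩

theorem kH_spec : kH ∈ NT ∧ Commute zH kH ∧ SameLine (kH * aH * kH⁻¹) bH ∧
    SameLine (kH * bH * kH⁻¹) aH := by
  have h := k_ok
  simp only [Bool.and_eq_true] at h
  obtain ⟨⟨⟨⟨h1, -⟩, h3⟩, h4⟩, h5⟩ := h
  have hz := z_ok
  simp only [Bool.and_eq_true] at hz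
  have ha := four_ok (p := za) (by simp)
  have hb := four_ok (p := zb) (by simp)
  obtain ⟨-, e4⟩ := cj_den h1 (ok_of_okInv ha.1).1
  obtain ⟨-, e5⟩ := cj_den h1 (ok_of_okInv hb.1).1
  refine ⟨mem_NT.2 (H1g_le k_mem), Subtype.ext
    ((comm_iff (ok_of_okInv hz.1.1).1 (ok_of_okInv h1).1).1 h3).eq, ?_, ?_⟩
  · refine sameLine_coe ?_
    show SameLine (den kSwap.1 * den za.1 * (den kSwap.1)⁻¹) (den zb.1)
    rw [← e4]; exact pm_den hb.1 h4
  · refine sameLine_coe ?_
    show SameLine (den kSwap.1 * den zb.1 * (den kSwap.1)⁻¹) (den za.1)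
    rw [← e5]; exact pm_den ha.1 h5

theorem gen_okInv {a : ℕ × ℕ} (ha : a ∈ u43Lv1.gens) : ops.okInv a.1 a.2 = true := by
  have hl : levelOK ops u43Lv1 twoPt = true := by
    have h : (levelOK ops u43Lv1 twoPt && checkChain ops twoPt) = true := by
      have := one_chain
      unfold checkChain at this ⊢
      exact this
    rw [Bool.and_eq_true] at h
    exact h.1
  simp only [levelOK, Bool.and_eq_true, lall_iff] at hl
  exact hl.1.1.1.1.1.1 a ha

theorem rep_ok {r : (ℕ × ℕ) × ℕ × ℕ} (hr : r ∈ allReps) :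
    ops.okInv r.1.1 r.1.2 = true ∧ den r.1.1 ∈ Tg ∧ ops.okInv r.2.1 r.2.2 = true ∧
      den r.2.1 ∈ H0g := by
  have h := (lall_iff _ _).1 reps_ok r hr
  simp only [Bool.and_eq_true] at h
  exact ⟨h.1.1.1, code_mem h.1.1.1 h.1.1.2, h.1.2,
    mem_of_sift one_chain (ok_of_okInv h.1.2).1 h.2⟩

theorem ten_mem (i : Fin 10) : tenReps[(i : ℕ)]'(by rw [ten_len.1]; exact i.2) ∈ allReps :=
  List.mem_append_left _ (List.getElem_mem _)

theorem rest_mem (i : Fin 30) : restReps[(i : ℕ)]'(by rw [ten_len.2]; exact i.2) ∈ allReps :=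
  List.mem_append_right _ (List.getElem_mem _)

/-- The ten lines. -/
noncomputable def tenH (i : Fin 10) : HH :=
  ⟨den (tenReps[(i : ℕ)]'(by rw [ten_len.1]; exact i.2)).1.1,
    Tg_le_chain (rep_ok (ten_mem i)).2.1⟩

/-- The other thirty lines. -/
noncomputable def restH (i : Fin 30) : HH :=
  ⟨den (restReps[(i : ℕ)]'(by rw [ten_len.2]; exact i.2)).1.1,
    Tg_le_chain (rep_ok (rest_mem i)).2.1⟩

theorem tenH_mem (i : Fin 10) : tenH i ∈ TT := (rep_ok (ten_mem i)).2.1

theorem restH_mem (i : Fin 30) : restH i ∈ TT := (rep_ok (rest_mem i)).2.1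

theorem exists_ten {v : ℕ} (h : lex tenReps (fun r => pm v r.1) = true) (x : HH)
    (hx : (x : Equiv.Perm (Fin 112)) = den v) : ∃ i, SameLine x (tenH i) := by
  obtain ⟨r, hr, hp⟩ := (lex_iff _ _).1 h
  obtain ⟨n, hn, rfl⟩ := List.getElem_of_mem hr
  refine ⟨⟨n, by rw [ten_len.1] at hn; exact hn⟩, sameLine_coe ?_⟩
  rw [hx]
  exact pm_den (rep_ok (List.mem_append_left _ hr)).1 hp

theorem exists_rest {v : ℕ} (h : lex restReps (fun r => pm v r.1) = true) (x : HH)
    (hx : (x : Equiv.Perm (Fin 112)) = den v) : ∃ i, SameLine x (restH i) := by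
  obtain ⟨r, hr, hp⟩ := (lex_iff _ _).1 h
  obtain ⟨n, hn, rfl⟩ := List.getElem_of_mem hr
  refine ⟨⟨n, by rw [ten_len.2] at hn; exact hn⟩, sameLine_coe ?_⟩
  rw [hx]
  exact pm_den (rep_ok (List.mem_append_right _ hr)).1 hp

theorem four_lines : (∃ i, SameLine aH (tenH i)) ∧ (∃ i, SameLine bH (tenH i)) ∧
    (∃ i, SameLine cH (restH i)) ∧ ∃ i, SameLine dH (restH i) := by
  have h := ten_ab
  simp only [Bool.and_eq_true] at h
  exact ⟨exists_ten h.1.1.1 aH rfl, exists_ten h.1.1.2 bH rfl, exists_rest h.1.2 cH rfl,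
    exists_rest h.2 dH rfl⟩

theorem lines_cover {t : HH} (ht : t ∈ TT) (h1 : t ≠ 1) :
    (∃ i, SameLine t (tenH i)) ∨ ∃ i, SameLine t (restH i) := by
  obtain ⟨e, he, hte⟩ := mem_Tg.1 (mem_TT.1 ht)
  have h := (lall_iff _ _).1 cover e he
  rw [Bool.or_eq_true] at h
  rcases h with h | h
  · exact absurd (Subtype.ext (by rw [hte, beq_eq h, den_one]; rfl)) h1
  · obtain ⟨r, hr, hp⟩ := (lex_iff _ _).1 h
    rcases List.mem_append.1 hr with hr | hr
    · exact Or.inl (exists_ten ((lex_iff _ _).2 ⟨r, hr, hp⟩) t hte)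
    · exact Or.inr (exists_rest ((lex_iff _ _).2 ⟨r, hr, hp⟩) t hte)

theorem aH_ne_bH : ¬ SameLine aH bH := by
  intro h
  obtain ⟨o1, -, -⟩ := ok_of_okInv (four_ok (p := za) (by simp)).1
  obtain ⟨o2, o2', e2⟩ := ok_of_okInv (four_ok (p := zb) (by simp)).1
  have hf := ab_ne
  rw [pm, Bool.or_eq_false_iff] at hf
  rcases sameLine_coe_val h with e | e
  · exact (Bool.eq_false_iff.1 hf.1) (by rw [Nat.beq_eq]; exact den_eq o1 o2 e)
  · exact (Bool.eq_false_iff.1 hf.2) (by rw [Nat.beq_eq]; exact den_eq o1 o2' (e.trans e2.symm))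

theorem ten_conj_a (i : Fin 10) : ∃ n ∈ NT, SameLine (n * tenH i * n⁻¹) aH := by
  obtain ⟨h1, -, h3, h4⟩ := rep_ok (ten_mem i)
  refine ⟨⟨_, H0g_le h4⟩, mem_NT.2 h4, sameLine_coe ?_⟩
  obtain ⟨-, e⟩ := cj_den h3 (ok_of_okInv h1).1
  show SameLine (den _ * den _ * (den _)⁻¹) (den za.1)
  rw [← e]
  exact pm_den (four_ok (p := za) (by simp)).1 ((lall_iff _ _).1 ten_conj _ (List.getElem_mem _))

theorem rest_conj_cd (i : Fin 30) :
    ∃ n ∈ NT, SameLine (n * restH i * n⁻¹) cH ∨ SameLine (n * restH i * n⁻¹) dH := by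
  obtain ⟨h1, -, h3, h4⟩ := rep_ok (rest_mem i)
  refine ⟨⟨_, H0g_le h4⟩, mem_NT.2 h4, ?_⟩
  obtain ⟨-, e⟩ := cj_den h3 (ok_of_okInv h1).1
  have h := (lall_iff _ _).1 rest_conj _
    (List.getElem_mem (show (i : ℕ) < restReps.length by rw [ten_len.2]; exact i.2))
  rw [Bool.or_eq_true] at h
  rcases h with h | h
  · refine Or.inl (sameLine_coe ?_)
    show SameLine (den _ * den _ * (den _)⁻¹) (den zc.1)
    rw [← e]
    exact pm_den (four_ok (p := zc) (by simp)).1 h
  · refine Or.inr (sameLine_coe ?_)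
    show SameLine (den _ * den _ * (den _)⁻¹) (den zd.1)
    rw [← e]
    exact pm_den (four_ok (p := zd) (by simp)).1 h

/-- The point of a line representative. -/
noncomputable def repPt (r : (ℕ × ℕ) × ℕ × ℕ) : List ℕ := [ops.img r.1.1 1, ops.img r.1.2 1]

theorem reps_nodup : (1 :: allReps.flatMap repPt).Nodup := by
  have h := (distinct_sound _ _ reps_distinct).1
  rw [lflat_eq] at h
  exact h

theorem sameLine_index (n m : ℕ) (hn : n < allReps.length) (hm : m < allReps.length)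
    (h : SameLine (den allReps[n].1.1) (den allReps[m].1.1)) : n = m := by
  obtain ⟨-, hnd⟩ := List.nodup_cons.1 reps_nodup
  obtain ⟨-, hpw⟩ := List.nodup_flatMap.1 hnd
  obtain ⟨o1, o1', e1⟩ := ok_of_okInv (rep_ok (List.getElem_mem hn)).1
  obtain ⟨o2, o2', e2⟩ := ok_of_okInv (rep_ok (List.getElem_mem hm)).1
  have hmem : ops.img allReps[n].1.1 1 ∈ repPt allReps[m] := by
    rw [repPt, S.img_eq o1, S.img_eq o2, S.img_eq o2']
    rcases h with h | h
    · exact List.mem_cons.2 (Or.inl (congrArg (fun g => S.act g 1) h))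
    · refine List.mem_cons.2 (Or.inr (List.mem_singleton.2 ?_))
      show S.act (den _) 1 = S.act (den _) 1
      rw [h, e2]
  by_contra hne
  rcases Nat.lt_or_gt_of_ne hne with hlt | hlt
  · exact List.pairwise_iff_getElem.1 hpw n m hn hm hlt List.mem_cons_self hmem
  · exact List.pairwise_iff_getElem.1 hpw m n hm hn hlt hmem List.mem_cons_self

theorem rep_ne_one {r : (ℕ × ℕ) × ℕ × ℕ} (hr : r ∈ allReps) : den r.1.1 ≠ 1 := by
  intro e
  obtain ⟨hnot, -⟩ := List.nodup_cons.1 reps_nodup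
  refine hnot (List.mem_flatMap.2 ⟨r, hr, List.mem_cons.2 (Or.inl ?_)⟩)
  rw [S.img_eq (ok_of_okInv (rep_ok hr).1).1]
  show 1 = S.act (den r.1.1) 1
  rw [e, S.act_one]

theorem tenH_ne_one (i : Fin 10) : tenH i ≠ 1 := fun e =>
  rep_ne_one (ten_mem i) (congrArg Subtype.val e)

theorem restH_ne_one (i : Fin 30) : restH i ≠ 1 := fun e =>
  rep_ne_one (rest_mem i) (congrArg Subtype.val e)

theorem allReps_len : allReps.length = 40 := by
  rw [allReps, List.length_append, ten_len.1, ten_len.2]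

theorem allReps_ten (i : Fin 10) :
    allReps[(i : ℕ)]'(by rw [allReps_len]; omega) = tenReps[(i : ℕ)]'(by rw [ten_len.1]; exact i.2) :=
  List.getElem_append_left _

theorem allReps_rest (i : Fin 30) : allReps[10 + (i : ℕ)]'(by rw [allReps_len]; omega) =
    restReps[(i : ℕ)]'(by rw [ten_len.2]; exact i.2) := by
  have h : tenReps.length ≤ 10 + (i : ℕ) := by rw [ten_len.1]; omega
  refine (List.getElem_append_right (as := tenReps) (bs := restReps) h).trans ?_
  simp [ten_len.1]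

theorem tenH_inj {i j : Fin 10} (h : SameLine (tenH i) (tenH j)) : i = j :=
  Fin.ext (sameLine_index i j (by rw [allReps_len]; omega) (by rw [allReps_len]; omega)
    (by rw [allReps_ten i, allReps_ten j]; exact sameLine_coe_val h))

theorem restH_inj {i j : Fin 30} (h : SameLine (restH i) (restH j)) : i = j := by
  have := sameLine_index (10 + i) (10 + j) (by rw [allReps_len]; omega) (by rw [allReps_len]; omega)
    (by rw [allReps_rest i, allReps_rest j]; exact sameLine_coe_val h)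
  exact Fin.ext (by omega)

theorem ten_ne_rest (i : Fin 10) (j : Fin 30) : ¬ SameLine (tenH i) (restH j) := fun h => by
  have := sameLine_index i (10 + j) (by rw [allReps_len]; omega) (by rw [allReps_len]; omega)
    (by rw [allReps_ten i, allReps_rest j]; exact sameLine_coe_val h)
  omega

theorem ten_closed {n : HH} (hn : n ∈ NT) (i : Fin 10) :
    ∃ j, SameLine (n * tenH i * n⁻¹) (tenH j) := by
  have key : ∀ g ∈ H0g, ∀ r ∈ tenReps, ∃ r' ∈ tenReps,
      SameLine (g * den r.1.1 * g⁻¹) (den r'.1.1) := by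
    intro g hg
    haveI : Finite H0g := inferInstance
    refine Subgroup.closure_induction_left (p := fun g _ => ∀ r ∈ tenReps, ∃ r' ∈ tenReps,
      SameLine (g * den r.1.1 * g⁻¹) (den r'.1.1)) ?_ ?_ ?_ hg
    · exact fun r hr => ⟨r, hr, Or.inl (by simp)⟩
    · rintro x ⟨a, ⟨a', ha, rfl⟩, rfl⟩ y _ hy r hr
      obtain ⟨r1, hr1, hl⟩ := hy r hr
      obtain ⟨r2, hr2, hp⟩ := (lex_iff _ _).1
        ((lall_iff _ _).1 ((lall_iff _ _).1 ten_inv a' ha) r1 hr1)
      obtain ⟨-, e⟩ := cj_den (gen_okInv ha) (ok_of_okInv (rep_ok (List.mem_append_left _ hr1)).1).1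
      have h2 := pm_den (rep_ok (List.mem_append_left _ hr2)).1 hp
      rw [e] at h2
      refine ⟨r2, hr2, ?_⟩
      show SameLine (den a'.1 * y * den r.1.1 * (den a'.1 * y)⁻¹) (den r2.1.1)
      rw [show den a'.1 * y * den r.1.1 * (den a'.1 * y)⁻¹ =
        den a'.1 * (y * den r.1.1 * y⁻¹) * (den a'.1)⁻¹ by group]
      rcases hl with hl | hl <;> rw [hl]
      · exact h2
      · rw [show den a'.1 * (den r1.1.1)⁻¹ * (den a'.1)⁻¹ =
          (den a'.1 * den r1.1.1 * (den a'.1)⁻¹)⁻¹ by group]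
        rcases h2 with h2 | h2 <;> rw [h2]
        · exact Or.inr rfl
        · exact Or.inl (inv_inv _)
    · rintro x ⟨a, ⟨a', ha, rfl⟩, rfl⟩ y _ hy r hr
      obtain ⟨r1, hr1, hl⟩ := hy r hr
      -- the map on lines is injective, hence surjective
      have hf : ∀ i : Fin 10, ∃ j : Fin 10,
          SameLine (den a'.1 * (tenH i : Equiv.Perm (Fin 112)) * (den a'.1)⁻¹)
            (tenH j : Equiv.Perm (Fin 112)) := fun i => by
        obtain ⟨r2, hr2, hp⟩ := (lex_iff _ _).1 ((lall_iff _ _).1 ((lall_iff _ _).1 ten_inv a' ha)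
          (tenReps[(i : ℕ)]'(by rw [ten_len.1]; exact i.2)) (List.getElem_mem _))
        obtain ⟨-, e⟩ := cj_den (gen_okInv ha) (ok_of_okInv (rep_ok (ten_mem i)).1).1
        have h2 := pm_den (rep_ok (List.mem_append_left _ hr2)).1 hp
        rw [e] at h2
        obtain ⟨m, hm, rfl⟩ := List.getElem_of_mem hr2
        exact ⟨⟨m, by rw [ten_len.1] at hm; exact hm⟩, h2⟩
      choose f hf using hf
      have hfi : Function.Injective f := fun i j e => by
        refine tenH_inj (sameLine_coe ?_)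
        have hi := hf i
        have hj := hf j
        rw [e] at hi
        rcases hi with hi | hi <;> rcases hj with hj | hj <;>
          [left; right; right; left] <;> refine mul_right_cancel (b := (den a'.1)⁻¹) ?_ <;>
          refine mul_left_cancel (a := den a'.1) ?_ <;> simp only [← mul_assoc] <;>
          rw [hi]
        · rw [hj]
        · rw [show den a'.1 * (tenH j : Equiv.Perm (Fin 112))⁻¹ * (den a'.1)⁻¹ =
            (den a'.1 * (tenH j : Equiv.Perm (Fin 112)) * (den a'.1)⁻¹)⁻¹ by group, hj, inv_inv]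
        · rw [show den a'.1 * (tenH j : Equiv.Perm (Fin 112))⁻¹ * (den a'.1)⁻¹ =
            (den a'.1 * (tenH j : Equiv.Perm (Fin 112)) * (den a'.1)⁻¹)⁻¹ by group, hj]
        · rw [hj]
      obtain ⟨m, hm, rfl⟩ := List.getElem_of_mem hr1
      obtain ⟨i1, hi1⟩ := (Finite.surjective_of_injective hfi) ⟨m, by rw [ten_len.1] at hm; exact hm⟩
      have h3 := hf i1
      rw [hi1] at h3
      refine ⟨tenReps[(i1 : ℕ)]'(by rw [ten_len.1]; exact i1.2), List.getElem_mem _, ?_⟩
      show SameLine ((den a'.1)⁻¹ * y * den r.1.1 * ((den a'.1)⁻¹ * y)⁻¹)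
        (tenH i1 : Equiv.Perm (Fin 112))
      rw [show (den a'.1)⁻¹ * y * den r.1.1 * ((den a'.1)⁻¹ * y)⁻¹ =
        (den a'.1)⁻¹ * (y * den r.1.1 * y⁻¹) * den a'.1 by group]
      change SameLine _ (den tenReps[m].1.1) at hl
      change SameLine _ (den tenReps[m].1.1) at h3
      have e3 : (tenH i1 : Equiv.Perm (Fin 112)) =
          (den a'.1)⁻¹ * (den a'.1 * (tenH i1 : Equiv.Perm (Fin 112)) * (den a'.1)⁻¹) * den a'.1 := by
        group
      rw [e3]
      rcases hl with hl | hl <;> rcases h3 with h3 | h3 <;> rw [hl, h3]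
      · exact Or.inl rfl
      · exact Or.inr (by group)
      · exact Or.inr (by group)
      · exact Or.inl rfl
  obtain ⟨r', hr', h⟩ := key _ (mem_NT.1 hn) _
    (List.getElem_mem (show (i : ℕ) < tenReps.length by rw [ten_len.1]; exact i.2))
  obtain ⟨m, hm, rfl⟩ := List.getElem_of_mem hr'
  exact ⟨⟨m, by rw [ten_len.1] at hm; exact hm⟩, sameLine_coe h⟩

theorem tenH_span : Subgroup.closure (Set.range tenH) = TT := by
  refine le_antisymm ((Subgroup.closure_le _).2 ?_) fun t ht => ?_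
  · rintro _ ⟨i, rfl⟩; exact tenH_mem i
  · have hle : Tg ≤ (Subgroup.closure (Set.range tenH)).map chainGrp.subtype := by
      refine (Subgroup.closure_le _).2 ?_
      rintro _ ⟨a, ⟨g, hg, rfl⟩, rfl⟩
      obtain ⟨r, hr, hp⟩ := (lex_iff _ _).1 ((lall_iff _ _).1 ten_span g hg)
      have h2 := pm_den (rep_ok (List.mem_append_left _ hr)).1 hp
      obtain ⟨m, hm, rfl⟩ := List.getElem_of_mem hr
      have hi : tenH ⟨m, by rw [ten_len.1] at hm; exact hm⟩ ∈ Subgroup.closure (Set.range tenH) :=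
        Subgroup.subset_closure ⟨_, rfl⟩
      rcases h2 with h2 | h2
      · exact ⟨_, hi, h2.symm⟩
      · exact ⟨_, inv_mem hi, h2.symm⟩
    obtain ⟨y, hy, e⟩ := hle ht
    exact (Subtype.ext e : y = t) ▸ hy

end Cfsg.Agent.H92.SuzThree
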