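import Cfsg.Agent.H92.SuzThree.ModelBase
import Cfsg.Agent.Compute.Simplicity
import Cfsg.Agent.Compute.Search
import Cfsg.Prelude.Def_Transfer

/-!
U4(3) on 112 points: the elementary abelian subgroup of order 81, its normaliser, uniqueness up to
conjugation, and the lines centralised by an involution.
-/

set_option autoImplicit false
set_option maxRecDepth 100000

namespace Cfsg.Agent.H92.SuzThree

open Cfsg.Agent.Compute Cfsg.Agent.H95.UFourThree
open scoped Pointwise

attribute [local irreducible] checkChain sift permDen wordsOf lex lall lcount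

/-- The group on 112 points. -/
abbrev HH := ↥chainGrp

theorem card_HH : Nat.card HH = 3265920 := card_chainGrp

/-- The subgroup of order 81. -/
noncomputable def TT : Subgroup HH := Tg.subgroupOf chainGrp

/-- Its normaliser. -/
noncomputable def NT : Subgroup HH := Subgroup.normalizer (TT : Set HH)

theorem mem_TT {x : HH} : x ∈ TT ↔ (x : Equiv.Perm (Fin 112)) ∈ Tg := Iff.rfl

theorem Tg_le_chain : Tg ≤ chainGrp := Tg_le.trans H0g_le

theorem mem_NT {x : HH} : x ∈ NT ↔ (x : Equiv.Perm (Fin 112)) ∈ H0g := by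
  rw [NT, Subgroup.mem_normalizer_iff'']
  constructor
  · intro h
    refine centralizer_le_H0g x.2 fun t ht => ?_
    exact (h ⟨t, Tg_le_chain ht⟩).1 ht
  · intro h t
    constructor
    · intro ht
      have := Tg_norm (inv_mem h) ht
      rwa [inv_inv] at this
    · intro ht
      have := Tg_norm h ht
      show (t : Equiv.Perm (Fin 112)) ∈ Tg
      simpa [Subgroup.coe_subtype, mul_assoc] using this

theorem card_TT : Nat.card TT = 81 :=
  (Nat.card_congr (Subgroup.subgroupOfEquivOfLe Tg_le_chain).toEquiv).trans card_Tg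

theorem card_NT : Nat.card NT = 29160 := by
  have h : NT = H0g.subgroupOf chainGrp := by
    ext x; rw [mem_NT]; exact Iff.rfl
  rw [h, Nat.card_congr (Subgroup.subgroupOfEquivOfLe H0g_le).toEquiv, card_H0g]

theorem TT_le_NT : TT ≤ NT := fun _ hx => mem_NT.2 (Tg_le hx)

theorem TT_comm {x y : HH} (hx : x ∈ TT) (hy : y ∈ TT) : Commute x y :=
  Subtype.ext (Tg_comm hx hy).eq

theorem TT_cube {x : HH} (hx : x ∈ TT) : x ^ 3 = 1 := Subtype.ext (Tg_cube hx)

theorem centralizer_TT : Subgroup.centralizer (TT : Set HH) = TT := by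
  refine le_antisymm (fun x hx => ?_) (fun x hx => ?_)
  · refine centralizer_Tg x.2 fun t ht => ?_
    exact (congrArg Subtype.val (Subgroup.mem_centralizer_iff.1 hx ⟨t, Tg_le_chain ht⟩ ht)).symm
  · exact Subgroup.mem_centralizer_iff.2 fun t ht => (TT_comm ht hx).eq

/-- The two-point stabiliser inside the group. -/
noncomputable def HC : Subgroup HH := H1g.subgroupOf chainGrp

theorem mem_HC {x : HH} : x ∈ HC ↔ (x : Equiv.Perm (Fin 112)) ∈ H1g := Iff.rfl

theorem HC_le_NT : HC ≤ NT := fun _ hx => mem_NT.2 (H1g_le hx)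

theorem card_HC : Nat.card HC = 360 :=
  (Nat.card_congr (Subgroup.subgroupOfEquivOfLe (H1g_le.trans H0g_le)).toEquiv).trans card_H1g

theorem NT_split {x : HH} (hx : x ∈ NT) : ∃ t ∈ TT, ∃ h ∈ HC, x = t * h := by
  obtain ⟨t, ht, h, hh, e⟩ := split (mem_NT.1 hx)
  exact ⟨⟨t, Tg_le_chain ht⟩, ht, ⟨h, H0g_le (H1g_le hh)⟩, hh, Subtype.ext e⟩

theorem TT_inf_HC {x : HH} (h1 : x ∈ TT) (h2 : x ∈ HC) : x = 1 :=
  Subtype.ext (Tg_free h1 (mem_H1g.1 h2).2)

theorem cent_le_nine {x : HH} (hx : x ∈ NT) (hx' : x ∉ TT) :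
    {t : HH | t ∈ TT ∧ Commute x t}.ncard ≤ 9 := by
  obtain ⟨t, ht, h, hh, rfl⟩ := NT_split hx
  have h1 : (h : Equiv.Perm (Fin 112)) ≠ 1 := fun e => hx' (by
    rw [show h = 1 from Subtype.ext e, mul_one]; exact ht)
  refine le_trans ?_ (cent_le hh h1)
  refine Set.ncard_le_ncard_of_injOn (fun y : HH => (y : Equiv.Perm (Fin 112))) ?_
    (fun a _ b _ e => Subtype.ext e) (Set.toFinite _)
  rintro y ⟨hy, hc⟩
  refine ⟨hy, ?_⟩
  have e : h = t⁻¹ * (t * h) := by group
  have hc' : Commute h y := by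
    rw [e]; exact ((TT_comm ht hy).inv_left).mul_left hc
  exact congrArg Subtype.val hc'.eq

/-! ### Simplicity of the two-point stabiliser -/

theorem den_five : S.ok five.1 ∧ den five.1 ∈ H1g ∧ orderOf (den five.1) = 5 ∧
    ops.okInv five.1 five.2 = true ∧ ops.okInv fiveConj.1 fiveConj.2 = true ∧
    den fiveConj.1 ∈ H1g := by
  have h := five_ok
  simp only [Bool.and_eq_true, Bool.not_eq_true', Nat.beq_eq] at h
  obtain ⟨⟨⟨⟨⟨h1, h2⟩, h3⟩, h4⟩, h5⟩, h6⟩ := h
  haveI : Fact (Nat.Prime 5) := ⟨by norm_num⟩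
  obtain ⟨o1, -, -⟩ := ok_of_okInv h1
  obtain ⟨o2, -, -⟩ := ok_of_okInv h2
  refine ⟨o1, mem_of_sift two_chain o1 h3, ?_, h1, h2, mem_of_sift two_chain o2 h4⟩
  refine orderOf_eq_prime ?_ fun e => ?_
  · obtain ⟨-, hw⟩ := wcode_den [five.1, five.1, five.1, five.1, five.1] (by simp [o1])
    rw [h6, den_one] at hw
    rw [hw]
    simp [wden, den, pow_succ, mul_assoc]
  · have := den_eq o1 S.ok_one (e.trans den_one.symm)
    simp [this] at h5

theorem simple_HC : IsSimpleGroup ↥H1g := by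
  obtain ⟨o1, hm, ho, hi1, hi2, hmc⟩ := den_five
  set x : ↥H1g := ⟨den five.1, hm⟩
  set c : ↥H1g := ⟨den fiveConj.1, hmc⟩
  haveI : Fact (Nat.Prime 5) := ⟨by norm_num⟩
  have hx : orderOf x = 5 := by rw [← Subgroup.orderOf_coe]; exact ho
  have hc : Nat.card (Subgroup.centralizer ({x} : Set ↥H1g)) = 5 := by
    exact (card_centralizer S two_chain o1 x rfl).trans five_cent
  have hgen : Subgroup.normalClosure ({x} : Set ↥H1g) = ⊤ := by
    set K := (Subgroup.normalClosure ({x} : Set ↥H1g)).map H1g.subtype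
    have hxK : den five.1 ∈ K := ⟨x, Subgroup.subset_normalClosure (Set.mem_singleton x), rfl⟩
    have hyK : den fiveConj.1 * den five.1 * (den fiveConj.1)⁻¹ ∈ K :=
      ⟨c * x * c⁻¹, Subgroup.normalClosure_normal.conj_mem x (Subgroup.subset_normalClosure (Set.mem_singleton x)) c,
        rfl⟩
    obtain ⟨-, o1', e1'⟩ := ok_of_okInv hi1
    have hlet : ∀ i, S.ok (fiveLetter i) ∧ den (fiveLetter i) ∈ K := by
      intro i
      obtain ⟨a1, a2⟩ := cj_den hi2 o1
      obtain ⟨b1, b2⟩ := cj_den hi2 o1'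
      refine nth_ok (fun r => S.ok r ∧ den r ∈ K) ops.one ⟨S.ok_one, by rw [den_one]; exact one_mem K⟩
        _ ?_ i
      simp only [List.mem_cons, List.not_mem_nil, or_false]
      rintro a (rfl | rfl | rfl | rfl)
      · exact ⟨o1, hxK⟩
      · exact ⟨o1', by rw [e1']; exact inv_mem hxK⟩
      · exact ⟨a1, by rw [a2]; exact hyK⟩
      · refine ⟨b1, ?_⟩
        rw [b2, e1', show den fiveConj.1 * (den five.1)⁻¹ * (den fiveConj.1)⁻¹ =
          (den fiveConj.1 * den five.1 * (den fiveConj.1)⁻¹)⁻¹ by group]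
        exact inv_mem hyK
    have hw : ∀ w : List ℕ, S.ok (List.rec ops.one (fun i _ ih => ops.mul (fiveLetter i) ih) w) ∧
        den (List.rec ops.one (fun i _ ih => ops.mul (fiveLetter i) ih) w) ∈ K := by
      intro w
      induction w with
      | nil => exact ⟨S.ok_one, by show den ops.one ∈ K; rw [den_one]; exact one_mem K⟩
      | cons i t ih =>
        refine ⟨S.ok_mul (hlet i).1 ih.1, ?_⟩
        rw [den_mul (hlet i).1 ih.1]
        exact mul_mem (hlet i).2 ih.2
    have hle : H1g ≤ K := by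
      refine (Subgroup.closure_le _).2 ?_
      rintro _ ⟨a, ⟨g, hg, rfl⟩, rfl⟩
      obtain ⟨w, -, hgw⟩ := (lex_iff _ _).1 ((lall_iff _ _).1 five_gen g hg)
      show den g.1 ∈ K
      rw [beq_eq hgw]
      exact (hw w).2
    rw [eq_top_iff]
    intro g _
    obtain ⟨y, hy, e⟩ := hle g.2
    exact (Subtype.ext e : y = g) ▸ hy
  refine isSimpleGroup_of_normal_card 360 card_H1g (by norm_num)
    (fun d => d % 5 = 1 ∧ ¬ 2 ∣ d) ?_ ?_
  · intro N hN htop
    obtain ⟨h5, hmod⟩ := proper_normal_card_self hx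
      (by rw [card_H1g]; norm_num) hgen hc N htop
    refine ⟨hmod, fun h2 => h5 ?_⟩
    haveI : Fact (Nat.Prime 2) := ⟨Nat.prime_two⟩
    obtain ⟨y, hy⟩ := exists_prime_orderOf_dvd_card' (G := N) 2 h2
    rw [← Subgroup.orderOf_coe, ← Subgroup.orderOf_coe] at hy
    obtain ⟨w, hw, hok, hwy⟩ := exists_word two_chain _ (y : ↥H1g).2
    obtain ⟨ov, hv⟩ := wcode_den w hok
    rw [hwy] at hv
    have hyy : ((y : ↥H1g) : Equiv.Perm (Fin 112)) * ((y : ↥H1g) : Equiv.Perm (Fin 112)) = 1 := by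
      rw [← pow_two, ← hy, pow_orderOf_eq_one]
    have hy1 : ((y : ↥H1g) : Equiv.Perm (Fin 112)) ≠ 1 := fun e => by
      rw [e, orderOf_one] at hy; omega
    have hck := (lall_iff _ _).1 inv_five w hw
    have e1 : (Nat.beq (wcode ops w) ops.one ||
        !(Nat.beq (ops.mul (wcode ops w) (wcode ops w)) ops.one)) = false := by
      rw [Bool.or_eq_false_iff]
      refine ⟨?_, ?_⟩
      · rw [Bool.eq_false_iff]
        intro e
        exact hy1 (by rw [← hv, beq_eq e, den_one])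
      · rw [Bool.not_eq_false', Nat.beq_eq]
        exact den_eq (S.ok_mul ov ov) S.ok_one (by rw [den_mul ov ov, hv, hyy, den_one])
    rw [e1, cond_false, lex_iff] at hck
    obtain ⟨e, he, hck⟩ := hck
    obtain ⟨ou, ovv, hinv, -⟩ := (checkChain_facts S two_chain).orb_ok e he
    have hee : ops.okInv e.u e.v = true := by
      have hl : levelOK ops u43Lv2 [u43Lv3, u43Lv4] = true := by
        have h : (levelOK ops u43Lv2 [u43Lv3, u43Lv4] &&
            checkChain ops [u43Lv3, u43Lv4]) = true := by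
          have := two_chain
          unfold checkChain at this ⊢
          exact this
        rw [Bool.and_eq_true] at h
        exact h.1
      simp only [levelOK, Bool.and_eq_true, lall_iff] at hl
      exact (hl.1.1.1.1.1.2 e he).1
    obtain ⟨oc, hc'⟩ := cj_den hee ov
    set p := ops.mul (wcode ops w) (cj e.u e.v (wcode ops w)) with hp
    have op : S.ok p := S.ok_mul ov oc
    cases hb : Nat.beq p ops.one
    · rw [hb, cond_false] at hck
      obtain ⟨-, h5'⟩ := wcode_den (List.replicate 5 p) (fun a ha => by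
        rw [List.eq_of_mem_replicate ha]; exact op)
      rw [beq_eq hck, den_one] at h5'
      set u : ↥H1g := ⟨den e.u, (checkChain_facts S two_chain).orb_mem e he⟩
      have hmem : (y : ↥H1g) * (u * y * u⁻¹) ∈ N := mul_mem y.2 (hN.conj_mem _ y.2 u)
      have hden : den p = (((y : ↥H1g) * (u * y * u⁻¹) : ↥H1g) : Equiv.Perm (Fin 112)) := by
        rw [hp, den_mul ov oc, hc', hv]; rfl
      have hord : orderOf ((y : ↥H1g) * (u * y * u⁻¹)) = 5 := by
        rw [← Subgroup.orderOf_coe, ← hden]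
        refine orderOf_eq_prime ?_ fun e' => ?_
        · rw [h5']; simp [wden, den, List.replicate, pow_succ, mul_assoc]
        · rw [Bool.eq_false_iff] at hb
          exact hb (by rw [Nat.beq_eq]; exact den_eq op S.ok_one (e'.trans den_one.symm))
      rw [← hord, ← Subgroup.orderOf_mk _ hmem]
      exact orderOf_dvd_natCard _
    · rw [hb, cond_true] at hck; simp at hck
  · intro d hd ⟨h1, h2⟩
    have hle : d ≤ 360 := Nat.le_of_dvd (by norm_num) hd
    obtain ⟨q, hq⟩ := hd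
    have hd45 : d ∣ 45 := (Nat.Coprime.dvd_of_dvd_mul_left (k := d) (m := 8) (n := 45)
      (Nat.Coprime.pow_right 3 ((Nat.prime_two.coprime_iff_not_dvd.2 h2).symm)) ⟨q, hq⟩)
    have : d ∈ Nat.divisors 45 := Nat.mem_divisors.2 ⟨hd45, by norm_num⟩
    have h45 : Nat.divisors 45 = {1, 3, 5, 9, 15, 45} := by decide
    rw [h45] at this
    simp only [Finset.mem_insert, Finset.mem_singleton] at this
    omega

theorem quot_simple (K : Subgroup HH) (h1 : TT ≤ K) (h2 : K ≤ NT)
    (h3 : ∀ n ∈ NT, ∀ k ∈ K, n * k * n⁻¹ ∈ K) : K = TT ∨ K = NT := by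
  haveI := simple_HC
  set f : ↥H1g →* HH := Subgroup.inclusion (H1g_le.trans H0g_le)
  have hn : (K.comap f).Normal := ⟨fun k hk g => by
    have hg : f g ∈ NT := mem_NT.2 (H1g_le g.2)
    show f (g * k * g⁻¹) ∈ K
    rw [map_mul, map_mul, map_inv]
    exact h3 _ hg _ hk⟩
  rcases hn.eq_bot_or_eq_top with h | h
  · refine Or.inl (le_antisymm (fun k hk => ?_) h1)
    obtain ⟨t, ht, c, hc, rfl⟩ := NT_split (h2 hk)
    have hck : (⟨c, hc⟩ : ↥H1g) ∈ K.comap f := by
      show c ∈ K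
      simpa using mul_mem (inv_mem (h1 ht)) hk
    rw [h, Subgroup.mem_bot] at hck
    have e : c = 1 := Subtype.ext (congrArg Subtype.val hck :)
    rw [e, mul_one]; exact ht
  · refine Or.inr (le_antisymm h2 fun n hn' => ?_)
    obtain ⟨t, ht, c, hc, rfl⟩ := NT_split hn'
    have hck : (⟨c, hc⟩ : ↥H1g) ∈ K.comap f := h ▸ Subgroup.mem_top _
    exact mul_mem (h1 ht) hck

/-! ### Uniqueness up to conjugation -/

theorem isElementaryAbelian_map {G G' : Type*} [Group G] [Group G'] (f : G →* G') {p : ℕ}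
    {E : Subgroup G} (hE : Cfsg.IsElementaryAbelian p E) :
    Cfsg.IsElementaryAbelian p (E.map f) := by
  refine ⟨⟨⟨?_⟩⟩, ?_⟩
  · rintro ⟨_, x, hx, rfl⟩ ⟨_, y, hy, rfl⟩
    have e : x * y = y * x := congrArg Subtype.val (hE.1.is_comm.comm ⟨x, hx⟩ ⟨y, hy⟩)
    refine Subtype.ext ?_
    show f x * f y = f y * f x
    rw [← map_mul, e, map_mul]
  · rintro _ ⟨x, hx, rfl⟩
    rw [← map_pow, hE.2 x hx, map_one]

/-- The subgroup of order 9 fixing a far point. -/
noncomputable def KK : Subgroup HH := (S.grp [hLv]).subgroupOf chainGrp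

theorem hgrp_le : S.grp [hLv] ≤ H1g := by
  refine (Subgroup.closure_le _).2 ?_
  rintro _ ⟨a, ⟨g, hg, rfl⟩, rfl⟩
  exact mem_of_sift two_chain ((checkChain_facts S h_chain).gens_ok g hg)
    ((lall_iff _ _).1 h_le g hg)

theorem KK_le_HC : KK ≤ HC := fun _ hx => hgrp_le hx

theorem card_KK : Nat.card KK = 9 := by
  rw [KK, Nat.card_congr
    (Subgroup.subgroupOfEquivOfLe (hgrp_le.trans (H1g_le.trans H0g_le))).toEquiv,
    (checkChain_sound S h_chain).card, h_order]

theorem KK_fix : {t : HH | t ∈ TT ∧ ∀ k ∈ KK, Commute k t}.ncard ≤ 3 := by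
  classical
  have hc := h_fix
  rw [Nat.ble_eq, lcount_eq] at hc
  refine le_trans ?_ hc
  refine le_trans (Set.ncard_le_ncard_of_injOn (t := (fun e : Entry ℕ => den e.u) ''
      {e | e ∈ tLv.orb.filter fun e => lall hLv.gens fun g => comm g.1 e.u})
      (fun y : HH => (y : Equiv.Perm (Fin 112))) ?_ (fun a _ b _ e => Subtype.ext e)
      ((List.finite_toSet _).image _)) ?_
  · rintro t ⟨ht, hk⟩
    obtain ⟨e, he, hte⟩ := mem_Tg.1 ht
    refine ⟨e, List.mem_filter.2 ⟨he, (lall_iff _ _).2 fun g hg => ?_⟩, hte.symm⟩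
    have hog := (checkChain_facts S h_chain).gens_ok g hg
    rw [comm_iff hog (tFacts.orb_ok e he).1, ← hte]
    have hgm : den g.1 ∈ S.grp [hLv] := gens_mem S [hLv] hg
    exact congrArg Subtype.val
      (hk ⟨den g.1, H0g_le (H1g_le (hgrp_le hgm))⟩ hgm).eq
  · refine le_trans (Set.ncard_image_le (List.finite_toSet _)) ?_
    rw [← List.coe_toFinset, Set.ncard_coe_finset]
    exact List.toFinset_card_le _

theorem exists_sylow81 : ∃ P : Sylow 3 HH, ∀ E : Subgroup HH, Cfsg.IsElementaryAbelian 3 E →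
    Nat.card E = 81 → E ≤ (P : Subgroup HH) → E = TT := by
  haveI : Fact (Nat.Prime 3) := ⟨by norm_num⟩
  have hKN : KK ≤ NT := KK_le_HC.trans HC_le_NT
  have hS0 : ((TT ⊔ KK : Subgroup HH) : Set HH) = (TT : Set HH) * (KK : Set HH) :=
    Subgroup.coe_mul_of_right_le_normalizer_left TT KK hKN
  have hmem : ∀ {x : HH}, x ∈ TT ⊔ KK ↔ ∃ t ∈ TT, ∃ k ∈ KK, t * k = x := fun {x} => by
    rw [← SetLike.mem_coe, hS0, Set.mem_mul]
    rfl
  have huniq : ∀ {t t' k k' : HH}, t ∈ TT → t' ∈ TT → k ∈ KK → k' ∈ KK →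
      t * k = t' * k' → t = t' ∧ k = k' := by
    intro t t' k k' ht ht' hk hk' e
    have h1 : t'⁻¹ * t = k' * k⁻¹ := by
      rw [inv_mul_eq_iff_eq_mul, ← mul_assoc, ← e, mul_inv_cancel_right]
    have h2 := TT_inf_HC (mul_mem (inv_mem ht') ht)
      (h1 ▸ KK_le_HC (mul_mem hk' (inv_mem hk)))
    have e1 : t = t' := (inv_mul_eq_one.1 h2).symm
    subst e1
    exact ⟨rfl, mul_left_cancel e⟩
  have hc729 : Nat.card ↥(TT ⊔ KK) = 729 := by
    rw [← Nat.card_congr (Equiv.ofBijective (fun p : TT × KK =>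
      (⟨(p.1 : HH) * p.2, hmem.2 ⟨p.1, p.1.2, p.2, p.2.2, rfl⟩⟩ : ↥(TT ⊔ KK))) ⟨?_, ?_⟩),
      Nat.card_prod, card_TT, card_KK]
    · rintro ⟨a, b⟩ ⟨a', b'⟩ e
      obtain ⟨e1, e2⟩ := huniq a.2 a'.2 b.2 b'.2 (congrArg Subtype.val e)
      exact Prod.ext (Subtype.ext e1) (Subtype.ext e2)
    · rintro ⟨x, hx⟩
      obtain ⟨t, ht, k, hk, rfl⟩ := hmem.1 hx
      exact ⟨(⟨t, ht⟩, ⟨k, hk⟩), rfl⟩
  let P : Sylow 3 HH := Sylow.ofCard (TT ⊔ KK) (by
    rw [hc729, card_HH, show (3265920 : ℕ) = 3 ^ 6 * 4480 by norm_num,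
      Nat.factorization_mul (by norm_num) (by norm_num), Finsupp.add_apply,
      Nat.Prime.factorization_pow (by norm_num),
      Nat.factorization_eq_zero_of_not_dvd (show ¬ 3 ∣ 4480 by norm_num)]
    simp)
  refine ⟨P, fun E' hE hcard' hsub => ?_⟩
  have hcomm : ∀ x ∈ E', ∀ y ∈ E', Commute x y := fun x hx y hy =>
    (congrArg Subtype.val (hE.1.is_comm.comm ⟨x, hx⟩ ⟨y, hy⟩) : _)
  by_contra hne
  have hnot : ¬ E' ≤ TT := fun hle =>
    hne (Subgroup.eq_of_le_of_card_ge hle (le_of_eq (card_TT.trans hcard'.symm)))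
  obtain ⟨e0, he0, he0'⟩ := SetLike.not_le_iff_exists.1 hnot
  -- the projection to `KK`
  have hproj : ∀ x : E', ∃ k : KK, ∃ t ∈ TT, t * (k : HH) = x := fun x => by
    obtain ⟨t, ht, k, hk, e⟩ := hmem.1 (hsub x.2)
    exact ⟨⟨k, hk⟩, t, ht, e⟩
  choose pr tt htt heq using hproj
  let p : E' →* KK :=
    MonoidHom.mk' pr fun x y => by
      have e : (tt x * ((pr x : HH) * tt y * (pr x : HH)⁻¹)) * ((pr x : HH) * pr y) =
          tt (x * y) * (pr (x * y) : HH) := by
        rw [heq, Subgroup.coe_mul, ← heq x, ← heq y]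
        group
      have hm : (pr x : HH) * tt y * (pr x : HH)⁻¹ ∈ TT :=
        (Subgroup.mem_normalizer_iff.1 (hKN (pr x).2) (tt y)).1 (htt y)
      obtain ⟨-, e2⟩ := huniq (mul_mem (htt x) hm) (htt _) (mul_mem (pr x).2 (pr y).2)
        (pr (x * y)).2 e
      exact Subtype.ext e2.symm
  have hker : ∀ x : E', x ∈ p.ker ↔ (x : HH) ∈ TT := fun x => by
    rw [MonoidHom.mem_ker]
    constructor
    · intro hx
      have hx' : (pr x : HH) = 1 := congrArg Subtype.val hx
      rw [← heq x, hx', mul_one]; exact htt x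
    · intro hx
      refine Subtype.ext ?_
      exact ((huniq (htt x) hx (pr x).2 (one_mem KK) (by rw [heq, mul_one])).2)
  have hkc : Nat.card p.ker * Nat.card p.range = 81 := by
    rw [← Subgroup.index_ker, Subgroup.card_mul_index, hcard']
  have hr9 : Nat.card p.range ≤ 9 :=
    le_trans (Nat.card_le_card_of_injective Subtype.val Subtype.val_injective) card_KK.le
  have hk9 : Nat.card p.ker ≤ 9 := by
    refine le_trans ?_ (cent_le_nine (show e0 ∈ NT from ?_) he0')
    · rw [← Nat.card_coe_set_eq]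
      refine Nat.card_le_card_of_injective
        (fun x => ⟨((x : E') : HH), (hker _).1 x.2, hcomm _ he0 _ (x : E').2⟩) fun a b e => ?_
      exact Subtype.ext (Subtype.ext (congrArg Subtype.val e :))
    · exact (sup_le TT_le_NT hKN) (hsub he0)
  have hk : Nat.card p.ker = 9 ∧ Nat.card p.range = 9 := by
    constructor <;> nlinarith
  have hsurj : p.range = ⊤ := Subgroup.eq_top_of_card_eq _ (hk.2.trans card_KK.symm)
  have : Nat.card p.ker ≤ 3 := by
    refine le_trans ?_ KK_fix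
    rw [← Nat.card_coe_set_eq]
    refine Nat.card_le_card_of_injective
      (fun x => ⟨((x : E') : HH), (hker _).1 x.2, fun k hk' => ?_⟩) fun a b e => ?_
    · obtain ⟨y, hy⟩ : (⟨k, hk'⟩ : KK) ∈ p.range := hsurj ▸ Subgroup.mem_top _
      have ey : k = (tt y)⁻¹ * (y : HH) := by
        rw [← heq y]
        have : (pr y : HH) = k := congrArg Subtype.val hy
        rw [this]; group
      rw [ey]
      exact ((TT_comm (htt y) ((hker _).1 x.2)).inv_left).mul_left (hcomm _ y.2 _ (x : E').2)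
    · exact Subtype.ext (Subtype.ext (congrArg Subtype.val e :))
  omega

theorem elem81_conj (E : Subgroup HH) (hE : Cfsg.IsElementaryAbelian 3 E)
    (hcard : Nat.card E = 81) : ∃ h : HH, ∀ x, x ∈ E ↔ h * x * h⁻¹ ∈ TT := by
  haveI : Fact (Nat.Prime 3) := ⟨by norm_num⟩
  obtain ⟨P, hP⟩ := exists_sylow81
  obtain ⟨R, hR⟩ := (IsPGroup.of_card (n := 4) (by rw [hcard]; norm_num) :
    IsPGroup 3 E).exists_le_sylow
  obtain ⟨h, hh⟩ := MulAction.exists_smul_eq HH R P
  have hE' : E.map (MulAut.conj h).toMonoidHom = TT := by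
    refine hP _ (isElementaryAbelian_map _ hE) ?_ ?_
    · rw [Subgroup.card_map_of_injective (MulEquiv.injective _), hcard]
    · rintro _ ⟨x, hx, rfl⟩
      rw [← hh]
      exact ⟨x, hR hx, rfl⟩
  refine ⟨h, fun x => ⟨fun hx => hE' ▸ ⟨x, hx, rfl⟩, fun hx => ?_⟩⟩
  rw [← hE'] at hx
  obtain ⟨y, hy, e⟩ := hx
  exact (MulEquiv.injective (MulAut.conj h) e) ▸ hy

theorem TT_elem : Cfsg.IsElementaryAbelian 3 TT :=
  ⟨⟨⟨fun a b => Subtype.ext (TT_comm a.2 b.2).eq⟩⟩, fun _ ha => TT_cube ha⟩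

/-- A 3-subgroup containing `TT` has no other elementary abelian subgroup of order 81. -/
theorem elem81_unique (U : Subgroup HH) (hU : IsPGroup 3 U) (hT : TT ≤ U) (E : Subgroup HH)
    (hE : Cfsg.IsElementaryAbelian 3 E) (hcard : Nat.card E = 81) (hEU : E ≤ U) : E = TT := by
  haveI : Fact (Nat.Prime 3) := ⟨by norm_num⟩
  obtain ⟨P, hP⟩ := exists_sylow81
  obtain ⟨R, hR⟩ := hU.exists_le_sylow
  obtain ⟨h, hh⟩ := MulAction.exists_smul_eq HH R P
  have key : ∀ E : Subgroup HH, Cfsg.IsElementaryAbelian 3 E → Nat.card E = 81 → E ≤ U →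
      E.map (MulAut.conj h).toMonoidHom = TT := by
    intro E hE hc hEU
    refine hP _ (isElementaryAbelian_map _ hE) ?_ ?_
    · rw [Subgroup.card_map_of_injective (MulEquiv.injective _), hc]
    · rintro _ ⟨x, hx, rfl⟩
      rw [← hh]
      exact ⟨x, hR (hEU hx), rfl⟩
  exact Subgroup.map_injective (MulEquiv.injective (MulAut.conj h))
    ((key E hE hcard hEU).trans (key TT TT_elem card_TT hT).symm)

/-- The involution. -/
noncomputable def zH : HH :=
  ⟨den zInv, H0g_le (H1g_le (by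
    have h := z_ok
    simp only [Bool.and_eq_true] at h
    exact mem_of_sift two_chain (ok_of_okInv h.1.1).1 h.1.2))⟩

theorem zH_spec : zH ∈ NT ∧ zH * zH = 1 ∧ zH ≠ 1 := by
  have h := z_ok
  simp only [Bool.and_eq_true, Bool.not_eq_true'] at h
  obtain ⟨ho, -, h3⟩ := ok_of_okInv h.1.1
  refine ⟨mem_NT.2 (H1g_le (mem_of_sift two_chain ho h.1.2)), Subtype.ext ?_, fun e => ?_⟩
  · show den zInv * den zInv = 1
    nth_rw 1 [h3]
    exact inv_mul_cancel _
  · have := den_eq ho S.ok_one ((congrArg Subtype.val e).trans den_one.symm)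
    simp [this] at h

theorem inv_conj {u : HH} (hu : u * u = 1) (hu1 : u ≠ 1) : ∃ h : HH, h * u * h⁻¹ = zH := by
  haveI : Fact (Nat.Prime 2) := ⟨Nat.prime_two⟩
  have hple : S.grp pChain ≤ chainGrp := by
    refine (Subgroup.closure_le _).2 ?_
    rintro _ ⟨a, ⟨g, hg, rfl⟩, rfl⟩
    exact mem_of_sift full_chain ((checkChain_sound S p_chain).gens_ok g hg)
      ((lall_iff _ _).1 p_le g hg)
  let P : Sylow 2 HH := Sylow.ofCard ((S.grp pChain).subgroupOf chainGrp) (by
    rw [Nat.card_congr (Subgroup.subgroupOfEquivOfLe hple).toEquiv,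
      (checkChain_sound S p_chain).card, p_order, card_HH,
      show (3265920 : ℕ) = 2 ^ 7 * 25515 by norm_num,
      Nat.factorization_mul (by norm_num) (by norm_num), Finsupp.add_apply,
      Nat.Prime.factorization_pow Nat.prime_two,
      Nat.factorization_eq_zero_of_not_dvd (show ¬ 2 ∣ 25515 by norm_num)]
    simp)
  have h2 : orderOf u = 2 := orderOf_eq_prime (by rw [pow_two]; exact hu) hu1
  obtain ⟨R, hR⟩ := (IsPGroup.of_card (n := 1) (by rw [Nat.card_zpowers, h2, pow_one]) :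
    IsPGroup 2 (Subgroup.zpowers u)).exists_le_sylow
  obtain ⟨g, hg⟩ := MulAction.exists_smul_eq HH R P
  have hmem : g * u * g⁻¹ ∈ (P : Subgroup HH) := by
    rw [← hg]; exact ⟨u, hR (Subgroup.mem_zpowers u), rfl⟩
  obtain ⟨w, hw, hok, hwu⟩ := exists_word p_chain _ hmem
  obtain ⟨ov, hv⟩ := wcode_den w hok
  rw [hwu, show chainGrp.subtype (g * u * g⁻¹) = ((g * u * g⁻¹ : HH) : Equiv.Perm (Fin 112)) from rfl]
    at hv
  have hck := (lall_iff _ _).1 inv_wit w hw
  have e1 : (Nat.beq (wcode ops w) ops.one ||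
      !(Nat.beq (ops.mul (wcode ops w) (wcode ops w)) ops.one)) = false := by
    rw [Bool.or_eq_false_iff]
    refine ⟨?_, ?_⟩
    · rw [Bool.eq_false_iff]
      intro e
      refine hu1 ?_
      have : g * u * g⁻¹ = 1 := Subtype.ext (by
        rw [← hv, beq_eq e, den_one]; rfl)
      rw [← conj_eq_one_iff]; exact this
    · rw [Bool.not_eq_false', Nat.beq_eq]
      refine den_eq (S.ok_mul ov ov) S.ok_one ?_
      rw [den_mul ov ov, hv, den_one]
      have : g * u * g⁻¹ * (g * u * g⁻¹) = 1 := by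
        rw [conj_mul, hu, mul_one, mul_inv_cancel]
      exact congrArg Subtype.val this
  rw [e1, cond_false, lex_iff] at hck
  obtain ⟨⟨t, c, ci⟩, -, hck⟩ := hck
  cases hb : Nat.beq (wcode ops w) t
  · rw [hb, cond_false] at hck; simp at hck
  rw [hb, cond_true, Bool.and_eq_true, Bool.and_eq_true] at hck
  obtain ⟨⟨hi, hs⟩, hz⟩ := hck
  obtain ⟨oc, -, -⟩ := ok_of_okInv hi
  have hct : t = wcode ops w := (beq_eq hb).symm
  subst hct
  obtain ⟨-, hcj⟩ := cj_den hi ov
  refine ⟨⟨den c, mem_of_sift full_chain oc hs⟩ * g, Subtype.ext ?_⟩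
  show _ = den zInv
  rw [← beq_eq hz, hcj, hv]
  simp only [Subgroup.coe_mul, Subgroup.coe_inv]
  group

end Cfsg.Agent.H92.SuzThree
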