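import Cfsg.Agent.H92.SuzThree.ModelCheck
import Cfsg.Agent.H95.UFourThree

/-!
The subgroup of order 81 in the point stabiliser of U4(3) on 112 lines: translation of the checks.
-/

set_option autoImplicit false
set_option maxRecDepth 100000

namespace Cfsg.Agent.H92.SuzThree

open Cfsg.Agent.Compute Cfsg.Agent.H95.UFourThree

attribute [local irreducible] checkChain sift permDen wordsOf lex lall lcount

/-- Soundness of the packed permutations. -/
noncomputable def S : Sound (G := Equiv.Perm (Fin 112)) ops := permSound 7 112 two_pow_seven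

/-- Meaning of a code. -/
noncomputable def den (r : ℕ) : Equiv.Perm (Fin 112) := S.den r

theorem chainGrp_eq : chainGrp = S.grp u43Chain := rfl

theorem u43Chain_eq : u43Chain = u43Lv0 :: onePt := rfl

theorem full_chain : checkChain ops u43Chain = true := chain_ok

theorem one_chain : checkChain ops onePt = true :=
  checkChain_tail (by rw [← u43Chain_eq]; exact full_chain)

theorem two_chain : checkChain ops twoPt = true := checkChain_tail one_chain

/-- The subgroup of order 81. -/
noncomputable def Tg : Subgroup (Equiv.Perm (Fin 112)) := S.grp [tLv]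

/-- The point stabiliser. -/
noncomputable def H0g : Subgroup (Equiv.Perm (Fin 112)) := S.grp onePt

/-- The two-point stabiliser. -/
noncomputable def H1g : Subgroup (Equiv.Perm (Fin 112)) := S.grp twoPt

theorem lex_iff {α : Type} (l : List α) (f : α → Bool) :
    lex l f = true ↔ ∃ a ∈ l, f a = true := by
  induction l with
  | nil => simp [lex]
  | cons a t ih =>
    have h : lex (a :: t) f = cond (f a) true (lex t f) := by simp [lex]
    cases ha : f a <;> simp [h, ha, ih]

theorem lcount_eq {α : Type} (l : List α) (f : α → Bool) :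
    lcount l f = (l.filter f).length := by
  induction l with
  | nil => simp [lcount]
  | cons a t ih =>
    have h : lcount (a :: t) f = cond (f a) (lcount t f + 1) (lcount t f) := by simp [lcount]
    cases ha : f a <;> simp [h, ha, ih]

theorem beq_eq {a b : ℕ} (h : Nat.beq a b = true) : a = b := Nat.eq_of_beq_eq_true h

theorem ok_of_okInv {a b : ℕ} (h : ops.okInv a b = true) :
    S.ok a ∧ S.ok b ∧ den b = (den a)⁻¹ := S.okInv_sound h

theorem mem_of_sift {ls : List (Level ℕ)} (h : checkChain ops ls = true) {r : ℕ} (hr : S.ok r)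
    (hs : sift ops ls r = true) : den r ∈ S.grp ls :=
  ((checkChain_sound S h).sift_iff r hr).1 hs

theorem den_eq {a b : ℕ} (ha : S.ok a) (hb : S.ok b) (h : den a = den b) : a = b :=
  Nat.eq_of_beq_eq_true ((S.eqv_iff ha hb).2 h)

theorem den_one : den ops.one = 1 := S.den_one

theorem den_mul {a b : ℕ} (ha : S.ok a) (hb : S.ok b) : den (ops.mul a b) = den a * den b :=
  S.den_mul ha hb

theorem comm_iff {a b : ℕ} (ha : S.ok a) (hb : S.ok b) :
    comm a b = true ↔ Commute (den a) (den b) := by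
  rw [comm, Nat.beq_eq]
  refine ⟨fun h => ?_, fun h => den_eq (S.ok_mul ha hb) (S.ok_mul hb ha) ?_⟩
  · show den a * den b = den b * den a
    rw [← den_mul ha hb, h, den_mul hb ha]
  · rw [den_mul ha hb, den_mul hb ha]; exact h.eq

theorem cj_den {g gi t : ℕ} (hg : ops.okInv g gi = true) (ht : S.ok t) :
    S.ok (cj g gi t) ∧ den (cj g gi t) = den g * den t * (den g)⁻¹ := by
  obtain ⟨h1, h2, h3⟩ := ok_of_okInv hg
  refine ⟨S.ok_mul h1 (S.ok_mul ht h2), ?_⟩
  rw [cj, den_mul h1 (S.ok_mul ht h2), den_mul ht h2, h3, mul_assoc]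

/-- Equal up to inversion. -/
def SameLine {G : Type*} [Group G] (x y : G) : Prop := x = y ∨ x = y⁻¹

theorem pm_den {v : ℕ} {p : ℕ × ℕ} (hp : ops.okInv p.1 p.2 = true) (h : pm v p = true) :
    SameLine (den v) (den p.1) := by
  obtain ⟨-, -, h3⟩ := ok_of_okInv hp
  rw [pm, Bool.or_eq_true, Nat.beq_eq, Nat.beq_eq] at h
  rcases h with rfl | rfl
  · exact Or.inl rfl
  · exact Or.inr h3

theorem grp_nil : S.grp ([] : List (Level ℕ)) = ⊥ := by simp [Sound.grp, nextGens]

theorem wcode_cons {R : Type} (o : Ops R) (a : R) (w : List R) :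
    wcode o (a :: w) = o.mul a (wcode o w) := rfl

theorem wcode_den : ∀ w : List ℕ, (∀ a ∈ w, S.ok a) →
    S.ok (wcode ops w) ∧ den (wcode ops w) = wden S w := by
  intro w
  induction w with
  | nil => intro _; exact ⟨S.ok_one, den_one⟩
  | cons a t ih =>
    intro h
    obtain ⟨h1, h2⟩ := ih fun b hb => h b (List.mem_cons_of_mem _ hb)
    have ha := h a List.mem_cons_self
    refine ⟨S.ok_mul ha h1, ?_⟩
    rw [wcode_cons, den_mul ha h1, h2]
    simp [wden, den]

/-- Every element of a chain's group is the product of one of the words. -/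
theorem exists_word : ∀ {ls : List (Level ℕ)}, checkChain ops ls = true → ∀ g ∈ S.grp ls,
    ∃ w ∈ wordsOf ls, (∀ a ∈ w, S.ok a) ∧ wden S w = g := by
  intro ls
  induction ls with
  | nil =>
    intro _ g hg
    rw [grp_nil, Subgroup.mem_bot] at hg
    exact ⟨[], by simp [wordsOf], by simp, hg.symm⟩
  | cons l t ih =>
    intro h g hg
    obtain ⟨e, he, k, hk, rfl⟩ :=
      (checkChain_facts S h).coset (checkChain_sound S (checkChain_tail h)) hg
    obtain ⟨w, hw, hok, rfl⟩ := ih (checkChain_tail h) k hk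
    refine ⟨e.u :: w, ?_, ?_, by simp [wden]⟩
    · have hdef : wordsOf (l :: t) =
          lflat l.orb fun e => lflat (wordsOf t) fun w => [e.u :: w] := by simp [wordsOf]
      rw [hdef, lflat_eq, List.mem_flatMap]
      exact ⟨e, he, by rw [lflat_eq, List.mem_flatMap]; exact ⟨w, hw, by simp⟩⟩
    · intro a ha
      rcases List.mem_cons.1 ha with rfl | ha
      · exact ((checkChain_facts S h).orb_ok e he).1
      · exact hok a ha

theorem tFacts : LevelFacts S tLv [] := checkChain_facts S t_chain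

theorem h1Facts : LevelFacts S u43Lv1 twoPt := checkChain_facts S one_chain

theorem tLv_base : tLv.base = 1 := rfl

theorem lv1_base : u43Lv1.base = 1 := rfl

theorem mem_Tg {g : Equiv.Perm (Fin 112)} :
    g ∈ Tg ↔ ∃ e ∈ tLv.orb, g = den e.u := by
  constructor
  · intro hg
    obtain ⟨e, he, k, hk, rfl⟩ := tFacts.coset (checkChain_sound S (checkChain_tail t_chain)) hg
    rw [grp_nil, Subgroup.mem_bot] at hk
    exact ⟨e, he, by rw [hk, mul_one]; rfl⟩
  · rintro ⟨e, he, rfl⟩
    exact tFacts.orb_mem e he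

theorem card_Tg : Nat.card Tg = 81 := by
  rw [Tg, (checkChain_sound S t_chain).card, t_order]

theorem Tg_le : Tg ≤ H0g := by
  refine (Subgroup.closure_le _).2 ?_
  rintro _ ⟨a, ⟨g, hg, rfl⟩, rfl⟩
  exact mem_of_sift one_chain (tFacts.gens_ok g hg) ((lall_iff _ _).1 t_le g hg)

theorem H1g_le : H1g ≤ H0g := h1Facts.next_le

theorem H0g_le : H0g ≤ chainGrp := by
  rw [chainGrp_eq, u43Chain_eq]
  exact (checkChain_facts S (by rw [← u43Chain_eq]; exact full_chain)).next_le

theorem mem_H0g {g : Equiv.Perm (Fin 112)} : g ∈ H0g ↔ g ∈ chainGrp ∧ S.act g 0 = 0 :=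
  mem_tail_iff S (l := u43Lv0) (by rw [← u43Chain_eq]; exact full_chain) g

theorem mem_H1g {g : Equiv.Perm (Fin 112)} : g ∈ H1g ↔ g ∈ H0g ∧ S.act g 1 = 1 :=
  mem_tail_iff S one_chain g

theorem Tg_comm {g h : Equiv.Perm (Fin 112)} (hg : g ∈ Tg) (hh : h ∈ Tg) : Commute g h := by
  have key : ∀ a ∈ nextGens [tLv], ∀ b ∈ nextGens [tLv], Commute (den a.1) (den b.1) :=
    fun a ha b hb => (comm_iff (tFacts.gens_ok a ha) (tFacts.gens_ok b hb)).1
      ((lall_iff _ _).1 ((lall_iff _ _).1 t_comm a ha) b hb)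
  refine Subgroup.closure_induction₂ (p := fun x y _ _ => Commute x y) ?_ ?_ ?_ ?_ ?_ ?_ ?_ hg hh
  · rintro x y ⟨a, ⟨a', ha, rfl⟩, rfl⟩ ⟨b, ⟨b', hb, rfl⟩, rfl⟩
    exact key a' ha b' hb
  · intros; exact Commute.one_left _
  · intros; exact Commute.one_right _
  · intro x y w _ _ _ h1 h2; exact h1.mul_left h2
  · intro x y w _ _ _ h1 h2; exact h1.mul_right h2
  · intro x y _ _ h1; exact h1.inv_left
  · intro x y _ _ h1; exact h1.inv_right

theorem Tg_cube {g : Equiv.Perm (Fin 112)} (hg : g ∈ Tg) : g ^ 3 = 1 := by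
  obtain ⟨e, he, rfl⟩ := mem_Tg.1 hg
  have ho := (tFacts.orb_ok e he).1
  have h := beq_eq ((lall_iff _ _).1 t_cube e he)
  have h2 := congrArg den h
  rw [den_mul ho (S.ok_mul ho ho), den_mul ho ho, den_one] at h2
  rw [pow_succ, pow_succ, pow_one, mul_assoc]
  exact h2

theorem Tg_norm {g : Equiv.Perm (Fin 112)} (hg : g ∈ H0g) {t : Equiv.Perm (Fin 112)}
    (ht : t ∈ Tg) : g * t * g⁻¹ ∈ Tg := by
  have key : g ∈ Subgroup.normalizer (Tg : Set (Equiv.Perm (Fin 112))) := by
    refine (Subgroup.closure_le _).2 ?_ hg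
    rintro _ ⟨a, ⟨a', ha, rfl⟩, rfl⟩
    have hf : ∀ t ∈ Tg, den a'.1 * t * (den a'.1)⁻¹ ∈ Tg := by
      intro t ht
      refine Subgroup.closure_induction
        (p := fun t _ => den a'.1 * t * (den a'.1)⁻¹ ∈ Tg) ?_ ?_ ?_ ?_ ht
      · rintro _ ⟨b, ⟨b', hb, rfl⟩, rfl⟩
        have hi : ops.okInv a'.1 a'.2 = true := by
          have hl : levelOK ops u43Lv1 twoPt = true := by
            have h : (levelOK ops u43Lv1 twoPt && checkChain ops twoPt) = true := by
              have := one_chain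
              unfold checkChain at this ⊢
              exact this
            rw [Bool.and_eq_true] at h
            exact h.1
          simp only [levelOK, Bool.and_eq_true, lall_iff] at hl
          exact hl.1.1.1.1.1.1 a' ha
        obtain ⟨h1, h2⟩ := cj_den hi (tFacts.gens_ok b' hb)
        show den a'.1 * den b'.1 * (den a'.1)⁻¹ ∈ Tg
        rw [← h2]
        exact mem_of_sift t_chain h1 ((lall_iff _ _).1 ((lall_iff _ _).1 t_norm a' ha) b' hb)
      · simp
      · intro x y _ _ hx hy
        have : den a'.1 * (x * y) * (den a'.1)⁻¹ =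
            (den a'.1 * x * (den a'.1)⁻¹) * (den a'.1 * y * (den a'.1)⁻¹) := by group
        rw [this]; exact mul_mem hx hy
      · intro x _ hx
        have : den a'.1 * x⁻¹ * (den a'.1)⁻¹ = (den a'.1 * x * (den a'.1)⁻¹)⁻¹ := by group
        rw [this]; exact inv_mem hx
    exact Subgroup.mem_normalizer_iff_map_conj_eq.2
      (Subgroup.eq_of_le_of_card_ge (by rintro _ ⟨t, ht, rfl⟩; exact hf t ht)
        (le_of_eq (Subgroup.card_map_of_injective (MulEquiv.injective _)).symm))
  exact (Subgroup.mem_normalizer_iff.1 key t).1 ht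

theorem Tg_free {t : Equiv.Perm (Fin 112)} (ht : t ∈ Tg) (h : S.act t 1 = 1) : t = 1 := by
  obtain ⟨e, he, rfl⟩ := mem_Tg.1 ht
  obtain ⟨e1, he1, hp1, h1⟩ := tFacts.one_entry
  have hp : e.pt = e1.pt := by
    rw [hp1, ← (tFacts.orb_ok e he).2.2.2, tLv_base]
    exact h
  rw [List.inj_on_of_nodup_map tFacts.nodup he he1 hp]
  exact h1

theorem lv1_len : u43Lv1.orb.length = 81 := by decide +kernel

theorem tLv_len : tLv.orb.length = 81 := by decide +kernel

/-- The point stabiliser is the product of `Tg` and the two-point stabiliser. -/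
theorem split {g : Equiv.Perm (Fin 112)} (hg : g ∈ H0g) :
    ∃ t ∈ Tg, ∃ h ∈ H1g, g = t * h := by
  have hsub : ∀ p ∈ tLv.orb.map Entry.pt, p ∈ u43Lv1.orb.map Entry.pt := fun p hp => by
    obtain ⟨t, ht, hpt⟩ := (orbit_iff S t_chain p).2 hp
    exact (orbit_iff S one_chain p).1 ⟨t, Tg_le ht, by rw [lv1_base, ← tLv_base]; exact hpt⟩
  have heq : (tLv.orb.map Entry.pt).toFinset = (u43Lv1.orb.map Entry.pt).toFinset :=
    Finset.eq_of_subset_of_card_le (fun p hp => List.mem_toFinset.2 (hsub p (List.mem_toFinset.1 hp)))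
      (by rw [List.toFinset_card_of_nodup h1Facts.nodup, List.toFinset_card_of_nodup tFacts.nodup,
        List.length_map, List.length_map, lv1_len, tLv_len])
  have hmem : S.act g 1 ∈ tLv.orb.map Entry.pt := by
    rw [← List.mem_toFinset, heq, List.mem_toFinset]
    exact (orbit_iff S one_chain _).1 ⟨g, hg, rfl⟩
  obtain ⟨t, ht, hp⟩ := (orbit_iff S t_chain _).2 hmem
  rw [tLv_base] at hp
  refine ⟨t, ht, t⁻¹ * g, mem_H1g.2 ⟨mul_mem (inv_mem (Tg_le ht)) hg, ?_⟩, by group⟩
  rw [S.act_mul, ← hp, ← S.act_mul, inv_mul_cancel, S.act_one]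

theorem centralizer_le_H0g {g : Equiv.Perm (Fin 112)} (hg : g ∈ chainGrp)
    (hn : ∀ t ∈ Tg, g⁻¹ * t * g ∈ Tg) : g ∈ H0g := by
  refine mem_H0g.2 ⟨hg, ?_⟩
  have hfix0 : ∀ t ∈ Tg, S.act t 0 = 0 := fun t ht => (mem_H0g.1 (Tg_le ht)).2
  have hlt : S.act g 0 < 112 := by
    show permAct 112 g 0 < 112
    simp [permAct]
  by_contra hne
  have := (allN_iff _ _).1 t_moves _ hlt
  rw [Bool.or_eq_true, Nat.beq_eq] at this
  rcases this with h | h
  · exact hne h
  · have hall : lall tLv.gens (fun t => Nat.beq (ops.img t.1 (S.act g 0)) (S.act g 0)) = true := by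
      rw [lall_iff]
      intro t ht
      rw [Nat.beq_eq, S.img_eq (tFacts.gens_ok t ht)]
      have h2 := hfix0 _ (hn _ (gens_mem S [tLv] ht))
      calc S.act (S.den t.1) (S.act g 0) = S.act g (S.act (g⁻¹ * S.den t.1 * g) 0) := by
            rw [← S.act_mul, ← S.act_mul]
            congr 1
            group
        _ = S.act g 0 := by rw [h2]
    rw [hall] at h
    simp at h

/-- A nontrivial element of the two-point stabiliser centralises at most nine elements of `Tg`. -/
theorem cent_le {h : Equiv.Perm (Fin 112)} (hh : h ∈ H1g) (h1 : h ≠ 1) :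
    {t : Equiv.Perm (Fin 112) | t ∈ Tg ∧ Commute h t}.ncard ≤ 9 := by
  classical
  obtain ⟨w, hw, hok, rfl⟩ := exists_word two_chain h hh
  have hc := (lall_iff _ _).1 fix_le w hw
  rw [Bool.or_eq_true] at hc
  rcases hc with hc | hc
  · refine absurd (eq_one_of_fix_bases S two_chain _ hh fun b hb => ?_) h1
    rw [← imgW_eq S w hok]
    exact beq_eq ((lall_iff _ _).1 hc b hb)
  · rw [Nat.ble_eq, lcount_eq] at hc
    refine le_trans ?_ hc
    refine le_trans (Set.ncard_le_ncard (t := (fun e : Entry ℕ => den e.u) ''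
      {e | e ∈ tLv.orb.filter fun e => Nat.beq (imgW ops w e.pt) e.pt}) ?_ ?_) ?_
    · rintro t ⟨ht, hcom⟩
      obtain ⟨e, he, rfl⟩ := mem_Tg.1 ht
      refine ⟨e, List.mem_filter.2 ⟨he, ?_⟩, rfl⟩
      rw [Nat.beq_eq, imgW_eq S w hok]
      have hb : S.act (den e.u) 1 = e.pt := (tFacts.orb_ok e he).2.2.2
      rw [← hb, ← S.act_mul, hcom.eq, S.act_mul, (mem_H1g.1 hh).2]
    · exact (List.finite_toSet _).image _
    · refine le_trans (Set.ncard_image_le (List.finite_toSet _)) ?_
      rw [← List.coe_toFinset, Set.ncard_coe_finset]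
      exact List.toFinset_card_le _

theorem centralizer_Tg {g : Equiv.Perm (Fin 112)} (hg : g ∈ chainGrp)
    (hc : ∀ t ∈ Tg, Commute g t) : g ∈ Tg := by
  have h0 : g ∈ H0g := centralizer_le_H0g hg fun t ht => by
    rw [mul_assoc, ← (hc t ht).eq, inv_mul_cancel_left]; exact ht
  obtain ⟨t, ht, h, hh, rfl⟩ := split h0
  by_cases h1 : h = 1
  · rw [h1, mul_one]; exact ht
  exfalso
  have hle := cent_le hh h1
  have hall : {x : Equiv.Perm (Fin 112) | x ∈ Tg ∧ Commute h x} = (Tg : Set (Equiv.Perm (Fin 112))) := by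
    refine Set.ext fun x => ⟨fun hx => hx.1, fun hx => ⟨hx, ?_⟩⟩
    have e : h = t⁻¹ * (t * h) := by group
    rw [e]
    exact ((Tg_comm ht hx).inv_left).mul_left (hc x hx)
  rw [hall, ← Nat.card_coe_set_eq] at hle
  have := card_Tg
  change Nat.card Tg ≤ 9 at hle
  omega

theorem card_H0g : Nat.card H0g = 29160 := by
  rw [H0g, (checkChain_sound S one_chain).card]
  decide +kernel

theorem card_H1g : Nat.card H1g = 360 := by
  rw [H1g, (checkChain_sound S two_chain).card, twoPt_order]

end Cfsg.Agent.H92.SuzThree
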