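import Cfsg.Agent.H92.SuzThree.ModelData
import Cfsg.Agent.H95.UFourThreeData
import Cfsg.Agent.Compute.PermRep
import Cfsg.Agent.Compute.Classes

/-!
Kernel checks on the subgroup of order 81 in the point stabiliser of U4(3) on 112 lines.
-/

set_option autoImplicit false
set_option Elab.async false
set_option maxRecDepth 100000

namespace Cfsg.Agent.H92.SuzThree

open Cfsg.Agent.Compute Cfsg.Agent.H95.UFourThree

/-- Operations on packed permutations of 112 points. -/
noncomputable def ops : Ops ℕ := permOps 7 112

/-- The two-point stabiliser. -/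
def twoPt : List (Level ℕ) := [u43Lv2, u43Lv3, u43Lv4]

/-- The point stabiliser. -/
def onePt : List (Level ℕ) := u43Lv1 :: twoPt

/-- All products of transversal elements. -/
noncomputable def wordsOf {R : Type} (ls : List (Level R)) : List (List R) :=
  List.rec [[]] (fun l _ ih => lflat l.orb fun e => lflat ih fun w => [e.u :: w]) ls

/-- Product of a word. -/
noncomputable def wcode {R : Type} (o : Ops R) (w : List R) : R :=
  List.rec o.one (fun a _ ih => o.mul a ih) w

/-- Counting. -/
noncomputable def lcount {α : Type} (l : List α) (f : α → Bool) : ℕ :=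
  List.rec 0 (fun a _ ih => cond (f a) (Nat.add ih 1) ih) l

/-- Existence. -/
noncomputable def lex {α : Type} (l : List α) (f : α → Bool) : Bool :=
  List.rec false (fun a _ ih => cond (f a) true ih) l

/-- One of a pair. -/
noncomputable def pm (v : ℕ) (p : ℕ × ℕ) : Bool := Nat.beq v p.1 || Nat.beq v p.2

/-- Conjugate code. -/
noncomputable def cj (g gi t : ℕ) : ℕ := ops.mul g (ops.mul t gi)

/-- Commuting codes. -/
noncomputable def comm (g t : ℕ) : Bool := Nat.beq (ops.mul g t) (ops.mul t g)

/-- All representatives. -/
def allReps : List ((ℕ × ℕ) × ℕ × ℕ) := tenReps ++ restReps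

theorem t_chain : checkChain ops [tLv] = true := by decide +kernel

theorem t_order : order [tLv] = 81 := by decide +kernel

theorem h_chain : checkChain ops [hLv] = true := by decide +kernel

theorem h_order : order [hLv] = 9 := by decide +kernel

theorem p_chain : checkChain ops pChain = true := by decide +kernel

theorem p_order : order pChain = 128 := by decide +kernel

theorem twoPt_order : order twoPt = 360 := by decide +kernel

theorem t_le : lall tLv.gens (fun g => sift ops onePt g.1) = true := by decide +kernel

theorem h_le : lall hLv.gens (fun g => sift ops twoPt g.1) = true := by decide +kernel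

theorem p_le : lall (nextGens pChain) (fun g => sift ops u43Chain g.1) = true := by decide +kernel

theorem t_comm : lall tLv.gens (fun g => lall tLv.gens (fun h => comm g.1 h.1)) = true := by
  decide +kernel

theorem t_cube : lall tLv.orb (fun e => Nat.beq (ops.mul e.u (ops.mul e.u e.u)) ops.one) = true := by
  decide +kernel

theorem t_norm : lall u43Lv1.gens (fun g => lall tLv.gens (fun t =>
    sift ops [tLv] (cj g.1 g.2 t.1))) = true := by
  decide +kernel

theorem t_moves : allN 112 (fun p => Nat.beq p 0 ||
    !(lall tLv.gens (fun t => Nat.beq (ops.img t.1 p) p))) = true := by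
  decide +kernel

theorem fix_le : lall (wordsOf twoPt) (fun w =>
    lall (basesOf twoPt) (fun b => Nat.beq (imgW ops w b) b) ||
      Nat.ble (lcount tLv.orb (fun e => Nat.beq (imgW ops w e.pt) e.pt)) 9) = true := by
  decide +kernel

theorem h_fix : Nat.ble (lcount tLv.orb (fun e =>
    lall hLv.gens (fun g => comm g.1 e.u))) 3 = true := by
  decide +kernel

theorem five_ok : (ops.okInv five.1 five.2 && ops.okInv fiveConj.1 fiveConj.2 &&
    sift ops twoPt five.1 && sift ops twoPt fiveConj.1 &&
    !(Nat.beq five.1 ops.one) &&
    Nat.beq (wcode ops [five.1, five.1, five.1, five.1, five.1]) ops.one) = true := by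
  decide +kernel

theorem five_cent : centCount ops twoPt five.1 = 5 := by decide +kernel

/-- The letters of `fiveWords`. -/
noncomputable def fiveLetter (i : ℕ) : ℕ :=
  nth ops.one [five.1, five.2, cj fiveConj.1 fiveConj.2 five.1, cj fiveConj.1 fiveConj.2 five.2] i

theorem five_gen : lall u43Lv2.gens (fun g => lex fiveWords (fun w =>
    Nat.beq g.1 (List.rec ops.one (fun i _ ih => ops.mul (fiveLetter i) ih) w))) = true := by
  decide +kernel

theorem z_ok : (ops.okInv zInv zInv && sift ops twoPt zInv && !(Nat.beq zInv ops.one)) = true := by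
  decide +kernel

theorem z_cent : lall tLv.orb (fun e =>
    cond (comm zInv e.u) (Nat.beq e.u ops.one || pm e.u za || pm e.u zb || pm e.u zc || pm e.u zd)
      true) = true := by
  decide +kernel

theorem z_comm : lall [za, zb, zc, zd] (fun p => ops.okInv p.1 p.2 && sift ops [tLv] p.1 &&
    comm zInv p.1) = true := by
  decide +kernel

theorem k_ok : (ops.okInv kSwap.1 kSwap.2 && sift ops twoPt kSwap.1 && comm zInv kSwap.1 &&
    pm (cj kSwap.1 kSwap.2 za.1) zb && pm (cj kSwap.1 kSwap.2 zb.1) za) = true := by
  decide +kernel

theorem reps_ok : lall allReps (fun r => ops.okInv r.1.1 r.1.2 && sift ops [tLv] r.1.1 &&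
    ops.okInv r.2.1 r.2.2 && sift ops onePt r.2.1) = true := by
  decide +kernel

theorem ten_len : tenReps.length = 10 ∧ restReps.length = 30 := by decide +kernel

theorem ten_conj : lall tenReps (fun r => pm (cj r.2.1 r.2.2 r.1.1) za) = true := by
  decide +kernel

theorem rest_conj : lall restReps (fun r =>
    pm (cj r.2.1 r.2.2 r.1.1) zc || pm (cj r.2.1 r.2.2 r.1.1) zd) = true := by
  decide +kernel

theorem cover : lall tLv.orb (fun e => Nat.beq e.u ops.one ||
    lex allReps (fun r => pm e.u r.1)) = true := by
  decide +kernel

theorem reps_distinct : distinct (1 :: lflat allReps (fun r =>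
    [ops.img r.1.1 1, ops.img r.1.2 1])) 0 = true := by
  decide +kernel

theorem ten_ab : (lex tenReps (fun r => pm za.1 r.1) && lex tenReps (fun r => pm zb.1 r.1) &&
    lex restReps (fun r => pm zc.1 r.1) && lex restReps (fun r => pm zd.1 r.1)) = true := by
  decide +kernel

theorem ab_ne : pm za.1 zb = false := by decide +kernel

theorem ten_inv : lall u43Lv1.gens (fun g => lall tenReps (fun r =>
    lex tenReps (fun r' => pm (cj g.1 g.2 r.1.1) r'.1))) = true := by
  decide +kernel

theorem ten_span : lall tLv.gens (fun t => lex tenReps (fun r => pm t.1 r.1)) = true := by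
  decide +kernel

theorem inv_five : lall (wordsOf twoPt) (fun w =>
    cond (Nat.beq (wcode ops w) ops.one || !(Nat.beq (ops.mul (wcode ops w) (wcode ops w)) ops.one))
      true (lex u43Lv2.orb (fun e =>
        cond (Nat.beq (ops.mul (wcode ops w) (cj e.u e.v (wcode ops w))) ops.one) false
          (Nat.beq (wcode ops (List.replicate 5 (ops.mul (wcode ops w) (cj e.u e.v (wcode ops w)))))
            ops.one)))) = true := by
  decide +kernel

theorem inv_wit : lall (wordsOf pChain) (fun w =>
    cond (Nat.beq (wcode ops w) ops.one || !(Nat.beq (ops.mul (wcode ops w) (wcode ops w)) ops.one))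
      true (lex invWit (fun t => cond (Nat.beq (wcode ops w) t.1)
        (ops.okInv t.2.1 t.2.2 && sift ops u43Chain t.2.1 &&
          Nat.beq (cj t.2.1 t.2.2 t.1) zInv) false))) = true := by
  decide +kernel

end Cfsg.Agent.H92.SuzThree
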