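import Cfsg.Agent.H92.SuzThree.Struct

/-!
Suzuki type groups: the conjugates of the element of order three inside the subgroup of order 3^5.
-/

set_option autoImplicit false

namespace Cfsg.Agent.H92.SuzThree

open Cfsg.Agent.Orthogonal Cfsg.Agent.H73.Suz

variable {G : Type*} [Group G] [Finite G]

/-- Exponents of the single rotations. -/
def single : Fin 3 → Fin 3 × Fin 3 × Fin 3 := ![(1, 0, 0), (0, 1, 0), (0, 0, 1)]

/-- Exponents of their inverses. -/
def single' : Fin 3 → Fin 3 × Fin 3 × Fin 3 := ![(2, 0, 0), (0, 2, 0), (0, 0, 2)]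

theorem rot3O_single (i : Fin 3) : rot3O (single i) = rotO i := by
  fin_cases i <;> simp [single, rot3O]

theorem rot3O_single' (i : Fin 3) : rot3O (single' i) = (rotO i)⁻¹ := by
  have two : ∀ j : Fin 3, rotO j ^ 2 = (rotO j)⁻¹ := fun j =>
    eq_inv_of_mul_eq_one_right (by rw [← pow_succ', rotO_cube])
  fin_cases i <;> simp [single', rot3O, two]

theorem rotO_ne_one (i : Fin 3) : rotO i ≠ 1 := fun e => by
  have h0 : rot3O (0, 0, 0) = (1 : O phi) := by simp [rot3O]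
  have key : ∀ j, single j ≠ (0, 0, 0) := by decide
  exact key i (rot3O_inj ((rot3O_single i).trans (e.trans h0.symm)))

theorem rotO_ne_inv (i : Fin 3) : rotO i ≠ (rotO i)⁻¹ := fun e => by
  have key : ∀ j, single j ≠ single' j := by decide
  exact key i (rot3O_inj ((rot3O_single i).trans (e.trans (rot3O_single' i).symm)))

instance : Finite (O phi) := Nat.finite_of_card_ne_zero (by rw [card_O_six]; norm_num)

theorem sameLine_symm {H : Type*} [Group H] {a b : H} (h : SameLine a b) : SameLine b a := by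
  rcases h with rfl | rfl
  · exact Or.inl rfl
  · exact Or.inr (inv_inv _).symm

theorem sameLine_trans {H : Type*} [Group H] {a b c : H} (h : SameLine a b) (h' : SameLine b c) :
    SameLine a c := by
  rcases h with rfl | rfl <;> rcases h' with rfl | rfl
  · exact Or.inl rfl
  · exact Or.inr rfl
  · exact Or.inr rfl
  · exact Or.inl (inv_inv _)

theorem tt_ne_inv {t : HH} (ht : t ∈ TT) (h1 : t ≠ 1) : t ≠ t⁻¹ := fun e => h1 (by
  have h2 : t * t = 1 := mul_eq_one_iff_eq_inv.2 e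
  have h3 := TT_cube ht
  rwa [pow_succ, pow_two, h2, one_mul] at h3)

theorem aH_ne_cH : ¬ SameLine aH cH ∧ ¬ SameLine aH dH ∧ ¬ SameLine bH cH ∧ ¬ SameLine bH dH := by
  obtain ⟨⟨i, hi⟩, ⟨j, hj⟩, ⟨k, hk⟩, ⟨l, hl⟩⟩ := four_lines
  refine ⟨fun h => ?_, fun h => ?_, fun h => ?_, fun h => ?_⟩
  · exact ten_ne_rest i k (sameLine_trans (sameLine_symm hi) (sameLine_trans h hk))
  · exact ten_ne_rest i l (sameLine_trans (sameLine_symm hi) (sameLine_trans h hl))
  · exact ten_ne_rest j k (sameLine_trans (sameLine_symm hj) (sameLine_trans h hk))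
  · exact ten_ne_rest j l (sameLine_trans (sameLine_symm hj) (sameLine_trans h hl))

theorem four_ne_one : aH ≠ 1 ∧ bH ≠ 1 := by
  obtain ⟨⟨i, hi⟩, ⟨j, hj⟩, -, -⟩ := four_lines
  refine ⟨fun e => tenH_ne_one i ?_, fun e => tenH_ne_one j ?_⟩
  · rcases hi with h | h
    · rw [← h, e]
    · exact inv_eq_one.1 (h.symm.trans e)
  · rcases hj with h | h
    · rw [← h, e]
    · exact inv_eq_one.1 (h.symm.trans e)

namespace Data

variable {z x : G} {Q : Subgroup G} (d : Data z x Q)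

/-- The conjugates of `x` inside `A`. -/
def E : Set G := {y | y ∈ d.A ∧ ∃ g, g * x * g⁻¹ = y}

theorem E_inv {y : G} (hy : y ∈ d.E) : y⁻¹ ∈ d.E := by
  obtain ⟨hA, g, rfl⟩ := hy
  obtain ⟨g0, hg0⟩ := d.inverter
  refine ⟨inv_mem hA, g * g0, ?_⟩
  calc g * g0 * x * (g * g0)⁻¹ = g * (g0 * x * g0⁻¹) * g⁻¹ := by group
    _ = (g * x * g⁻¹)⁻¹ := by rw [hg0]; group

theorem E_ne_one {y : G} (hy : y ∈ d.E) : y ≠ 1 := by
  obtain ⟨-, g, rfl⟩ := hy
  rw [Ne, conj_eq_one_iff]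
  exact d.hx1

theorem x_mem_E : x ∈ d.E := ⟨d.x_mem_A, 1, by group⟩

/-- The image in the quotient. -/
def Over (y : G) (t : HH) : Prop :=
  ∃ hy : y ∈ Subgroup.centralizer ({x} : Set G), d.φ ⟨y, hy⟩ = t

theorem over_unique {y : G} {t t' : HH} (h : d.Over y t) (h' : d.Over y t') : t = t' := by
  obtain ⟨_, rfl⟩ := h; obtain ⟨_, rfl⟩ := h'; rfl

theorem over_inv {y : G} {t : HH} (h : d.Over y t) : d.Over y⁻¹ t⁻¹ := by
  obtain ⟨hy, rfl⟩ := h
  exact ⟨inv_mem hy, by rw [← map_inv]; rfl⟩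

theorem exists_over {y : G} (hy : y ∈ d.A) : ∃ t ∈ TT, d.Over y t := by
  obtain ⟨hC, ht⟩ := d.mem_A.1 hy
  exact ⟨_, ht, hC, rfl⟩

theorem mem_TT_of_over {y : G} (hy : y ∈ d.A) {t : HH} (h : d.Over y t) : t ∈ TT := by
  obtain ⟨t', ht', h'⟩ := d.exists_over hy
  exact d.over_unique h' h ▸ ht'

theorem over_comm {y : G} {t : HH} (h : d.Over y t) (hyz : y * z = z * y) : Commute zH t := by
  obtain ⟨hy, rfl⟩ := h
  show zH * d.φ ⟨y, hy⟩ = d.φ ⟨y, hy⟩ * zH
  rw [← d.φ_z, ← map_mul, ← map_mul]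
  exact congrArg _ (Subtype.ext hyz.symm)

theorem over_one_iff {y : G} (hy : y ∈ d.A) : d.Over y 1 ↔ y ∈ Subgroup.zpowers x := by
  constructor
  · rintro ⟨hC, h⟩; exact (d.φ_ker _).1 h
  · intro h; exact ⟨d.A_le_C hy, (d.φ_ker _).2 h⟩

theorem A_normalizer_lift {n : G} (hn : n ∈ Subgroup.centralizer ({x} : Set G))
    (hN : d.φ ⟨n, hn⟩ ∈ NT) {y : G} (hy : y ∈ d.E) : n * y * n⁻¹ ∈ d.E := by
  obtain ⟨hA, g, rfl⟩ := hy
  exact ⟨d.normalizer_lift hn hN hA, n * g, by group⟩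

theorem over_conj {n : G} (hn : n ∈ Subgroup.centralizer ({x} : Set G)) {y : G} {t : HH}
    (h : d.Over y t) : d.Over (n * y * n⁻¹) (d.φ ⟨n, hn⟩ * t * (d.φ ⟨n, hn⟩)⁻¹) := by
  obtain ⟨hy, rfl⟩ := h
  exact ⟨mul_mem (mul_mem hn hy) (inv_mem hn), by rw [← map_inv, ← map_mul, ← map_mul]; rfl⟩

theorem Q_two_group (d : Data z x Q) : IsPGroup 2 Q := fun q => ⟨2, Subtype.ext (by
  rw [show (2 : ℕ) ^ 2 = 4 from rfl, Subgroup.coe_pow, Subgroup.coe_one]
  exact d.h.pow_four q.2)⟩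

/-- Elements of order three with the same action are conjugate. -/
theorem conj_of_ρ_eq (d : Data z x Q) {u v : G} (hu : u * z = z * u) (hv : v * z = z * v)
    (hu3 : u ^ 3 = 1) (hv3 : v ^ 3 = 1) (i : Fin 3) (hru : d.h.ρ u = rotO i)
    (hrv : d.h.ρ v = rotO i) : ∃ q, q * u * q⁻¹ = v := by
  haveI : Fact (Nat.Prime 3) := ⟨by norm_num⟩
  let L : Subgroup G :=
    { carrier := {g | g * z = z * g ∧ d.h.ρ g ∈ Subgroup.zpowers (rotO i)}
      one_mem' := ⟨by simp, by rw [d.h.ρ_one]; exact one_mem _⟩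
      mul_mem' := fun {a b} ha hb => ⟨d.h.mul_comm' ha.1 hb.1, by
        rw [d.h.ρ_mul _ _ ha.1 hb.1]; exact mul_mem ha.2 hb.2⟩
      inv_mem' := fun {a} ha => ⟨d.h.inv_comm ha.1, by
        rw [d.h.ρ_inv ha.1]; exact inv_mem ha.2⟩ }
  have huL : u ∈ L := ⟨hu, by rw [hru]; exact Subgroup.mem_zpowers _⟩
  have hvL : v ∈ L := ⟨hv, by rw [hrv]; exact Subgroup.mem_zpowers _⟩
  let r : L →* ↥(Subgroup.zpowers (rotO i)) :=
    MonoidHom.mk' (fun g => ⟨d.h.ρ g, g.2.2⟩) fun a b =>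
      Subtype.ext (d.h.ρ_mul _ _ a.2.1 b.2.1)
  have ho : orderOf (rotO i) = 3 := orderOf_eq_prime (rotO_cube i) (rotO_ne_one i)
  have hsurj : r.range = ⊤ := by
    rw [eq_top_iff]
    rintro ⟨a, ha⟩ -
    obtain ⟨n, rfl⟩ := mem_powers_iff_mem_zpowers.2 ha
    refine ⟨⟨u ^ n, pow_mem huL n⟩, Subtype.ext ?_⟩
    show d.h.ρ (u ^ n) = rotO i ^ n
    rw [d.h.ρ_pow hu, hru]
  have hcard : ∃ k, Nat.card L = 2 ^ k * 3 := by
    obtain ⟨k, hk⟩ := IsPGroup.iff_card.1
      (show IsPGroup 2 r.ker from fun a => by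
        obtain ⟨k, hk⟩ := d.Q_two_group ⟨((a : L) : G),
          (d.h.ρ_ker _ (a : L).2.1).1 (congrArg Subtype.val (a.2 : r a = 1))⟩
        exact ⟨k, Subtype.ext (Subtype.ext (congrArg Subtype.val hk :))⟩)
    refine ⟨k, ?_⟩
    have h1 := Subgroup.card_mul_index r.ker
    rw [Subgroup.index_ker, hsurj, Subgroup.card_top, Nat.card_zpowers, ho, hk] at h1
    omega
  obtain ⟨k, hk⟩ := hcard
  have hfac : (Nat.card L).factorization 3 = 1 := by
    rw [hk, Nat.factorization_mul (by positivity) (by norm_num), Finsupp.add_apply,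
      Nat.factorization_eq_zero_of_not_dvd, Nat.Prime.factorization_self (by norm_num)]
    intro h
    have := (show Nat.Prime 3 by norm_num).dvd_of_dvd_pow h
    norm_num at this
  have hne : ∀ {w : G}, d.h.ρ w = rotO i → w ≠ 1 := fun hw e =>
    rotO_ne_one i (by rw [← hw, e, d.h.ρ_one])
  let Pu : Sylow 3 L := Sylow.ofCard (Subgroup.zpowers ⟨u, huL⟩) (by
    rw [hfac, Nat.card_zpowers, Subgroup.orderOf_mk, orderOf_eq_prime hu3 (hne hru), pow_one])
  let Pv : Sylow 3 L := Sylow.ofCard (Subgroup.zpowers ⟨v, hvL⟩) (by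
    rw [hfac, Nat.card_zpowers, Subgroup.orderOf_mk, orderOf_eq_prime hv3 (hne hrv), pow_one])
  obtain ⟨q, hq⟩ := MulAction.exists_smul_eq L Pu Pv
  have hmem : q * ⟨u, huL⟩ * q⁻¹ ∈ (Pv : Subgroup L) := by
    rw [← hq]; exact ⟨⟨u, huL⟩, Subgroup.mem_zpowers _, rfl⟩
  obtain ⟨n, hn⟩ := mem_powers_iff_mem_zpowers.2 (show q * ⟨u, huL⟩ * q⁻¹ ∈
    Subgroup.zpowers (⟨v, hvL⟩ : L) from hmem)
  have hn' : v ^ n = (q : G) * u * (q : G)⁻¹ := congrArg Subtype.val hn
  refine ⟨q, ?_⟩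
  have hρ : rotO i ^ n = rotO i := by
    rw [← hrv, ← d.h.ρ_pow hv, hn', d.h.ρ_conj q.2.1 hu, hru, hrv]
    obtain ⟨m, hm⟩ := mem_powers_iff_mem_zpowers.2 q.2.2
    rw [← hm]
    show rotO i ^ m * rotO i * (rotO i ^ m)⁻¹ = rotO i
    rw [((Commute.refl (rotO i)).pow_left m).eq, mul_inv_cancel_right]
  have hmod : n % 3 = 1 := by
    have : rotO i ^ n = rotO i ^ 1 := by rw [hρ, pow_one]
    rw [pow_eq_pow_iff_modEq, ho] at this
    exact this
  rw [← hn', ← Nat.div_add_mod n 3, hmod, pow_add, pow_mul, hv3, one_pow, one_mul, pow_one]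

/-- Elements of `E` commuting with `z` act as one of the six single rotations. -/
theorem ρ_E {y : G} (hy : y ∈ d.E) (hyz : y * z = z * y) :
    ∃ i, d.h.ρ y = rotO i ∨ d.h.ρ y = (rotO i)⁻¹ := by
  obtain ⟨hA, g, hg⟩ := hy
  obtain ⟨n, hn⟩ := d.ρ_rot (d.A_le_C hA) hyz (d.A_nine hA)
  set u := g⁻¹ * z * g with hu
  have huC : u ∈ Subgroup.centralizer ({x} : Set G) := by
    refine Subgroup.mem_centralizer_singleton_iff.2 ?_
    have e : x = g⁻¹ * y * g := by rw [← hg]; group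
    calc u * x = g⁻¹ * (z * y) * g := by rw [hu]; nth_rw 1 [e]; group
      _ = g⁻¹ * (y * z) * g := by rw [hyz]
      _ = x * u := by rw [hu]; nth_rw 1 [e]; group
  have huu : u * u = 1 := by
    rw [hu, show g⁻¹ * z * g * (g⁻¹ * z * g) = g⁻¹ * (z * z) * g by group, d.h.zz]; group
  have hu1 : u ≠ 1 := fun e => d.h.z_ne (by
    rw [show z = g * u * g⁻¹ by rw [hu]; group, e]; group)
  have hφu : d.φ ⟨u, huC⟩ ≠ 1 := fun e => hu1 (by
    have h3 := d.zpowers_cube ((d.φ_ker _).1 e)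
    rwa [pow_succ, pow_two, huu, one_mul] at h3)
  obtain ⟨w, hw⟩ := inv_conj (u := d.φ ⟨u, huC⟩)
    (by rw [← map_mul, show (⟨u, huC⟩ : ↥(Subgroup.centralizer ({x} : Set G))) * ⟨u, huC⟩ = 1 from
      Subtype.ext huu, map_one]) hφu
  obtain ⟨c, hc, rfl⟩ := d.exists_lift w
  set e := z⁻¹ * (c * u * c⁻¹) with he
  have heX : e ∈ Subgroup.zpowers x := by
    refine (d.φ_ker (⟨z, d.z_mem_C⟩⁻¹ * (⟨c, hc⟩ * ⟨u, huC⟩ * ⟨c, hc⟩⁻¹))).1 ?_
    simp only [map_mul, map_inv, d.φ_z]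
    rw [hw, inv_mul_cancel]
  have hw2 : c * u * c⁻¹ = z * e := by rw [he]; group
  have he1 : e = 1 := by
    have h1 : z * e * (z * e) = 1 := by rw [← hw2, conj_mul, huu, mul_one, mul_inv_cancel]
    rw [show z * e * (z * e) = z * (e * z) * e by group, ← (d.z_comm_zpowers heX).eq,
      show z * (z * e) * e = z * z * (e * e) by group, d.h.zz, one_mul] at h1
    have h3 := d.zpowers_cube heX
    rwa [pow_succ, pow_two, h1, one_mul] at h3
  set g' := g * c⁻¹ with hg'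
  have hg'z : g' * z = z * g' := by
    rw [he1, mul_one] at hw2
    calc g' * z = g * c⁻¹ * (c * u * c⁻¹) := by rw [hw2]
      _ = z * g' := by rw [hu, hg']; group
  have hy' : y = g' * x * g'⁻¹ := by
    rw [← hg, hg']
    have : c⁻¹ * x * c = x := by
      rw [mul_assoc, ← Subgroup.mem_centralizer_singleton_iff.1 hc, inv_mul_cancel_left]
    calc g * x * g⁻¹ = g * (c⁻¹ * x * c) * g⁻¹ := by rw [this]
      _ = g * c⁻¹ * x * (g * c⁻¹)⁻¹ := by group
  have hρy : d.h.ρ y = d.h.ρ g' * rotO 0 * (d.h.ρ g')⁻¹ := by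
    rw [hy', d.h.ρ_conj hg'z d.hxz, d.hρ]
  rw [hn] at hρy ⊢
  exact rot3O_of_conj (Or.inl hρy)

/-- The elements of `A` lifting the rotations. -/
theorem exists_y : ∀ i, ∃ y ∈ d.E, y * z = z * y ∧ d.h.ρ y = rotO i := by
  classical
  obtain ⟨ua, hua, ea⟩ := d.exists_lift aH
  obtain ⟨ub, hub, eb⟩ := d.exists_lift bH
  have huaA : ua ∈ d.A := d.mem_A.2 ⟨hua, by rw [ea]; exact four_mem.1⟩
  have hubA : ub ∈ d.A := d.mem_A.2 ⟨hub, by rw [eb]; exact four_mem.2.1⟩
  have huaz : ua * z = z * ua := d.comm_z hua (by rw [ea]; exact four_comm.1)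
  have hubz : ub * z = z * ub := d.comm_z hub (by rw [eb]; exact four_comm.2.1)
  let el : Fin 3 × Fin 3 × Fin 3 → G := fun m => x ^ (m.1 : ℕ) * ua ^ (m.2.1 : ℕ) * ub ^ (m.2.2 : ℕ)
  have helA : ∀ m, el m ∈ d.A := fun m =>
    mul_mem (mul_mem (pow_mem d.x_mem_A _) (pow_mem huaA _)) (pow_mem hubA _)
  have helz : ∀ m, el m * z = z * el m := fun m =>
    d.h.mul_comm' (d.h.mul_comm' ((show Commute x z from d.hxz).pow_left _).eq
      ((show Commute ua z from huaz).pow_left _).eq) ((show Commute ub z from hubz).pow_left _).eq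
  have hel : ∀ m, ∃ n, d.h.ρ (el m) = rot3O n := fun m =>
    d.ρ_rot (d.A_le_C (helA m)) (helz m) (d.A_nine (helA m))
  choose f hf using hel
  have hinj : Function.Injective f := by
    intro m m' e
    have heq : el m = el m' := by
      have hdz : el m * (el m')⁻¹ * z = z * (el m * (el m')⁻¹) :=
        d.h.mul_comm' (helz m) (d.h.inv_comm (helz m'))
      have := d.eq_one_of_ρ hdz (d.A_nine (mul_mem (helA m) (inv_mem (helA m'))))
        (by rw [d.h.ρ_mul _ _ (helz m) (d.h.inv_comm (helz m')), d.h.ρ_inv (helz m'), hf, hf, e,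
          mul_inv_cancel])
      exact mul_inv_eq_one.1 this
    have himg : ∀ m : Fin 3 × Fin 3 × Fin 3,
        d.φ ⟨el m, d.A_le_C (helA m)⟩ = aH ^ (m.2.1 : ℕ) * bH ^ (m.2.2 : ℕ) := fun m => by
      rw [show (⟨el m, d.A_le_C (helA m)⟩ : ↥(Subgroup.centralizer ({x} : Set G))) =
        ⟨x, Subgroup.mem_centralizer_singleton_iff.2 rfl⟩ ^ (m.1 : ℕ) * ⟨ua, hua⟩ ^ (m.2.1 : ℕ) *
          ⟨ub, hub⟩ ^ (m.2.2 : ℕ) from rfl, map_mul, map_mul, map_pow, map_pow, map_pow, ea, eb,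
        (d.φ_ker _).2 (Subgroup.mem_zpowers x), one_pow, one_mul]
    have h2 : aH ^ (m.2.1 : ℕ) * bH ^ (m.2.2 : ℕ) = aH ^ (m'.2.1 : ℕ) * bH ^ (m'.2.2 : ℕ) := by
      rw [← himg, ← himg]; congr 1; exact Subtype.ext heq
    have key : ∀ j l j' l' : Fin 3,
        aH ^ (j : ℕ) * bH ^ (l : ℕ) = aH ^ (j' : ℕ) * bH ^ (l' : ℕ) → j = j' ∧ l = l' := by
      haveI : Fact (Nat.Prime 3) := ⟨by norm_num⟩
      have ha3 : orderOf aH = 3 := orderOf_eq_prime (TT_cube four_mem.1) four_ne_one.1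
      have hb3 : orderOf bH = 3 := orderOf_eq_prime (TT_cube four_mem.2.1) four_ne_one.2
      intro j l j' l' e
      have e' : aH ^ ((j : ℤ) - j') = bH ^ ((l' : ℤ) - l) := by
        rw [zpow_sub, zpow_sub, zpow_natCast, zpow_natCast, zpow_natCast, zpow_natCast,
          eq_mul_inv_iff_mul_eq, (((TT_comm four_mem.1 four_mem.1).pow_pow _ _).inv_right).eq,
          mul_assoc, e, inv_mul_cancel_left]
      have hsub : ∀ {t : HH} {i : ℤ}, t ∈ TT → t ≠ 1 → ¬ ((3 : ℤ) ∣ i) → SameLine (t ^ i) t := by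
        intro t i ht h1 hi
        have ho : orderOf t = 3 := orderOf_eq_prime (TT_cube ht) h1
        have e : t ^ i = t ^ (i % 3) := by rw [← zpow_mod_orderOf, ho]; norm_num
        have h1' := Int.emod_nonneg i (show (3 : ℤ) ≠ 0 by norm_num)
        have h2' := Int.emod_lt_of_pos i (show (0 : ℤ) < 3 by norm_num)
        rcases (show i % 3 = 1 ∨ i % 3 = 2 by omega) with h | h
        · exact Or.inl (by rw [e, h, zpow_one])
        · refine Or.inr ?_
          rw [e, h]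
          refine eq_inv_of_mul_eq_one_left ?_
          rw [show (2 : ℤ) = ((2 : ℕ) : ℤ) from rfl, zpow_natCast, ← pow_succ, TT_cube ht]
      have h1 : (3 : ℤ) ∣ (j : ℤ) - j' := by
        by_contra h1
        by_cases h2 : (3 : ℤ) ∣ (l' : ℤ) - l
        · have e2 : bH ^ ((l' : ℤ) - l) = 1 := orderOf_dvd_iff_zpow_eq_one.1 (by rw [hb3]; exact h2)
          rw [e2] at e'
          exact h1 (by
            have := orderOf_dvd_iff_zpow_eq_one.2 e'
            rwa [ha3] at this)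
        · exact aH_ne_bH (sameLine_trans (sameLine_symm (hsub four_mem.1 four_ne_one.1 h1))
            (e' ▸ hsub four_mem.2.1 four_ne_one.2 h2))
      have ej : j = j' := Fin.ext (by omega)
      subst ej
      have := mul_left_cancel e
      rw [pow_eq_pow_iff_modEq, hb3, Nat.ModEq] at this
      exact ⟨rfl, Fin.ext (by omega)⟩
    obtain ⟨j1, j2⟩ := key _ _ _ _ h2
    obtain ⟨i, j, l⟩ := m
    obtain ⟨i', j', l'⟩ := m'
    dsimp only at j1 j2
    subst j1 j2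
    have hx : x ^ (i : ℕ) = x ^ (i' : ℕ) := mul_right_cancel (mul_right_cancel (heq :))
    rw [pow_eq_pow_iff_modEq, d.orderOf_x, Nat.ModEq] at hx
    have : i = i' := Fin.ext (by omega)
    subst this
    rfl
  intro i
  obtain ⟨m, hm⟩ := (Finite.surjective_of_injective hinj) (single i)
  obtain ⟨k, hk, hkc⟩ := exists_conj_rot i
  obtain ⟨c, hc, hck⟩ := d.h.ρ_surj k hk
  have hρy : d.h.ρ (el m) = rotO i := by rw [hf, hm, rot3O_single]
  have h3 : el m ^ 3 = 1 := (d.A_spec (helA m)).1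
  have hw3 : (c * x * c⁻¹) ^ 3 = 1 := by rw [conj_pow, d.hx3, mul_one, mul_inv_cancel]
  obtain ⟨q, hq⟩ := d.conj_of_ρ_eq (d.h.conj_comm hc d.hxz) (helz m) hw3 h3 i
    (by rw [d.h.ρ_conj hc d.hxz, d.hρ, hck, hkc]) hρy
  exact ⟨el m, ⟨helA m, q * c, by rw [← hq]; group⟩, helz m, hρy⟩

theorem eq_of_same {y w : G} (hy : y ∈ d.A) (hw : w ∈ d.A) (hyz : y * z = z * y)
    (hwz : w * z = z * w) (hρ : d.h.ρ y = d.h.ρ w) : y = w := by
  have := d.eq_one_of_ρ (d.h.mul_comm' hyz (d.h.inv_comm hwz))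
    (d.A_nine (mul_mem hy (inv_mem hw))) (by
      rw [d.h.ρ_mul _ _ hyz (d.h.inv_comm hwz), d.h.ρ_inv hwz, hρ, mul_inv_cancel])
  exact mul_inv_eq_one.1 this

/-- Fixed elements of `E` outside `⟨x⟩`: two lines. -/
theorem fixed_E : ∃ y1 y2 l1 l2, y1 ∈ d.E ∧ y2 ∈ d.E ∧ d.Over y1 l1 ∧ d.Over y2 l2 ∧ l1 ≠ 1 ∧
    l2 ≠ 1 ∧ ¬ SameLine l1 l2 ∧ Commute zH l1 ∧ Commute zH l2 ∧
    ∀ y ∈ d.E, ∀ t, d.Over y t → t ≠ 1 → Commute zH t →
      SameLine y y1 ∨ SameLine y y2 := by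
  obtain ⟨y1, hy1, hz1, hr1⟩ := d.exists_y 1
  obtain ⟨y2, hy2, hz2, hr2⟩ := d.exists_y 2
  obtain ⟨l1, ht1, ho1⟩ := d.exists_over hy1.1
  obtain ⟨l2, ht2, ho2⟩ := d.exists_over hy2.1
  have hxρ : ∀ {e : G}, e ∈ Subgroup.zpowers x → ∃ n : Fin 3, d.h.ρ e = rot3O (n, 0, 0) := by
    intro e he
    rcases d.mem_zpowers_x he with rfl | rfl | rfl
    · exact ⟨0, by rw [d.h.ρ_one]; simp [rot3O]⟩
    · exact ⟨1, by rw [d.hρ]; simp [rot3O]⟩
    · refine ⟨2, ?_⟩
      rw [d.h.ρ_inv d.hxz, d.hρ]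
      exact (rot3O_single' 0).symm
  have hnot : ∀ {y : G} {t : HH}, y ∈ d.A → d.Over y t → ∀ i : Fin 3, i ≠ 0 →
      d.h.ρ y = rotO i → t ≠ 1 := by
    intro y t hy ho i hi hρ e
    subst e
    obtain ⟨n, hn⟩ := hxρ ((d.over_one_iff hy).1 ho)
    have key : ∀ j : Fin 3, j ≠ 0 → ∀ k : Fin 3, single j ≠ (k, 0, 0) := by decide
    exact key i hi n (rot3O_inj (((rot3O_single i).trans hρ.symm).trans hn))
  have hl1 := hnot hy1.1 ho1 1 (by decide) hr1
  have hl2 := hnot hy2.1 ho2 2 (by decide) hr2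
  refine ⟨y1, y2, l1, l2, hy1, hy2, ho1, ho2, hl1, hl2, ?_, d.over_comm ho1 hz1,
    d.over_comm ho2 hz2, ?_⟩
  · intro hl
    obtain ⟨hC1, e1⟩ := ho1
    obtain ⟨hC2, e2⟩ := ho2
    rcases hl with hl | hl
    · have hm : y1 * y2⁻¹ ∈ Subgroup.zpowers x := (d.φ_ker (⟨y1, hC1⟩ * ⟨y2, hC2⟩⁻¹)).1 (by
        rw [map_mul, map_inv, e1, e2, hl, mul_inv_cancel])
      obtain ⟨n, hn⟩ := hxρ hm
      rw [d.h.ρ_mul _ _ hz1 (d.h.inv_comm hz2), d.h.ρ_inv hz2, hr1, hr2] at hn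
      have h12 : rotO 1 * (rotO 2)⁻¹ = rot3O (0, 1, 2) := by
        rw [← rot3O_single' 2]
        simp [rot3O, single']
      have key : ∀ k : Fin 3, ((0, 1, 2) : Fin 3 × Fin 3 × Fin 3) ≠ (k, 0, 0) ∧
          ((0, 1, 1) : Fin 3 × Fin 3 × Fin 3) ≠ (k, 0, 0) := by decide
      exact (key n).1 (rot3O_inj (h12.symm.trans hn))
    · have hm : y1 * y2 ∈ Subgroup.zpowers x := (d.φ_ker (⟨y1, hC1⟩ * ⟨y2, hC2⟩)).1 (by
        rw [map_mul, e1, e2, hl, inv_mul_cancel])
      obtain ⟨n, hn⟩ := hxρ hm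
      rw [d.h.ρ_mul _ _ hz1 hz2, hr1, hr2] at hn
      have h12 : rotO 1 * rotO 2 = rot3O (0, 1, 1) := by simp [rot3O]
      have key : ∀ k : Fin 3, ((0, 1, 2) : Fin 3 × Fin 3 × Fin 3) ≠ (k, 0, 0) ∧
          ((0, 1, 1) : Fin 3 × Fin 3 × Fin 3) ≠ (k, 0, 0) := by decide
      exact (key n).2 (rot3O_inj (h12.symm.trans hn))
  · intro y hy t ho ht hc
    obtain ⟨hC, rfl⟩ := ho
    have hyz := d.comm_z hC hc
    obtain ⟨i, hi⟩ := d.ρ_E hy hyz
    have hxi := d.h.inv_comm d.hxz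
    rcases (show i = 0 ∨ i = 1 ∨ i = 2 by omega) with rfl | rfl | rfl
    · exfalso
      refine ht ((d.φ_ker _).2 ?_)
      rcases hi with hi | hi
      · rw [show ((⟨y, hC⟩ : ↥(Subgroup.centralizer ({x} : Set G))) : G) = x from
          d.eq_of_same hy.1 d.x_mem_A hyz d.hxz (hi.trans d.hρ.symm)]
        exact Subgroup.mem_zpowers x
      · rw [show ((⟨y, hC⟩ : ↥(Subgroup.centralizer ({x} : Set G))) : G) = x⁻¹ from
          d.eq_of_same hy.1 (inv_mem d.x_mem_A) hyz hxi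
            (hi.trans (by rw [d.h.ρ_inv d.hxz, d.hρ]))]
        exact inv_mem (Subgroup.mem_zpowers x)
    · refine Or.inl ?_
      rcases hi with hi | hi
      · exact Or.inl (d.eq_of_same hy.1 hy1.1 hyz hz1 (hi.trans hr1.symm))
      · exact Or.inr (d.eq_of_same hy.1 (inv_mem hy1.1) hyz (d.h.inv_comm hz1)
          (hi.trans (by rw [d.h.ρ_inv hz1, hr1])))
    · refine Or.inr ?_
      rcases hi with hi | hi
      · exact Or.inl (d.eq_of_same hy.1 hy2.1 hyz hz2 (hi.trans hr2.symm))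
      · exact Or.inr (d.eq_of_same hy.1 (inv_mem hy2.1) hyz (d.h.inv_comm hz2)
          (hi.trans (by rw [d.h.ρ_inv hz2, hr2])))

/-- Some element of `E` lies over `t`. -/
def Hit (t : HH) : Prop := ∃ y ∈ d.E, d.Over y t

theorem hit_conj {n t : HH} (hn : n ∈ NT) (h : d.Hit t) : d.Hit (n * t * n⁻¹) := by
  obtain ⟨y, hy, ho⟩ := h
  obtain ⟨c, hc, rfl⟩ := d.exists_lift n
  exact ⟨_, d.A_normalizer_lift hc hn hy, d.over_conj hc ho⟩

theorem hit_sameLine {s t : HH} (hl : SameLine s t) (h : d.Hit t) : d.Hit s := by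
  obtain ⟨y, hy, ho⟩ := h
  rcases hl with rfl | rfl
  · exact ⟨y, hy, ho⟩
  · exact ⟨_, d.E_inv hy, d.over_inv ho⟩

theorem hit_conj_iff {n t u : HH} (hn : n ∈ NT) (hl : SameLine (n * t * n⁻¹) u) :
    d.Hit t ↔ d.Hit u := by
  refine ⟨fun h => d.hit_sameLine (sameLine_symm hl) (d.hit_conj hn h), fun h => ?_⟩
  have := d.hit_conj (inv_mem hn) (d.hit_sameLine hl h)
  rwa [show n⁻¹ * (n * t * n⁻¹) * n⁻¹⁻¹ = t by group] at this

/-- Above a fixed line there is at most one element of `E`. -/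
theorem over_fixed_unique {y y' : G} {t : HH} (hy : y ∈ d.E) (hy' : y' ∈ d.E) (ho : d.Over y t)
    (ho' : d.Over y' t) (ht : t ≠ 1) (hc : Commute zH t) : y = y' := by
  obtain ⟨y1, y2, l1, l2, hy1, hy2, ho1, ho2, -, -, hne, -, -, hall⟩ := d.fixed_E
  have hsl : ∀ {a b : G} {s u : HH}, SameLine a b → d.Over a s → d.Over b u → SameLine s u := by
    intro a b s u hab ha hb
    rcases hab with rfl | rfl
    · exact Or.inl (d.over_unique ha hb)
    · exact Or.inr (d.over_unique ha (d.over_inv hb))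
  have hTT := tt_ne_inv (d.mem_TT_of_over hy.1 ho) ht
  have fin : ∀ {w : G}, SameLine y w → SameLine y' w → y = y' := by
    intro w h h'
    rcases sameLine_trans h (sameLine_symm h') with e | e
    · exact e
    · exact absurd (d.over_unique ho (e ▸ d.over_inv ho' : d.Over y t⁻¹)) hTT
  rcases hall y hy t ho ht hc with h | h <;> rcases hall y' hy' t ho' ht hc with h' | h'
  · exact fin h h'
  · exact absurd (sameLine_trans (sameLine_symm (hsl h ho ho1)) (hsl h' ho' ho2)) hne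
  · exact absurd (sameLine_trans (sameLine_symm (hsl h' ho' ho1)) (hsl h ho ho2)) hne
  · exact fin h h'

/-- Above any line there is at most one element of `E`. -/
theorem over_le_one {y y' : G} {t : HH} (hy : y ∈ d.E) (hy' : y' ∈ d.E) (ho : d.Over y t)
    (ho' : d.Over y' t) (ht : t ≠ 1) : y = y' := by
  have htT := d.mem_TT_of_over hy.1 ho
  obtain ⟨n, hn, u, hcu, hl⟩ : ∃ n ∈ NT, ∃ u, Commute zH u ∧ SameLine (n * t * n⁻¹) u := by
    have conjl : ∀ {n a b : HH}, SameLine a b → SameLine (n * a * n⁻¹) (n * b * n⁻¹) := by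
      intro n a b h
      rcases h with rfl | rfl
      · exact Or.inl rfl
      · exact Or.inr (by group)
    rcases lines_cover htT ht with ⟨i, hi⟩ | ⟨i, hi⟩
    · obtain ⟨n, hn, hn'⟩ := ten_conj_a i
      exact ⟨n, hn, aH, four_comm.1, sameLine_trans (conjl hi) hn'⟩
    · obtain ⟨n, hn, hn' | hn'⟩ := rest_conj_cd i
      · exact ⟨n, hn, cH, four_comm.2.2.1, sameLine_trans (conjl hi) hn'⟩
      · exact ⟨n, hn, dH, four_comm.2.2.2, sameLine_trans (conjl hi) hn'⟩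
  obtain ⟨c, hc, rfl⟩ := d.exists_lift n
  have hne : d.φ ⟨c, hc⟩ * t * (d.φ ⟨c, hc⟩)⁻¹ ≠ 1 := fun e => ht (conj_eq_one_iff.1 e)
  have hcz : Commute zH (d.φ ⟨c, hc⟩ * t * (d.φ ⟨c, hc⟩)⁻¹) := by
    rcases hl with e | e <;> rw [e]
    · exact hcu
    · exact hcu.inv_right
  have := d.over_fixed_unique (d.A_normalizer_lift hc hn hy) (d.A_normalizer_lift hc hn hy')
    (d.over_conj hc ho) (d.over_conj hc ho') hne hcz
  simpa using this

/-- Either the ten lines are hit, or the other thirty. -/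
theorem hit_cases :
    ((∀ i, d.Hit (tenH i)) ∧ ∀ j, ¬ d.Hit (restH j)) ∨
    ((∀ i, ¬ d.Hit (tenH i)) ∧ ∀ j, d.Hit (restH j)) := by
  obtain ⟨y1, y2, l1, l2, hy1, hy2, ho1, ho2, hl1, hl2, hne, hc1, hc2, hall⟩ := d.fixed_E
  have hit1 : d.Hit l1 := ⟨y1, hy1, ho1⟩
  have hit2 : d.Hit l2 := ⟨y2, hy2, ho2⟩
  have hsl : ∀ {t : HH}, d.Hit t → t ≠ 1 → Commute zH t → SameLine t l1 ∨ SameLine t l2 := by
    rintro t ⟨y, hy, ho⟩ ht hc
    rcases hall y hy t ho ht hc with h | h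
    · rcases h with rfl | rfl
      · exact Or.inl (Or.inl (d.over_unique ho ho1))
      · exact Or.inl (Or.inr (d.over_unique ho (d.over_inv ho1)))
    · rcases h with rfl | rfl
      · exact Or.inr (Or.inl (d.over_unique ho ho2))
      · exact Or.inr (Or.inr (d.over_unique ho (d.over_inv ho2)))
  obtain ⟨hkN, -, hka, -⟩ := kH_spec
  have hab : d.Hit aH ↔ d.Hit bH := d.hit_conj_iff hkN hka
  have hten : ∀ i, d.Hit (tenH i) ↔ d.Hit aH := fun i => by
    obtain ⟨n, hn, h⟩ := ten_conj_a i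
    exact d.hit_conj_iff hn h
  by_cases ha : d.Hit aH
  · left
    refine ⟨fun i => (hten i).2 ha, fun j hj => ?_⟩
    have hb := hab.1 ha
    have two : ∀ {t : HH}, d.Hit t → t ≠ 1 → Commute zH t → SameLine t aH ∨ SameLine t bH := by
      intro t ht h1 hc
      rcases hsl ha four_ne_one.1 four_comm.1 with a1 | a1 <;>
        rcases hsl hb four_ne_one.2 four_comm.2.1 with b1 | b1 <;>
        rcases hsl ht h1 hc with t1 | t1
      all_goals first
        | exact absurd (sameLine_trans a1 (sameLine_symm b1)) aH_ne_bH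
        | exact Or.inl (sameLine_trans t1 (sameLine_symm a1))
        | exact Or.inr (sameLine_trans t1 (sameLine_symm b1))
    obtain ⟨n, hn, h | h⟩ := rest_conj_cd j
    · have hc' := (d.hit_conj_iff hn h).1 hj
      have h1 : cH ≠ 1 := by
        obtain ⟨-, -, ⟨k, hk⟩, -⟩ := four_lines
        intro e; rcases hk with hk | hk
        · exact restH_ne_one k (hk ▸ e)
        · exact restH_ne_one k (inv_eq_one.1 (hk.symm.trans e))
      rcases two hc' h1 four_comm.2.2.1 with h' | h'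
      · exact aH_ne_cH.1 (sameLine_symm h')
      · exact aH_ne_cH.2.2.1 (sameLine_symm h')
    · have hd' := (d.hit_conj_iff hn h).1 hj
      have h1 : dH ≠ 1 := by
        obtain ⟨-, -, -, ⟨k, hk⟩⟩ := four_lines
        intro e; rcases hk with hk | hk
        · exact restH_ne_one k (hk ▸ e)
        · exact restH_ne_one k (inv_eq_one.1 (hk.symm.trans e))
      rcases two hd' h1 four_comm.2.2.2 with h' | h'
      · exact aH_ne_cH.2.1 (sameLine_symm h')
      · exact aH_ne_cH.2.2.2 (sameLine_symm h')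
  · right
    refine ⟨fun i h => ha ((hten i).1 h), fun j => ?_⟩
    have cd : ∀ {l : HH}, d.Hit l → l ≠ 1 → l ∈ TT → Commute zH l →
        SameLine l cH ∨ SameLine l dH := by
      intro l hl h1 hT hc
      rcases zH_cent hT hc with h | h | h | h | h
      · exact absurd h h1
      · exact absurd (d.hit_sameLine (sameLine_symm h) hl) ha
      · exact absurd (hab.2 (d.hit_sameLine (sameLine_symm h) hl)) ha
      · exact Or.inl h
      · exact Or.inr h
    have hboth : d.Hit cH ∧ d.Hit dH := by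
      rcases cd hit1 hl1 (d.mem_TT_of_over hy1.1 ho1) hc1 with a1 | a1 <;>
        rcases cd hit2 hl2 (d.mem_TT_of_over hy2.1 ho2) hc2 with b1 | b1
      · exact absurd (sameLine_trans a1 (sameLine_symm b1)) hne
      · exact ⟨d.hit_sameLine (sameLine_symm a1) hit1, d.hit_sameLine (sameLine_symm b1) hit2⟩
      · exact ⟨d.hit_sameLine (sameLine_symm b1) hit2, d.hit_sameLine (sameLine_symm a1) hit1⟩
      · exact absurd (sameLine_trans a1 (sameLine_symm b1)) hne
    obtain ⟨n, hn, h | h⟩ := rest_conj_cd j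
    · exact (d.hit_conj_iff hn h).2 hboth.1
    · exact (d.hit_conj_iff hn h).2 hboth.2

theorem E_card {m : ℕ} (rep : Fin m → HH) (hne : ∀ i, rep i ≠ 1) (hT : ∀ i, rep i ∈ TT)
    (hhit : ∀ i, d.Hit (rep i)) (hinj : ∀ i j, SameLine (rep i) (rep j) → i = j)
    (hall : ∀ t ∈ TT, t ≠ 1 → d.Hit t → ∃ i, SameLine t (rep i)) :
    d.E.ncard = 2 + 2 * m := by
  classical
  choose w hw hwo using hhit
  let f : Bool ⊕ (Fin m × Bool) → G := Sum.elim (fun b => cond b x x⁻¹)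
    (fun p => cond p.2 (w p.1) (w p.1)⁻¹)
  have hxne : x ≠ x⁻¹ := fun e => d.hx1 (by
    have h2 : x * x = 1 := mul_eq_one_iff_eq_inv.2 e
    have h3 := d.hx3
    rwa [pow_succ, pow_two, h2, one_mul] at h3)
  have hov : ∀ p : Fin m × Bool, d.Over (f (Sum.inr p)) (cond p.2 (rep p.1) (rep p.1)⁻¹) := by
    rintro ⟨i, _ | _⟩
    · exact d.over_inv (hwo i)
    · exact hwo i
  have hov0 : ∀ b : Bool, d.Over (f (Sum.inl b)) 1 := by
    rintro (_ | _)
    · exact (d.over_one_iff (inv_mem d.x_mem_A)).2 (inv_mem (Subgroup.mem_zpowers x))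
    · exact (d.over_one_iff d.x_mem_A).2 (Subgroup.mem_zpowers x)
  have hne' : ∀ p : Fin m × Bool, (cond p.2 (rep p.1) (rep p.1)⁻¹) ≠ 1 := by
    rintro ⟨i, _ | _⟩
    · exact fun e => hne i (inv_eq_one.1 e)
    · exact hne i
  have finj : Function.Injective f := by
    rintro (a | ⟨i, b⟩) (a' | ⟨i', b'⟩) e
    · cases a <;> cases a' <;> first | rfl | exact absurd e hxne | exact absurd e.symm hxne
    · exact absurd (d.over_unique (hov (i', b')) (e ▸ hov0 a)) (hne' _)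
    · exact absurd (d.over_unique (hov (i, b)) (e.symm ▸ hov0 a')) (hne' _)
    · have h := d.over_unique (hov (i, b)) (e.symm ▸ hov (i', b'))
      have hii : i = i' := hinj i i' (by
        cases b <;> cases b' <;> simp only [cond_false, cond_true] at h
        · exact Or.inl (inv_injective h)
        · exact Or.inr (inv_eq_iff_eq_inv.1 h)
        · exact Or.inr h
        · exact Or.inl h)
      subst hii
      cases b <;> cases b' <;> simp only [cond_false, cond_true] at h <;>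
        first | rfl | exact absurd h (tt_ne_inv (hT i) (hne i)) |
          exact absurd h.symm (tt_ne_inv (hT i) (hne i))
  have hrange : Set.range f = d.E := by
    refine Set.Subset.antisymm ?_ fun y hy => ?_
    · rintro _ ⟨(_ | _) | ⟨i, _ | _⟩, rfl⟩
      exacts [d.E_inv d.x_mem_E, d.x_mem_E, d.E_inv (hw i), hw i]
    · obtain ⟨t, ht, ho⟩ := d.exists_over hy.1
      by_cases h1 : t = 1
      · subst h1
        rcases d.mem_zpowers_x ((d.over_one_iff hy.1).1 ho) with e | e | e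
        · exact absurd e (d.E_ne_one hy)
        · exact ⟨Sum.inl true, e.symm⟩
        · exact ⟨Sum.inl false, e.symm⟩
      · obtain ⟨i, e | e⟩ := hall t ht h1 ⟨y, hy, ho⟩
        · exact ⟨Sum.inr (i, true), d.over_le_one (hw i) hy (hwo i) (e ▸ ho) (hne i)⟩
        · exact ⟨Sum.inr (i, false), d.over_le_one (d.E_inv (hw i)) hy (d.over_inv (hwo i))
            (e ▸ ho) (fun h => hne i (inv_eq_one.1 h))⟩
  rw [← hrange, Set.ncard_range_of_injective finj]
  simp [Nat.card_eq_fintype_card]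
  ring

theorem E_card_cases : (d.E.ncard = 22 ∧ ∀ i, d.Hit (tenH i)) ∨ d.E.ncard = 62 := by
  rcases d.hit_cases with ⟨h1, h2⟩ | ⟨h1, h2⟩
  · refine Or.inl ⟨d.E_card tenH tenH_ne_one tenH_mem h1 (fun i j h => tenH_inj h)
      (fun t ht hne hh => ?_), h1⟩
    rcases lines_cover ht hne with h | ⟨j, hj⟩
    · exact h
    · exact absurd (d.hit_sameLine (sameLine_symm hj) hh) (h2 j)
  · refine Or.inr (d.E_card restH restH_ne_one restH_mem h2 (fun i j h => restH_inj h)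
      (fun t ht hne hh => ?_))
    rcases lines_cover ht hne with ⟨i, hi⟩ | h
    · exact absurd (d.hit_sameLine (sameLine_symm hi) hh) (h1 i)
    · exact h

end Data

end Cfsg.Agent.H92.SuzThree
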