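import Cfsg.Agent.H73.Suz.UFacts

/-!
Three orthogonal elliptic planes in the six-dimensional space over two elements: finite facts.
-/

set_option autoImplicit false
set_option synthInstance.maxSize 4000
set_option synthInstance.maxHeartbeats 400000
set_option maxRecDepth 20000
set_option Elab.async false

namespace Cfsg.Agent.H92.SuzThree

open Cfsg.Agent.H73.Suz

/-- The quadratic form, computably. -/
def qV (v : V6) : ZMod 2 := v.1.1 * v.1.2 + qU v.2

/-- Its polar form, computably. -/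
def fV (v w : V6) : ZMod 2 := v.1.1 * w.1.2 + w.1.1 * v.1.2 + fU v.2 w.2

/-- The reflection in `r`. -/
def tV (r v : V6) : V6 := v + fV r v • r

/-- First plane. -/
def ee : Fin 3 → V6 :=
  ![((0, 0), (0, 0, 1, 0)), ((1, 1), (0, 0, 0, 0)), ((0, 0), (1, 1, 0, 0))]

/-- First plane. -/
def ff : Fin 3 → V6 :=
  ![((0, 0), (0, 0, 0, 1)), ((1, 0), (1, 1, 0, 0)), ((1, 1), (1, 0, 0, 0))]

/-- Rotation of a plane. -/
def rot (i : Fin 3) (v : V6) : V6 := tV (ee i) (tV (ff i) v)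

/-- Powers of the rotation. -/
def rotN (i : Fin 3) (n : Fin 3) (v : V6) : V6 :=
  match n with
  | 0 => v
  | 1 => rot i v
  | 2 => rot i (rot i v)

/-- Coordinates in a plane. -/
def comb (i : Fin 3) (v a b : V6) : V6 := fV v (ff i) • a + fV v (ee i) • b

/-- Membership of a plane, zero excluded. -/
def InPlane (i : Fin 3) (v : V6) : Prop := v = ee i ∨ v = ff i ∨ v = ee i + ff i

instance (i : Fin 3) (v : V6) : Decidable (InPlane i v) :=
  inferInstanceAs (Decidable (_ ∨ _ ∨ _))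

theorem gram : ∀ i j : Fin 3, qV (ee i) = 1 ∧ qV (ff i) = 1 ∧
    fV (ee i) (ee j) = 0 ∧ fV (ff i) (ff j) = 0 ∧
    fV (ee i) (ff j) = (if i = j then 1 else 0) := by decide +kernel

theorem expand : ∀ v : V6,
    v = comb 0 v (ee 0) (ff 0) + comb 1 v (ee 1) (ff 1) + comb 2 v (ee 2) (ff 2) := by
  decide +kernel

theorem rot_basis : ∀ i j : Fin 3, rot i (ee j) = (if i = j then ff j else ee j) ∧
    rot i (ff j) = (if i = j then ee j + ff j else ff j) := by decide +kernel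

theorem rot_comm : ∀ i j : Fin 3, ∀ v : V6, rot i (rot j v) = rot j (rot i v) := by decide +kernel

theorem rot_cube : ∀ i : Fin 3, ∀ v : V6, rot i (rot i (rot i v)) = v := by decide +kernel

theorem range_rot : ∀ i : Fin 3, ∀ v : V6, v + rot i v = 0 ∨ InPlane i (v + rot i v) := by
  decide +kernel

theorem plane_mem_range : ∀ i : Fin 3, ∀ v : V6, InPlane i v → ∃ w : V6, w + rot i w = v := by
  decide +kernel

theorem fixed_zero : ∀ v : V6, rot 0 v = v → qV v = 1 → InPlane 1 v ∨ InPlane 2 v := by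
  decide +kernel

theorem fixed_plane : ∀ i j : Fin 3, i ≠ j → ∀ v : V6, InPlane j v → rot i v = v := by
  decide +kernel

theorem same_plane : ∀ i j : Fin 3, i ≠ j → ∀ v w : V6, InPlane i v → InPlane j w → fV v w = 0 := by
  decide +kernel

theorem plane_three : ∀ i : Fin 3, ∀ v w : V6, InPlane i v → InPlane i w → fV v w = 1 →
    ∃ n : Fin 3, (v = rotN i n (ee i) ∧ w = rotN i n (ff i)) ∨
      (v = rotN i n (ee i) ∧ rot i w = v) := by
  decide +kernel

theorem plane_anchor : ∀ i : Fin 3, ∀ v : V6, InPlane i v →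
    ∃ n : Fin 3, v = rotN i n (ee i) := by
  decide +kernel

theorem rotN_ff : ∀ i n : Fin 3, rotN i n (ff i) = rot i (rotN i n (ee i)) := by decide +kernel

theorem plane_comb : ∀ i : Fin 3, ∀ v : V6, InPlane i v → comb i v (ee i) (ff i) = v := by
  decide +kernel

theorem near_rot : ∀ v p : V6, p = 0 ∨ InPlane 0 p →
    fV (v + p) (ff 0) = fV v (ee 0) → fV (v + p) (ee 0 + ff 0) = fV v (ff 0) →
    v + p = rot 0 v := by
  decide +kernel

theorem move_one : ∀ v : V6, qV v = 1 → v ≠ ee 0 → fV v (ee 0) = 0 →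
    ∃ u : V6, qV u = 1 ∧ fV v u = 1 ∧ fV u (ee 0) = 1 := by
  decide +kernel

theorem move_two : ∀ f : V6, qV f = 1 → fV (ee 0) f = 1 → f ≠ ff 0 → fV f (ff 0) = 0 →
    ∃ u : V6, qV u = 1 ∧ fV (ee 0) u = 1 ∧ fV f u = 1 ∧ fV u (ff 0) = 1 := by
  decide +kernel

theorem refl_sq : ∀ i : Fin 3, ∀ v w : V6, InPlane i v → InPlane i w → rot i w = v →
    comb i v v w = ee i ∧ comb i w v w = ff i ∧ (v ≠ ee i ∨ w ≠ ff i) := by
  decide +kernel

/-- A word in the three rotations. -/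
def rot3 (n : Fin 3 × Fin 3 × Fin 3) (v : V6) : V6 := rotN 0 n.1 (rotN 1 n.2.1 (rotN 2 n.2.2 v))

theorem rot3_basis : ∀ n : Fin 3 × Fin 3 × Fin 3,
    (rot3 n (ee 0) = rotN 0 n.1 (ee 0) ∧ rot3 n (ff 0) = rotN 0 n.1 (ff 0)) ∧
    (rot3 n (ee 1) = rotN 1 n.2.1 (ee 1) ∧ rot3 n (ff 1) = rotN 1 n.2.1 (ff 1)) ∧
    (rot3 n (ee 2) = rotN 2 n.2.2 (ee 2) ∧ rot3 n (ff 2) = rotN 2 n.2.2 (ff 2)) := by
  decide +kernel

theorem rot3_comm : ∀ n : Fin 3 × Fin 3 × Fin 3, ∀ i : Fin 3, ∀ v : V6,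
    rot3 n (rot i v) = rot i (rot3 n v) := by
  decide +kernel

theorem rot3_inj : ∀ n m : Fin 3 × Fin 3 × Fin 3,
    (∀ i, rot3 n (ee i) = rot3 m (ee i)) → n = m := by
  decide +kernel

/-- All vectors. -/
def allV : Finset V6 := Finset.univ

theorem rot3_fix : ∀ n : Fin 3 × Fin 3 × Fin 3,
    (allV.filter fun v => rot3 n v = v).card = (allV.filter fun v => rot 0 v = v).card →
    n = (1, 0, 0) ∨ n = (2, 0, 0) ∨ n = (0, 1, 0) ∨ n = (0, 2, 0) ∨ n = (0, 0, 1) ∨ n = (0, 0, 2) := by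
  decide +kernel

end Cfsg.Agent.H92.SuzThree
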