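import Cfsg.Agent.H92.SuzThree.PlaneData
import Cfsg.Agent.H73.Suz.Invol

/-!
Three orthogonal elliptic planes: the subgroup of order 27 of rotations.
-/

set_option autoImplicit false

namespace Cfsg.Agent.H92.SuzThree

open QuadraticMap Cfsg.Agent.Orthogonal Cfsg.Agent.H73.Suz

/-- The quadratic form in computable coordinates. -/
theorem phi_eq (v : V6) : phi v = qV v := phi_apply v

theorem polar_eq (v w : V6) : polar (⇑phi) v w = fV v w := polar_phi v w

theorem g_form (g : O phi) (v : V6) : qV ((g : V6 ≃ₗ[ZMod 2] V6) v) = qV v := by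
  rw [← phi_eq, ← phi_eq, O.map_app]

theorem g_polar (g : O phi) (v w : V6) :
    fV ((g : V6 ≃ₗ[ZMod 2] V6) v) ((g : V6 ≃ₗ[ZMod 2] V6) w) = fV v w := by
  rw [← polar_eq, ← polar_eq, O.polar_app]

theorem rO_tV {r : V6} (hr : qV r = 1) (v : V6) :
    (rO phi r : V6 ≃ₗ[ZMod 2] V6) v = tV r v := by
  rw [rO_app, phi_eq, hr, inv_one, one_mul, polar_eq, sub_eq_add']
  rfl

theorem app_mul (g h : O phi) (v : V6) : ((g * h : O phi) : V6 ≃ₗ[ZMod 2] V6) v =
    (g : V6 ≃ₗ[ZMod 2] V6) ((h : V6 ≃ₗ[ZMod 2] V6) v) := rfl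

theorem app_pow (g : O phi) (m : ℕ) (v : V6) : ((g ^ (m + 1) : O phi) : V6 ≃ₗ[ZMod 2] V6) v =
    (g : V6 ≃ₗ[ZMod 2] V6) (((g ^ m : O phi) : V6 ≃ₗ[ZMod 2] V6) v) := by
  rw [pow_succ', app_mul]

/-- The rotation of one of the planes. -/
noncomputable def rotO (i : Fin 3) : O phi := rO phi (ee i) * rO phi (ff i)

theorem rotO_app (i : Fin 3) (v : V6) : (rotO i : V6 ≃ₗ[ZMod 2] V6) v = rot i v := by
  rw [rotO, app_mul, rO_tV (gram i i).2.1, rO_tV (gram i i).1]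
  rfl

theorem rotO_mem (i : Fin 3) : rotO i ∈ commutator (O phi) :=
  rO_mul_mem_K (by rw [phi_eq, (gram i i).1]; exact one_ne_zero)
    (by rw [phi_eq, (gram i i).2.1]; exact one_ne_zero)

theorem rotO_cube (i : Fin 3) : rotO i ^ 3 = 1 := O.ext_app fun v => by
  rw [app_pow, app_pow, app_pow, pow_zero, rotO_app, rotO_app, rotO_app]
  exact rot_cube i v

theorem rotO_comm (i j : Fin 3) : Commute (rotO i) (rotO j) := O.ext_app fun v => by
  rw [app_mul, app_mul, rotO_app, rotO_app, rotO_app, rotO_app]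
  exact rot_comm i j v

/-- The element of the group of rotations with given exponents. -/
noncomputable def rot3O (n : Fin 3 × Fin 3 × Fin 3) : O phi :=
  rotO 0 ^ (n.1 : ℕ) * rotO 1 ^ (n.2.1 : ℕ) * rotO 2 ^ (n.2.2 : ℕ)

theorem rotO_pow_app (i : Fin 3) (n : Fin 3) (v : V6) :
    ((rotO i ^ (n : ℕ) : O phi) : V6 ≃ₗ[ZMod 2] V6) v = rotN i n v := by
  fin_cases n
  · rfl
  · show ((rotO i ^ 1 : O phi) : V6 ≃ₗ[ZMod 2] V6) v = _
    rw [pow_one, rotO_app]; rfl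
  · show ((rotO i ^ 2 : O phi) : V6 ≃ₗ[ZMod 2] V6) v = _
    rw [pow_two, app_mul, rotO_app, rotO_app]; rfl

theorem rot3O_app (n : Fin 3 × Fin 3 × Fin 3) (v : V6) :
    (rot3O n : V6 ≃ₗ[ZMod 2] V6) v = rot3 n v := by
  rw [rot3O, app_mul, app_mul, rotO_pow_app, rotO_pow_app, rotO_pow_app]
  rfl

theorem rot3O_mem (n : Fin 3 × Fin 3 × Fin 3) : rot3O n ∈ commutator (O phi) :=
  mul_mem (mul_mem (pow_mem (rotO_mem 0) _) (pow_mem (rotO_mem 1) _)) (pow_mem (rotO_mem 2) _)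

theorem map_comb (g : O phi) (i : Fin 3) (v a b : V6) :
    (g : V6 ≃ₗ[ZMod 2] V6) (comb i v a b) =
      comb i v ((g : V6 ≃ₗ[ZMod 2] V6) a) ((g : V6 ≃ₗ[ZMod 2] V6) b) := by
  simp [comb, map_add, map_smul]

theorem ext_six {g h : O phi}
    (he : ∀ i, (g : V6 ≃ₗ[ZMod 2] V6) (ee i) = (h : V6 ≃ₗ[ZMod 2] V6) (ee i))
    (hf : ∀ i, (g : V6 ≃ₗ[ZMod 2] V6) (ff i) = (h : V6 ≃ₗ[ZMod 2] V6) (ff i)) : g = h :=
  O.ext_app fun v => by
    rw [expand v]
    simp only [map_add, map_comb, he, hf]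

theorem rot3O_inj {n m : Fin 3 × Fin 3 × Fin 3} (h : rot3O n = rot3O m) : n = m :=
  rot3_inj n m fun i => by rw [← rot3O_app, ← rot3O_app, h]

/-- An element acting as a rotation on each plane. -/
theorem eq_rot3O {g : O phi} (h : ∀ i, ∃ n : Fin 3,
    (g : V6 ≃ₗ[ZMod 2] V6) (ee i) = rotN i n (ee i) ∧
      (g : V6 ≃ₗ[ZMod 2] V6) (ff i) = rotN i n (ff i)) : ∃ n, g = rot3O n := by
  choose n hn using h
  refine ⟨(n 0, n 1, n 2), ext_six (fun i => ?_) fun i => ?_⟩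
  · obtain ⟨⟨a, -⟩, ⟨b, -⟩, c, -⟩ := rot3_basis (n 0, n 1, n 2)
    rw [rot3O_app, (hn i).1]
    fin_cases i
    exacts [a.symm, b.symm, c.symm]
  · obtain ⟨⟨-, a⟩, ⟨-, b⟩, -, c⟩ := rot3_basis (n 0, n 1, n 2)
    rw [rot3O_app, (hn i).2]
    fin_cases i
    exacts [a.symm, b.symm, c.symm]

/-- Commutation with a rotation, on vectors. -/
theorem comm_app {g : O phi} {i : Fin 3} (h : Commute g (rotO i)) (v : V6) :
    (g : V6 ≃ₗ[ZMod 2] V6) (rot i v) = rot i ((g : V6 ≃ₗ[ZMod 2] V6) v) := by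
  rw [← rotO_app, ← rotO_app, ← app_mul, h.eq, app_mul]

theorem plane_stable {g : O phi} {i : Fin 3} (h : Commute g (rotO i)) {v : V6} (hv : InPlane i v) :
    InPlane i ((g : V6 ≃ₗ[ZMod 2] V6) v) := by
  obtain ⟨w, rfl⟩ := plane_mem_range i v hv
  rw [map_add, comm_app h]
  refine (range_rot i _).resolve_left fun e => ?_
  have e2 : (g : V6 ≃ₗ[ZMod 2] V6) (w + rot i w) = 0 := by rw [map_add, comm_app h]; exact e
  rw [LinearEquiv.map_eq_zero_iff] at e2
  rw [e2] at hv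
  have : ∀ i, ¬ InPlane i (0 : V6) := by decide
  exact this i hv

theorem rot_image {g : O phi} {i : Fin 3} (h : Commute g (rotO i)) :
    ∃ n : Fin 3, (g : V6 ≃ₗ[ZMod 2] V6) (ee i) = rotN i n (ee i) ∧
      (g : V6 ≃ₗ[ZMod 2] V6) (ff i) = rotN i n (ff i) := by
  obtain ⟨n, hn⟩ := plane_anchor i _ (plane_stable h (Or.inl rfl))
  refine ⟨n, hn, ?_⟩
  have e : rot i (ee i) = ff i := by rw [(rot_basis i i).1, if_pos rfl]
  rw [rotN_ff, ← hn, ← comm_app h, e]

/-- The rotations are self-centralising. -/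
theorem centralizer_rots {g : O phi} (h : ∀ i, Commute g (rotO i)) : ∃ n, g = rot3O n :=
  eq_rot3O fun i => rot_image (h i)

/-- Elements of order dividing nine commuting with the first rotation are rotations. -/
theorem cent_first {g : O phi} (h : Commute g (rotO 0)) (h9 : g ^ 9 = 1) :
    ∃ n, g = rot3O n := by
  have hfix : ∀ {v : V6}, rot 0 v = v →
      rot 0 ((g : V6 ≃ₗ[ZMod 2] V6) v) = (g : V6 ≃ₗ[ZMod 2] V6) v := fun hv => by
    rw [← comm_app h, hv]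
  have hout : ∀ j : Fin 3, j ≠ 0 → ∀ v, InPlane j v →
      InPlane 1 ((g : V6 ≃ₗ[ZMod 2] V6) v) ∨ InPlane 2 ((g : V6 ≃ₗ[ZMod 2] V6) v) := by
    intro j hj v hv
    refine fixed_zero _ (hfix (fixed_plane 0 j (Ne.symm hj) v hv)) ?_
    rw [g_form]
    rcases hv with rfl | rfl | rfl
    · exact (gram j j).1
    · exact (gram j j).2.1
    · revert hj; revert j; decide
  have h9' : ∀ v, ((g ^ 9 : O phi) : V6 ≃ₗ[ZMod 2] V6) v = v := fun v => by rw [h9]; rfl
  -- the planes are not interchanged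
  have hone : InPlane 1 ((g : V6 ≃ₗ[ZMod 2] V6) (ee 1)) := by
    refine (hout 1 (by decide) _ (Or.inl rfl)).resolve_right fun h2 => ?_
    have hf2 : InPlane 2 ((g : V6 ≃ₗ[ZMod 2] V6) (ff 1)) := by
      refine (hout 1 (by decide) _ (Or.inr (Or.inl rfl))).resolve_left fun h1 => ?_
      have := same_plane 2 1 (by decide) _ _ h2 h1
      rw [g_polar, (gram 1 1).2.2.2.2, if_pos rfl] at this
      exact one_ne_zero this
    have h21 : ∀ v, InPlane 2 v → InPlane 1 ((g : V6 ≃ₗ[ZMod 2] V6) v) := by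
      intro v hv
      refine (hout 2 (by decide) v hv).resolve_right fun hg2 => ?_
      have hcb := plane_comb 2 _ hg2
      rw [comb] at hcb
      -- orthogonal to both images, hence zero
      have hz : ∀ w, InPlane 2 w → fV w ((g : V6 ≃ₗ[ZMod 2] V6) (ee 1)) = 0 →
          fV w ((g : V6 ≃ₗ[ZMod 2] V6) (ff 1)) = 0 → False := by
        intro w hw
        have hne : fV ((g : V6 ≃ₗ[ZMod 2] V6) (ee 1)) ((g : V6 ≃ₗ[ZMod 2] V6) (ff 1)) = 1 := by
          rw [g_polar, (gram 1 1).2.2.2.2, if_pos rfl]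
        revert hne h2 hf2
        generalize (g : V6 ≃ₗ[ZMod 2] V6) (ee 1) = a, (g : V6 ≃ₗ[ZMod 2] V6) (ff 1) = b
        intro ha hb hne
        rcases hw with rfl | rfl | rfl <;> rcases ha with rfl | rfl | rfl <;>
          rcases hb with rfl | rfl | rfl <;> revert hne <;> decide
      refine hz _ hg2 ?_ ?_
      · rw [g_polar]; exact same_plane 2 1 (by decide) v (ee 1) hv (Or.inl rfl)
      · rw [g_polar]; exact same_plane 2 1 (by decide) v (ff 1) hv (Or.inr (Or.inl rfl))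
    have h12 : ∀ v, InPlane 1 v → InPlane 2 ((g : V6 ≃ₗ[ZMod 2] V6) v) := by
      intro v hv
      rcases hv with rfl | rfl | rfl
      · exact h2
      · exact hf2
      · refine (hout 1 (by decide) _ (Or.inr (Or.inr rfl))).resolve_left fun h1 => ?_
        have e := same_plane 1 2 (by decide) _ _ h1 h2
        rw [g_polar] at e
        revert e; decide
    have hpow : ∀ m : ℕ, InPlane 1 (((g ^ (2 * m) : O phi) : V6 ≃ₗ[ZMod 2] V6) (ee 1)) := by
      intro m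
      induction m with
      | zero => exact Or.inl rfl
      | succ m ih =>
        rw [show 2 * (m + 1) = 2 * m + 1 + 1 by ring, app_pow, app_pow]
        exact h21 _ (h12 _ ih)
    have := h12 _ (hpow 4)
    rw [← app_pow, show 2 * 4 + 1 = 9 from rfl, h9'] at this
    revert this; decide
  have hff : InPlane 1 ((g : V6 ≃ₗ[ZMod 2] V6) (ff 1)) := by
    refine (hout 1 (by decide) _ (Or.inr (Or.inl rfl))).resolve_right fun h1 => ?_
    have := same_plane 1 2 (by decide) _ _ hone h1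
    rw [g_polar, (gram 1 1).2.2.2.2, if_pos rfl] at this
    exact one_ne_zero this
  have htwo : ∀ v, InPlane 2 v → InPlane 2 ((g : V6 ≃ₗ[ZMod 2] V6) v) := by
    intro v hv
    refine (hout 2 (by decide) v hv).resolve_left fun hg1 => ?_
    have e1 : fV ((g : V6 ≃ₗ[ZMod 2] V6) v) ((g : V6 ≃ₗ[ZMod 2] V6) (ee 1)) = 0 := by
      rw [g_polar]; exact same_plane 2 1 (by decide) v (ee 1) hv (Or.inl rfl)
    have e2 : fV ((g : V6 ≃ₗ[ZMod 2] V6) v) ((g : V6 ≃ₗ[ZMod 2] V6) (ff 1)) = 0 := by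
      rw [g_polar]; exact same_plane 2 1 (by decide) v (ff 1) hv (Or.inr (Or.inl rfl))
    have hne : fV ((g : V6 ≃ₗ[ZMod 2] V6) (ee 1)) ((g : V6 ≃ₗ[ZMod 2] V6) (ff 1)) = 1 := by
      rw [g_polar, (gram 1 1).2.2.2.2, if_pos rfl]
    revert e1 e2 hne hg1 hone hff
    generalize (g : V6 ≃ₗ[ZMod 2] V6) (ee 1) = a, (g : V6 ≃ₗ[ZMod 2] V6) (ff 1) = b,
      (g : V6 ≃ₗ[ZMod 2] V6) v = w
    intro ha hb hw e1 e2 hne
    rcases hw with rfl | rfl | rfl <;> rcases ha with rfl | rfl | rfl <;>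
      rcases hb with rfl | rfl | rfl <;> revert e1 e2 hne <;> decide
  -- no reflection on a plane
  have hplane : ∀ j : Fin 3, InPlane j ((g : V6 ≃ₗ[ZMod 2] V6) (ee j)) →
      InPlane j ((g : V6 ≃ₗ[ZMod 2] V6) (ff j)) → ∃ n : Fin 3,
        (g : V6 ≃ₗ[ZMod 2] V6) (ee j) = rotN j n (ee j) ∧
          (g : V6 ≃ₗ[ZMod 2] V6) (ff j) = rotN j n (ff j) := by
    intro j ha hb
    obtain ⟨n, h1 | ⟨-, h2⟩⟩ := plane_three j _ _ ha hb
      (by rw [g_polar, (gram j j).2.2.2.2, if_pos rfl])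
    · exact ⟨n, h1⟩
    exfalso
    obtain ⟨s1, s2, hne⟩ := refl_sq j _ _ ha hb h2
    have hga : (g : V6 ≃ₗ[ZMod 2] V6) ((g : V6 ≃ₗ[ZMod 2] V6) (ee j)) = ee j := by
      conv_lhs => rw [← plane_comb j _ ha]
      rw [map_comb]; exact s1
    have hgb : (g : V6 ≃ₗ[ZMod 2] V6) ((g : V6 ≃ₗ[ZMod 2] V6) (ff j)) = ff j := by
      conv_lhs => rw [← plane_comb j _ hb]
      rw [map_comb]; exact s2
    have key : ∀ v, (g : V6 ≃ₗ[ZMod 2] V6) ((g : V6 ≃ₗ[ZMod 2] V6) v) = v →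
        (g : V6 ≃ₗ[ZMod 2] V6) v = v := fun v hv => by
      have := h9' v
      simp only [app_pow, pow_zero, show ((1 : O phi) : V6 ≃ₗ[ZMod 2] V6) v = v from rfl, hv] at this
      exact this
    rcases hne with hne | hne
    · exact hne (key _ hga)
    · exact hne (key _ hgb)
  refine eq_rot3O fun i => ?_
  fin_cases i
  · exact rot_image h
  · exact hplane 1 hone hff
  · exact hplane 2 (htwo _ (Or.inl rfl)) (htwo _ (Or.inr (Or.inl rfl)))

theorem refls_not_mem : rO phi (ee 0) * rO phi (ee 1) * rO phi (ee 2) ∉ commutator (O phi) := by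
  intro hm
  refine rO_not_mem_K (a := ee 2) (by rw [phi_eq, (gram 2 2).1]; exact one_ne_zero) ?_
  exact (Subgroup.mul_mem_cancel_left _ (rO_mul_mem_K
    (by rw [phi_eq, (gram 0 0).1]; exact one_ne_zero)
    (by rw [phi_eq, (gram 1 1).1]; exact one_ne_zero))).1 hm

theorem refls_rot : ∀ i : Fin 3, ∀ v : V6,
    tV (ee 0) (tV (ee 1) (tV (ee 2) (rot i v))) =
      rot i (rot i (tV (ee 0) (tV (ee 1) (tV (ee 2) v)))) := by decide +kernel

theorem refls_sq : ∀ v : V6,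
    tV (ee 0) (tV (ee 1) (tV (ee 2) (tV (ee 0) (tV (ee 1) (tV (ee 2) v))))) = v := by decide +kernel

/-- No element of the commutator subgroup inverts all three rotations. -/
theorem no_inverter {g : O phi} (hg : g ∈ commutator (O phi))
    (h : ∀ i, g * rotO i * g⁻¹ = (rotO i)⁻¹) : False := by
  obtain ⟨r, hr⟩ : ∃ r, r = rO phi (ee 0) * rO phi (ee 1) * rO phi (ee 2) := ⟨_, rfl⟩
  have happ : ∀ v, (r : V6 ≃ₗ[ZMod 2] V6) v = tV (ee 0) (tV (ee 1) (tV (ee 2) v)) := fun v => by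
    rw [hr, app_mul, app_mul, rO_tV (gram 0 0).1, rO_tV (gram 1 1).1, rO_tV (gram 2 2).1]
  have hri : ∀ i, r * rotO i * r⁻¹ = (rotO i)⁻¹ := fun i => by
    rw [mul_inv_eq_iff_eq_mul, show (rotO i)⁻¹ = rotO i * rotO i from inv_eq_of_mul_eq_one_right (by
      rw [← mul_assoc, ← pow_two, ← pow_succ, rotO_cube])]
    refine O.ext_app fun v => ?_
    rw [app_mul, happ, app_mul, app_mul, rotO_app, rotO_app, rotO_app, happ]
    exact refls_rot i v
  have hc : ∀ i, Commute (r⁻¹ * g) (rotO i) := fun i => by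
    show r⁻¹ * g * rotO i = rotO i * (r⁻¹ * g)
    have e1 : g * rotO i = (rotO i)⁻¹ * g := by rw [← h i]; group
    have e2 : r⁻¹ * (rotO i)⁻¹ = rotO i * r⁻¹ := by rw [← hri i]; group
    rw [mul_assoc, e1, ← mul_assoc, e2, mul_assoc]
  obtain ⟨n, hn⟩ := centralizer_rots hc
  refine refls_not_mem ?_
  rw [← hr, show r = g * (rot3O n)⁻¹ by rw [← hn]; group]
  exact mul_mem hg (inv_mem (rot3O_mem n))

/-- The fixed vectors. -/
noncomputable def fixCount (g : O phi) : ℕ :=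
  (allV.filter fun v => (g : V6 ≃ₗ[ZMod 2] V6) v = v).card

theorem fixCount_conj (k g : O phi) : fixCount (k * g * k⁻¹) = fixCount g := by
  refine Finset.card_equiv ((k⁻¹ : O phi) : V6 ≃ₗ[ZMod 2] V6).toEquiv fun v => ?_
  simp only [allV, Finset.mem_filter, Finset.mem_univ, true_and, LinearEquiv.coe_toEquiv]
  rw [app_mul, app_mul]
  constructor
  · intro e
    have := congrArg ((k⁻¹ : O phi) : V6 ≃ₗ[ZMod 2] V6) e
    rwa [← app_mul, inv_mul_cancel, show ((1 : O phi) : V6 ≃ₗ[ZMod 2] V6) _ = _ from rfl] at this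
  · intro e
    rw [e, ← app_mul, mul_inv_cancel]
    rfl

theorem fixCount_inv (g : O phi) : fixCount g⁻¹ = fixCount g := by
  refine Finset.card_equiv (Equiv.refl _) fun v => ?_
  simp only [allV, Finset.mem_filter, Finset.mem_univ, true_and, Equiv.refl_apply]
  constructor
  · intro e
    conv_lhs => rw [← e]
    rw [← app_mul, mul_inv_cancel]
    rfl
  · intro e
    conv_lhs => rw [← e]
    rw [← app_mul, inv_mul_cancel]
    rfl

theorem rot3O_of_conj {n : Fin 3 × Fin 3 × Fin 3} {k : O phi}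
    (h : rot3O n = k * rotO 0 * k⁻¹ ∨ rot3O n = k * (rotO 0)⁻¹ * k⁻¹) :
    ∃ i, rot3O n = rotO i ∨ rot3O n = (rotO i)⁻¹ := by
  have hcount : fixCount (rot3O n) = fixCount (rotO 0) := by
    rcases h with h | h <;> rw [h, fixCount_conj]
    exact fixCount_inv _
  have hc : (allV.filter fun v => rot3 n v = v).card = (allV.filter fun v => rot 0 v = v).card := by
    simpa only [fixCount, rot3O_app, rotO_app] using hcount
  have two : ∀ i : Fin 3, rotO i ^ 2 = (rotO i)⁻¹ := fun i =>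
    eq_inv_of_mul_eq_one_right (by rw [← pow_succ', rotO_cube])
  rcases rot3_fix n hc with rfl | rfl | rfl | rfl | rfl | rfl
  · exact ⟨0, Or.inl (by simp [rot3O])⟩
  · exact ⟨0, Or.inr (by simp [rot3O, two])⟩
  · exact ⟨1, Or.inl (by simp [rot3O])⟩
  · exact ⟨1, Or.inr (by simp [rot3O, two])⟩
  · exact ⟨2, Or.inl (by simp [rot3O])⟩
  · exact ⟨2, Or.inr (by simp [rot3O, two])⟩

/-- A pair with polar value one moves to the first plane. -/
theorem exists_map_pair {v w : V6} (hv : qV v = 1) (hw : qV w = 1) (hvw : fV v w = 1) :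
    ∃ k : O phi, (k : V6 ≃ₗ[ZMod 2] V6) v = ee 0 ∧ (k : V6 ≃ₗ[ZMod 2] V6) w = ff 0 := by
  have swap : ∀ a b : V6, qV a = 1 → qV b = 1 → fV a b = 1 →
      qV (a + b) = 1 ∧ tV (a + b) a = b := by
    intro a b ha hb hab
    have hq : qV (a + b) = 1 := by
      have := map_add_polar phi a b
      rw [phi_eq, phi_eq, phi_eq, polar_eq, ha, hb, hab] at this
      rw [this]; rfl
    refine ⟨hq, ?_⟩
    have : fV (a + b) a = 1 := by
      rw [← polar_eq, polar_add_left, polar_eq, polar_eq]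
      have haa : fV a a = 0 := by
        have : ∀ a : V6, fV a a = 0 := by decide +kernel
        exact this a
      rw [haa, zero_add, ← polar_eq, polar_comm, polar_eq, hab]
    rw [tV, this, one_smul, ← add_assoc, add_self', zero_add]
  -- move the first vector
  obtain ⟨k1, h1⟩ : ∃ k : O phi, (k : V6 ≃ₗ[ZMod 2] V6) v = ee 0 := by
    by_cases he : v = ee 0
    · exact ⟨1, he⟩
    by_cases hp : fV v (ee 0) = 1
    · obtain ⟨a, b⟩ := swap v (ee 0) hv (gram 0 0).1 hp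
      exact ⟨rO phi (v + ee 0), by rw [rO_tV a]; exact b⟩
    · obtain ⟨u, hu, h1, h2⟩ := move_one v hv he ((two_cases' _).resolve_right hp)
      obtain ⟨a, b⟩ := swap v u hv hu h1
      obtain ⟨c, d⟩ := swap u (ee 0) hu (gram 0 0).1 h2
      exact ⟨rO phi (u + ee 0) * rO phi (v + u), by rw [app_mul, rO_tV a, b, rO_tV c, d]⟩
  set f := (k1 : V6 ≃ₗ[ZMod 2] V6) w with hf
  have hqf : qV f = 1 := by rw [hf, g_form]; exact hw
  have hef : fV (ee 0) f = 1 := by rw [← h1, hf, g_polar]; exact hvw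
  -- move the second vector, fixing the first
  have fixe : ∀ a b : V6, fV (ee 0) a = 1 → fV (ee 0) b = 1 → tV (a + b) (ee 0) = ee 0 := by
    intro a b ha hb
    have e : fV (a + b) (ee 0) = 0 := by
      rw [← polar_eq, polar_comm, polar_add_right, polar_eq, polar_eq, ha, hb]; rfl
    rw [tV, e, zero_smul, add_zero]
  obtain ⟨k2, h2, h2'⟩ : ∃ k : O phi, (k : V6 ≃ₗ[ZMod 2] V6) (ee 0) = ee 0 ∧
      (k : V6 ≃ₗ[ZMod 2] V6) f = ff 0 := by
    have he0 : fV (ee 0) (ff 0) = 1 := by decide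
    by_cases he : f = ff 0
    · exact ⟨1, rfl, he⟩
    by_cases hp : fV f (ff 0) = 1
    · obtain ⟨a, b⟩ := swap f (ff 0) hqf (gram 0 0).2.1 hp
      exact ⟨rO phi (f + ff 0), by rw [rO_tV a]; exact fixe _ _ hef he0,
        by rw [rO_tV a]; exact b⟩
    · obtain ⟨u, hu, h1u, hfu, hu0⟩ := move_two f hqf hef he ((two_cases' _).resolve_right hp)
      obtain ⟨a, b⟩ := swap f u hqf hu hfu
      obtain ⟨c, d⟩ := swap u (ff 0) hu (gram 0 0).2.1 hu0
      exact ⟨rO phi (u + ff 0) * rO phi (f + u),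
        by rw [app_mul, rO_tV a, fixe _ _ hef h1u, rO_tV c, fixe _ _ h1u he0],
        by rw [app_mul, rO_tV a, b, rO_tV c, d]⟩
  exact ⟨k2 * k1, by rw [app_mul, h1, h2], by rw [app_mul, ← hf, h2']⟩

/-- Each rotation is conjugate to the first one in the commutator subgroup. -/
theorem exists_conj_rot (i : Fin 3) :
    ∃ k ∈ commutator (O phi), k * rotO 0 * k⁻¹ = rotO i := by
  obtain ⟨k, hk1, hk2⟩ := exists_map_pair (gram i i).1 (gram i i).2.1
    (by rw [(gram i i).2.2.2.2, if_pos rfl])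
  have hconj : k⁻¹ * rotO 0 * k⁻¹⁻¹ = rotO i := by
    rw [rotO, rotO, conj_mul.symm, conj_rO, conj_rO, ← hk1, ← hk2, ← app_mul, ← app_mul,
      inv_mul_cancel]
    rfl
  by_cases hm : k⁻¹ ∈ commutator (O phi)
  · exact ⟨k⁻¹, hm, hconj⟩
  refine ⟨k⁻¹ * rO phi (ee 1), ?_, ?_⟩
  · have hidx := index_commutator_eq_two phi_nondeg gen_phi two_eq_zero
      (by rw [finrank_V6]; norm_num)
    exact (Subgroup.mul_mem_iff_of_index_two hidx).2 (iff_of_false hm
      (rO_not_mem_K (by rw [phi_eq, (gram 1 1).1]; exact one_ne_zero)))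
  · have hc : rO phi (ee 1) * rotO 0 * (rO phi (ee 1))⁻¹ = rotO 0 := by
      rw [mul_inv_eq_iff_eq_mul]
      refine O.ext_app fun v => ?_
      rw [app_mul, app_mul, rO_tV (gram 1 1).1, rO_tV (gram 1 1).1, rotO_app, rotO_app]
      have : ∀ v : V6, tV (ee 1) (rot 0 v) = rot 0 (tV (ee 1) v) := by decide +kernel
      exact this v
    rw [show k⁻¹ * rO phi (ee 1) * rotO 0 * (k⁻¹ * rO phi (ee 1))⁻¹ =
      k⁻¹ * (rO phi (ee 1) * rotO 0 * (rO phi (ee 1))⁻¹) * k⁻¹⁻¹ by group, hc, hconj]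

/-- A fixed point free element of order three on an elliptic plane is conjugate to a rotation. -/
theorem exists_conj_first {g : O phi} (h3 : g ^ 3 = 1) {w : V6} (hqw : qV w = 1)
    (hw : ∃ v, v + (g : V6 ≃ₗ[ZMod 2] V6) v = w)
    (hrange : ∀ v, v + (g : V6 ≃ₗ[ZMod 2] V6) v = 0 ∨ v + (g : V6 ≃ₗ[ZMod 2] V6) v = w ∨
      v + (g : V6 ≃ₗ[ZMod 2] V6) v = (g : V6 ≃ₗ[ZMod 2] V6) w ∨
      v + (g : V6 ≃ₗ[ZMod 2] V6) v = w + (g : V6 ≃ₗ[ZMod 2] V6) w)
    (hpol : fV w ((g : V6 ≃ₗ[ZMod 2] V6) w) = 1) :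
    ∃ k : O phi, k * g * k⁻¹ = rotO 0 := by
  obtain ⟨k, hk1, hk2⟩ := exists_map_pair hqw (by rw [g_form]; exact hqw) hpol
  refine ⟨k, ?_⟩
  set g' := k * g * k⁻¹ with hg'
  have hinv : ∀ v, ((k⁻¹ : O phi) : V6 ≃ₗ[ZMod 2] V6) ((k : V6 ≃ₗ[ZMod 2] V6) v) = v := fun v => by
    rw [← app_mul, inv_mul_cancel]; rfl
  have happ : ∀ v, (g' : V6 ≃ₗ[ZMod 2] V6) ((k : V6 ≃ₗ[ZMod 2] V6) v) =
      (k : V6 ≃ₗ[ZMod 2] V6) ((g : V6 ≃ₗ[ZMod 2] V6) v) := fun v => by
    rw [hg', app_mul, app_mul, hinv]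
  have hgg : (g : V6 ≃ₗ[ZMod 2] V6) ((g : V6 ≃ₗ[ZMod 2] V6) w) =
      w + (g : V6 ≃ₗ[ZMod 2] V6) w := by
    obtain ⟨v, rfl⟩ := hw
    have h3' : (g : V6 ≃ₗ[ZMod 2] V6) ((g : V6 ≃ₗ[ZMod 2] V6) ((g : V6 ≃ₗ[ZMod 2] V6) v)) = v := by
      have := congrArg (fun x : O phi => (x : V6 ≃ₗ[ZMod 2] V6) v) h3
      simpa only [app_pow, pow_zero, show ((1 : O phi) : V6 ≃ₗ[ZMod 2] V6) v = v from rfl] using this
    rw [map_add, map_add, h3']
    have key : ∀ v b c : V6, c + v = v + b + (b + c) := fun v b c => by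
      rw [add_assoc, ← add_assoc b b c, add_self', zero_add, add_comm]
    exact key _ _ _
  have he : (g' : V6 ≃ₗ[ZMod 2] V6) (ee 0) = ff 0 := by rw [← hk1, happ, hk2]
  have hf : (g' : V6 ≃ₗ[ZMod 2] V6) (ff 0) = ee 0 + ff 0 := by
    rw [← hk2, happ, hgg, map_add, hk1]
  refine O.ext_app fun u => ?_
  rw [rotO_app]
  obtain ⟨v, rfl⟩ : ∃ v, (k : V6 ≃ₗ[ZMod 2] V6) v = u := (k : V6 ≃ₗ[ZMod 2] V6).surjective u
  set u := (k : V6 ≃ₗ[ZMod 2] V6) v with hu
  have hp : u + (g' : V6 ≃ₗ[ZMod 2] V6) u = 0 ∨ InPlane 0 (u + (g' : V6 ≃ₗ[ZMod 2] V6) u) := by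
    rw [hu, happ, ← map_add]
    rcases hrange v with e | e | e | e <;> rw [e]
    · exact Or.inl (map_zero _)
    · exact Or.inr (Or.inl hk1)
    · exact Or.inr (Or.inr (Or.inl hk2))
    · exact Or.inr (Or.inr (Or.inr (by rw [map_add, hk1, hk2])))
  have := near_rot u _ hp
  rw [← add_assoc, add_self', zero_add] at this
  refine this ?_ ?_
  · rw [← he, g_polar]
  · rw [← hf, g_polar]

end Cfsg.Agent.H92.SuzThree
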