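import Cfsg.Agent.H92.SuzThree.Orbit
import Cfsg.Agent.H92.SuzThree.Eleven

/-!
Suzuki type groups: the normaliser of the subgroup of order 3^5 modulo it is M11.
-/

set_option autoImplicit false

namespace Cfsg.Agent.H92.SuzThree

open Cfsg.Agent.Orthogonal Cfsg.Agent.H73.Suz

variable {G : Type*} [Group G] [Finite G]

namespace Data

variable {z x : G} {Q : Subgroup G} (d : Data z x Q)

/-- The normaliser of `A`. -/
noncomputable def NA : Subgroup G := Subgroup.normalizer (d.A : Set G)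

theorem mem_NA_of_le {g : G} (h : ∀ v ∈ d.A, g * v * g⁻¹ ∈ d.A) : g ∈ d.NA :=
  Subgroup.mem_normalizer_iff_map_conj_eq.2
    (Subgroup.eq_of_le_of_card_ge (by rintro _ ⟨v, hv, rfl⟩; exact h v hv)
      (le_of_eq (Subgroup.card_map_of_injective (MulEquiv.injective _)).symm))

theorem conj_mem_A {g : G} (hg : g ∈ d.NA) {v : G} (hv : v ∈ d.A) : g * v * g⁻¹ ∈ d.A :=
  (Subgroup.mem_normalizer_iff.1 hg v).1 hv

theorem A_le_NA : d.A ≤ d.NA := Subgroup.le_normalizer

theorem mem_NA_C {g : G} (hg : g ∈ Subgroup.centralizer ({x} : Set G)) :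
    g ∈ d.NA ↔ d.φ ⟨g, hg⟩ ∈ NT := by
  constructor
  · intro hN
    refine Subgroup.mem_normalizer_iff_map_conj_eq.2
      (Subgroup.eq_of_le_of_card_ge ?_
        (le_of_eq (Subgroup.card_map_of_injective (MulEquiv.injective _)).symm))
    rintro _ ⟨t, ht, rfl⟩
    obtain ⟨v, hv, rfl⟩ := d.exists_lift t
    obtain ⟨_, hmem⟩ := d.mem_A.1 (d.conj_mem_A hN (d.mem_A.2 ⟨hv, ht⟩))
    show d.φ ⟨g, hg⟩ * d.φ ⟨v, hv⟩ * (d.φ ⟨g, hg⟩)⁻¹ ∈ TT
    rw [← map_inv, ← map_mul, ← map_mul]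
    exact hmem
  · intro hN
    exact d.mem_NA_of_le fun v hv => d.normalizer_lift hg hN hv

theorem exists_NA_of_E {y : G} (hy : y ∈ d.E) : ∃ n ∈ d.NA, n * x * n⁻¹ = y := by
  obtain ⟨hA, g, hg⟩ := hy
  have hx : x = g⁻¹ * y * g := by rw [← hg]; group
  set E' := d.A.map (MulAut.conj g⁻¹).toMonoidHom with hE'
  have hE'C : E' ≤ Subgroup.centralizer ({x} : Set G) := by
    rintro _ ⟨v, hv, rfl⟩
    refine Subgroup.mem_centralizer_singleton_iff.2 ?_
    show g⁻¹ * v * g⁻¹⁻¹ * x = x * (g⁻¹ * v * g⁻¹⁻¹)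
    rw [inv_inv]
    calc g⁻¹ * v * g * x = g⁻¹ * (v * y) * g := by nth_rw 1 [hx]; group
      _ = g⁻¹ * (y * v) * g := by rw [((d.A_spec hv).2 y hA).eq]
      _ = x * (g⁻¹ * v * g) := by nth_rw 1 [hx]; group
  obtain ⟨c, hc, hcE⟩ := d.conj_to_A E' hE'C (isElementaryAbelian_map _ d.A_elem)
    (by rw [hE', Subgroup.card_map_of_injective (MulEquiv.injective _), d.card_A])
  have hn : c * g⁻¹ ∈ d.NA := d.mem_NA_of_le fun v hv => by
    rw [← hcE]
    exact ⟨_, ⟨v, hv, rfl⟩, by simp [mul_assoc]⟩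
  refine ⟨(c * g⁻¹)⁻¹, inv_mem hn, ?_⟩
  have hcx : c⁻¹ * x * c = x := by
    rw [mul_assoc, ← Subgroup.mem_centralizer_singleton_iff.1 hc, inv_mul_cancel_left]
  calc (c * g⁻¹)⁻¹ * x * (c * g⁻¹)⁻¹⁻¹ = g * (c⁻¹ * x * c) * g⁻¹ := by group
    _ = y := by rw [hcx, hg]

theorem E_stable {n y : G} (hn : n ∈ d.NA) (hy : y ∈ d.E) : n * y * n⁻¹ ∈ d.E := by
  obtain ⟨hA, g, rfl⟩ := hy
  exact ⟨d.conj_mem_A hn hA, n * g, by group⟩

theorem card_stab : Nat.card (NT.comap d.φ) = 87480 := by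
  have h1 := Subgroup.card_mul_index (NT.comap d.φ)
  have h2 := Subgroup.card_mul_index NT
  rw [Subgroup.index_comap_of_surjective NT d.φ_surj, d.card_C] at h1
  rw [card_NT, card_HH] at h2
  rw [show NT.index = 112 by omega] at h1
  omega

theorem card_NA : Nat.card d.NA = d.E.ncard * 87480 := by
  letI : MulAction d.NA G :=
    MulAction.compHom G ((ConjAct.toConjAct (G := G)).toMonoidHom.comp d.NA.subtype)
  have hsmul : ∀ (n : d.NA) (g : G), n • g = (n : G) * g * (n : G)⁻¹ := fun n g => rfl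
  have horb : MulAction.orbit d.NA x = d.E := by
    ext y
    constructor
    · rintro ⟨n, rfl⟩
      show n • x ∈ d.E
      rw [hsmul]; exact d.E_stable n.2 d.x_mem_E
    · intro hy
      obtain ⟨n, hn, rfl⟩ := d.exists_NA_of_E hy
      exact ⟨⟨n, hn⟩, hsmul _ _⟩
  have hst : Nat.card (MulAction.stabilizer d.NA x) = 87480 := by
    rw [← d.card_stab]
    refine Nat.card_congr
      { toFun := fun n => ⟨⟨((n : d.NA) : G), ?_⟩, ?_⟩
        invFun := fun c => ⟨⟨((c : ↥(Subgroup.centralizer ({x} : Set G))) : G),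
          (d.mem_NA_C c.1.2).2 c.2⟩, ?_⟩
        left_inv := fun _ => rfl
        right_inv := fun _ => rfl }
    · refine Subgroup.mem_centralizer_singleton_iff.2 (mul_inv_eq_iff_eq_mul.1 ?_)
      rw [← hsmul]; exact n.2
    · exact (d.mem_NA_C _).1 (n : d.NA).2
    · show _ • x = x
      rw [hsmul]
      show (c.1 : G) * x * (c.1 : G)⁻¹ = x
      rw [Subgroup.mem_centralizer_singleton_iff.1 c.1.2, mul_inv_cancel_right]
  have h := Subgroup.card_mul_index (MulAction.stabilizer d.NA x)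
  rw [hst, MulAction.index_stabilizer, horb] at h
  rw [← h, mul_comm]

theorem E_card_eq : d.E.ncard = 22 ∧ ∀ i, d.Hit (tenH i) := by
  rcases d.E_card_cases with h | h
  · exact h
  exfalso
  haveI : Fact (Nat.Prime 31) := ⟨by norm_num⟩
  have hdvd : 31 ∣ Nat.card d.NA := by rw [d.card_NA, h]; norm_num
  obtain ⟨g, hg⟩ := exists_prime_orderOf_dvd_card' (G := d.NA) 31 hdvd
  haveI : (d.A.subgroupOf d.NA).Normal := Subgroup.normal_in_normalizer
  have hmod := Compute.card_modEq_card_centralizer hg (d.A.subgroupOf d.NA)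
  have hA : Nat.card (d.A.subgroupOf d.NA) = 243 :=
    (Nat.card_congr (Subgroup.subgroupOfEquivOfLe d.A_le_NA).toEquiv).trans d.card_A
  set F := d.A.subgroupOf d.NA ⊓ Subgroup.centralizer ({g} : Set d.NA) with hF
  have hd : Nat.card F ∣ 3 ^ 5 := by
    rw [show (3 : ℕ) ^ 5 = 243 by norm_num, ← hA]
    exact Subgroup.card_dvd_of_le inf_le_left
  obtain ⟨j, hj, hje⟩ := (Nat.dvd_prime_pow (show Nat.Prime 3 by norm_num)).1 hd
  rw [hje, hA] at hmod
  have hj5 : j = 5 := by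
    interval_cases j <;> simp [Nat.ModEq] at hmod ⊢
  have hFA : F = d.A.subgroupOf d.NA :=
    Subgroup.eq_of_le_of_card_ge inf_le_left (by rw [hje, hA, hj5]; norm_num)
  have hgA : (g : G) ∈ d.A := by
    rw [← d.centralizer_A, Subgroup.mem_centralizer_iff]
    intro v hv
    have : (⟨v, d.A_le_NA hv⟩ : d.NA) ∈ F := by rw [hFA]; exact hv
    exact congrArg Subtype.val (Subgroup.mem_centralizer_singleton_iff.1 this.2)
  have h3 : g ^ 3 = 1 := Subtype.ext (d.A_spec hgA).1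
  have := orderOf_dvd_of_pow_eq_one h3
  rw [hg] at this
  norm_num at this

theorem card_NA_eq : Nat.card d.NA = 1924560 := by
  rw [d.card_NA, d.E_card_eq.1]

/-- The conjugates of `⟨x⟩` in `A`. -/
def Om : Set (Subgroup G) := (fun y => Subgroup.zpowers y) '' d.E

theorem mem_zpowers_E {y w : G} (hy : y ∈ d.E) (hw : w ∈ Subgroup.zpowers y) :
    w = 1 ∨ w = y ∨ w = y⁻¹ := by
  obtain ⟨k, rfl⟩ := Subgroup.mem_zpowers_iff.1 hw
  haveI : Fact (Nat.Prime 3) := ⟨by norm_num⟩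
  have ho : orderOf y = 3 := orderOf_eq_prime (d.A_spec hy.1).1 (d.E_ne_one hy)
  rw [← zpow_mod_orderOf, ho]
  have h1 := Int.emod_nonneg k (show ((3 : ℕ) : ℤ) ≠ 0 by norm_num)
  have h2 := Int.emod_lt_of_pos k (show (0 : ℤ) < (3 : ℕ) by norm_num)
  obtain h | h | h : k % ((3 : ℕ) : ℤ) = 0 ∨ k % ((3 : ℕ) : ℤ) = 1 ∨ k % ((3 : ℕ) : ℤ) = 2 := by omega
  all_goals rw [h]
  · exact Or.inl (zpow_zero _)
  · exact Or.inr (Or.inl (zpow_one _))
  · refine Or.inr (Or.inr (eq_inv_of_mul_eq_one_left ?_))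
    rw [show ((2 : ℤ)) = ((2 : ℕ) : ℤ) from rfl, zpow_natCast, ← pow_succ, (d.A_spec hy.1).1]

theorem zpowers_E_inj {y w : G} (hy : y ∈ d.E) (hw : w ∈ d.E)
    (h : Subgroup.zpowers w = Subgroup.zpowers y) : SameLine w y := by
  have : w ∈ Subgroup.zpowers y := h ▸ Subgroup.mem_zpowers w
  rcases d.mem_zpowers_E hy this with e | e
  · exact absurd e (d.E_ne_one hw)
  · exact e

theorem card_Om : Nat.card d.Om = 11 := by
  classical
  haveI : Fintype G := Fintype.ofFinite G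
  have hE : d.E.toFinset.card = 22 := by
    rw [← Set.ncard_eq_toFinset_card']; exact d.E_card_eq.1
  have h2 : ∀ b ∈ d.E.toFinset.image (fun y => Subgroup.zpowers y),
      (d.E.toFinset.filter fun y => Subgroup.zpowers y = b).card = 2 := by
    intro b hb
    obtain ⟨y, hy, rfl⟩ := Finset.mem_image.1 hb
    rw [Set.mem_toFinset] at hy
    have hfil : (d.E.toFinset.filter fun w => Subgroup.zpowers w = Subgroup.zpowers y) =
        {y, y⁻¹} := by
      ext w
      simp only [Finset.mem_filter, Set.mem_toFinset, Finset.mem_insert, Finset.mem_singleton]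
      constructor
      · rintro ⟨hw, e⟩; exact d.zpowers_E_inj hy hw e
      · rintro (rfl | rfl)
        · exact ⟨hy, rfl⟩
        · exact ⟨d.E_inv hy, Subgroup.zpowers_inv⟩
    rw [hfil, Finset.card_pair]
    intro e
    refine d.E_ne_one hy ?_
    have h2 : y * y = 1 := mul_eq_one_iff_eq_inv.2 e
    have h3 := (d.A_spec hy.1).1
    rwa [pow_succ, pow_two, h2, one_mul] at h3
  have hsum := Finset.card_eq_sum_card_image (fun y => Subgroup.zpowers y) d.E.toFinset
  rw [Finset.sum_const_nat h2, hE] at hsum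
  rw [Nat.card_coe_set_eq, Om, show (fun y => Subgroup.zpowers y) '' d.E =
    ((d.E.toFinset.image fun y => Subgroup.zpowers y) : Finset (Subgroup G)) by simp,
    Set.ncard_coe_finset]
  omega

/-- An element fixing every line of `E` lies in `A`. -/
theorem mem_A_of_fix {k : G} (hk : k ∈ d.NA) (hfix : ∀ y ∈ d.E, SameLine (k * y * k⁻¹) y) :
    k ∈ d.A := by
  classical
  let K : Subgroup G :=
    { carrier := {k | k ∈ d.NA ∧ ∀ y ∈ d.E, SameLine (k * y * k⁻¹) y}
      one_mem' := ⟨one_mem _, fun y _ => Or.inl (by group)⟩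
      mul_mem' := fun {a b} ha hb => ⟨mul_mem ha.1 hb.1, fun y hy => by
        have e : a * b * y * (a * b)⁻¹ = a * (b * y * b⁻¹) * a⁻¹ := by group
        rw [e]
        rcases hb.2 y hy with h | h <;> rw [h]
        · exact ha.2 y hy
        · rw [show a * y⁻¹ * a⁻¹ = (a * y * a⁻¹)⁻¹ by group]
          rcases ha.2 y hy with h' | h' <;> rw [h']
          · exact Or.inr rfl
          · exact Or.inl (inv_inv _)⟩
      inv_mem' := fun {a} ha => ⟨inv_mem ha.1, fun y hy => by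
        rcases ha.2 y hy with h | h
        · exact Or.inl (by conv_lhs => rw [← h]
                           group)
        · refine Or.inr ?_
          have h' : a * y⁻¹ * a⁻¹ = y := by
            rw [show a * y⁻¹ * a⁻¹ = (a * y * a⁻¹)⁻¹ by group, h, inv_inv]
          conv_lhs => rw [← h']
          group⟩ }
  have hnorm : ∀ n ∈ d.NA, ∀ a ∈ K, n * a * n⁻¹ ∈ K := by
    intro n hn a ha
    refine ⟨mul_mem (mul_mem hn ha.1) (inv_mem hn), fun y hy => ?_⟩
    have hy' : n⁻¹ * y * n ∈ d.E := by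
      have := d.E_stable (inv_mem hn) hy
      rwa [inv_inv] at this
    rw [show n * a * n⁻¹ * y * (n * a * n⁻¹)⁻¹ = n * (a * (n⁻¹ * y * n) * a⁻¹) * n⁻¹ by group]
    rcases ha.2 _ hy' with h | h <;> rw [h]
    · exact Or.inl (by group)
    · exact Or.inr (by group)
  have hAK : ∀ v ∈ d.A, v ∈ K := fun v hv => ⟨d.A_le_NA hv, fun y hy => Or.inl (by
    rw [((d.A_spec hv).2 y hy.1).eq, mul_inv_cancel_right])⟩
  -- kernel elements centralising `x` lie in `A`
  have hKC : ∀ a ∈ K, a ∈ Subgroup.centralizer ({x} : Set G) → a ∈ d.A := by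
    set C := Subgroup.centralizer ({x} : Set G) with hC
    set K' : Subgroup HH := (K.subgroupOf C).map d.φ with hK'
    have h1 : TT ≤ K' := fun t ht => by
      obtain ⟨v, hv, rfl⟩ := d.exists_lift t
      exact ⟨⟨v, hv⟩, hAK v (d.mem_A.2 ⟨hv, ht⟩), rfl⟩
    have h2 : K' ≤ NT := by
      rintro _ ⟨⟨v, hv⟩, hvK, rfl⟩
      exact (d.mem_NA_C hv).1 hvK.1
    have h3 : ∀ n ∈ NT, ∀ a ∈ K', n * a * n⁻¹ ∈ K' := by
      rintro n hn _ ⟨⟨v, hv⟩, hvK, rfl⟩
      obtain ⟨w, hw, rfl⟩ := d.exists_lift n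
      exact ⟨⟨w, hw⟩ * ⟨v, hv⟩ * ⟨w, hw⟩⁻¹, hnorm w ((d.mem_NA_C hw).2 hn) v hvK,
        by rw [map_mul, map_mul, map_inv]⟩
    rcases quot_simple K' h1 h2 h3 with h | h
    · intro a ha haC
      exact d.mem_A.2 ⟨haC, h ▸ ⟨⟨a, haC⟩, ha, rfl⟩⟩
    · exfalso
      have hfix : ∀ n ∈ NT, ∀ i, SameLine (n * tenH i * n⁻¹) (tenH i) := by
        intro n hn i
        rw [← h] at hn
        obtain ⟨⟨v, hv⟩, hvK, rfl⟩ := hn
        obtain ⟨w, hw, how⟩ := d.E_card_eq.2 i
        have ho := d.over_conj hv how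
        have hw' : SameLine (v * w * v⁻¹) w := hvK.2 w hw
        rcases hw' with e | e
        · rw [e] at ho; exact Or.inl (d.over_unique ho how)
        · rw [e] at ho; exact Or.inr (d.over_unique ho (d.over_inv how))
      have hall : ∀ i, SameLine (tenH i) aH := fun i => by
        obtain ⟨n, hn, hl⟩ := ten_conj_a i
        exact sameLine_trans (sameLine_symm (hfix n hn i)) hl
      exact absurd (tenH_inj (sameLine_trans (hall 0) (sameLine_symm (hall 1)))) (by decide)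
  have hkK : k ∈ K := ⟨hk, hfix⟩
  rcases hfix x d.x_mem_E with hkx | hkx
  · exact hKC k hkK (Subgroup.mem_centralizer_singleton_iff.2 (mul_inv_eq_iff_eq_mul.1 hkx))
  exfalso
  -- `k` inverts every element of `E`
  have hinvE : ∀ y ∈ d.E, k * y * k⁻¹ = y⁻¹ := by
    intro y hy
    obtain ⟨n, hn, rfl⟩ := d.exists_NA_of_E hy
    set k2 := n⁻¹ * k * n * k⁻¹ with hk2
    have hnk : n⁻¹ * k * n ∈ K := by
      have := hnorm n⁻¹ (inv_mem hn) k hkK
      rwa [inv_inv] at this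
    have hk2x : k2 ∈ Subgroup.centralizer ({x} : Set G) := by
      have hx' : n⁻¹ * k * n * x * (n⁻¹ * k * n)⁻¹ = x⁻¹ := by
        rcases hnk.2 x d.x_mem_E with e | e
        · exfalso
          have hm := hKC _ hnk (Subgroup.mem_centralizer_singleton_iff.2 (mul_inv_eq_iff_eq_mul.1 e))
          have hkA : k ∈ d.A := by
            have := d.conj_mem_A hn hm
            rwa [show n * (n⁻¹ * k * n) * n⁻¹ = k by group] at this
          have : x⁻¹ = x := by
            rw [← hkx, ((d.A_spec hkA).2 x d.x_mem_A).eq, mul_inv_cancel_right]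
          have h2 : x * x = 1 := mul_eq_one_iff_eq_inv.2 this.symm
          have h3 := d.hx3
          rw [pow_succ, pow_two, h2, one_mul] at h3
          exact d.hx1 h3
        · exact e
      refine Subgroup.mem_centralizer_singleton_iff.2 (mul_inv_eq_iff_eq_mul.1 ?_)
      have hkinv : k⁻¹ * x * k = x⁻¹ := by
        have : x = k * x⁻¹ * k⁻¹ := by
          rw [show k * x⁻¹ * k⁻¹ = (k * x * k⁻¹)⁻¹ by group, hkx, inv_inv]
        nth_rw 1 [this]
        group
      rw [hk2]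
      calc n⁻¹ * k * n * k⁻¹ * x * (n⁻¹ * k * n * k⁻¹)⁻¹
          = n⁻¹ * k * n * (k⁻¹ * x * k) * (n⁻¹ * k * n)⁻¹ := by group
        _ = (n⁻¹ * k * n * x * (n⁻¹ * k * n)⁻¹)⁻¹ := by rw [hkinv]; group
        _ = x := by rw [hx', inv_inv]
    have hk2A : k2 ∈ d.A := hKC k2 (mul_mem hnk (inv_mem hkK)) hk2x
    have e1 : n⁻¹ * k * n = k2 * k := by rw [hk2]; group
    calc k * (n * x * n⁻¹) * k⁻¹ = n * ((n⁻¹ * k * n) * x * (n⁻¹ * k * n)⁻¹) * n⁻¹ := by group
      _ = n * (k2 * (k * x * k⁻¹) * k2⁻¹) * n⁻¹ := by rw [e1]; group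
      _ = n * x⁻¹ * n⁻¹ := by
        rw [hkx, ((d.A_spec hk2A).2 _ (inv_mem d.x_mem_A)).eq, mul_inv_cancel_right]
      _ = (n * x * n⁻¹)⁻¹ := by group
  -- hence all of `A`
  have hinvA : ∀ v ∈ d.A, k * v * k⁻¹ = v⁻¹ := by
    let I : Subgroup G :=
      { carrier := {v | v ∈ d.A ∧ k * v * k⁻¹ = v⁻¹}
        one_mem' := ⟨one_mem _, by group⟩
        mul_mem' := fun {a b} ha hb => ⟨mul_mem ha.1 hb.1, by
          rw [show k * (a * b) * k⁻¹ = (k * a * k⁻¹) * (k * b * k⁻¹) by group, ha.2, hb.2,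
            ((d.A_spec (inv_mem ha.1)).2 _ (inv_mem hb.1)).eq, mul_inv_rev]⟩
        inv_mem' := fun {a} ha => ⟨inv_mem ha.1, by
          rw [show k * a⁻¹ * k⁻¹ = (k * a * k⁻¹)⁻¹ by group, ha.2]⟩ }
    have hT : TT ≤ (I.subgroupOf (Subgroup.centralizer ({x} : Set G))).map d.φ := by
      rw [← tenH_span]
      refine (Subgroup.closure_le _).2 ?_
      rintro _ ⟨i, rfl⟩
      obtain ⟨w, hw, hwC, how⟩ := d.E_card_eq.2 i
      exact ⟨⟨w, hwC⟩, ⟨hw.1, hinvE w hw⟩, how⟩
    intro v hv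
    obtain ⟨hvC, hvt⟩ := d.mem_A.1 hv
    obtain ⟨w, hw, hwe⟩ := hT hvt
    have hmem : (w : G)⁻¹ * v ∈ Subgroup.zpowers x := (d.φ_ker (w⁻¹ * ⟨v, hvC⟩)).1 (by
      rw [map_mul, map_inv, hwe, inv_mul_cancel])
    have hXI : Subgroup.zpowers x ≤ I := Subgroup.zpowers_le.2 ⟨d.x_mem_A, hinvE x d.x_mem_E⟩
    have := mul_mem (show (w : G) ∈ I from hw) (hXI hmem)
    rw [mul_inv_cancel_left] at this
    exact this.2
  have hkk : k * k = 1 := by
    have hA2 : k * k ∈ d.A := by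
      rw [← d.centralizer_A, Subgroup.mem_centralizer_iff]
      intro v hv
      have : k * k * v * (k * k)⁻¹ = v := by
        rw [show k * k * v * (k * k)⁻¹ = k * (k * v * k⁻¹) * k⁻¹ by group, hinvA v hv,
          hinvA _ (inv_mem hv), inv_inv]
      exact (mul_inv_eq_iff_eq_mul.1 this).symm
    have e := hinvA _ hA2
    rw [show k * (k * k) * k⁻¹ = k * k by group] at e
    have h2 : k * k * (k * k) = 1 := mul_eq_one_iff_eq_inv.2 e
    have h3 := (d.A_spec hA2).1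
    rwa [pow_succ, pow_two, h2, one_mul] at h3
  have hzN : z ∈ d.NA := (d.mem_NA_C d.z_mem_C).2 (by rw [d.φ_z]; exact zH_spec.1)
  set v := k⁻¹ * (z * k * z⁻¹) with hv
  have hvA : v ∈ d.A := by
    have hzk : z * k * z⁻¹ ∈ K := hnorm z hzN k hkK
    refine hKC v (mul_mem (inv_mem hkK) hzk) ?_
    refine Subgroup.mem_centralizer_singleton_iff.2 (mul_inv_eq_iff_eq_mul.1 ?_)
    have hzx : z⁻¹ * x * z = x := by rw [mul_assoc, d.hxz, inv_mul_cancel_left]
    have hzx' : z * x * z⁻¹ = x := by rw [← d.hxz, mul_inv_cancel_right]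
    have hk' : k⁻¹ = k := inv_eq_of_mul_eq_one_left hkk
    rw [hv]
    calc k⁻¹ * (z * k * z⁻¹) * x * (k⁻¹ * (z * k * z⁻¹))⁻¹
        = k⁻¹ * (z * (k * (z⁻¹ * x * z) * k⁻¹) * z⁻¹) * k⁻¹⁻¹ := by group
      _ = (k⁻¹ * (z * x * z⁻¹) * k⁻¹⁻¹)⁻¹ := by rw [hzx, hkx]; group
      _ = x := by rw [hzx', hk', hkx, inv_inv]
  have hv3 := (d.A_spec hvA).1
  have hzz : z⁻¹ = z := d.h.z_inv
  have hzk : z * k * z = k * v := by rw [hv, hzz]; group
  have hzv : z * v * z = v⁻¹ := by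
    have e1 : k = k * v * (z * v * z) := by
      calc k = z * z * k * (z * z) := by rw [d.h.zz, one_mul, mul_one]
        _ = z * (z * k * z) * z := by group
        _ = z * k * (z * z) * v * z := by rw [hzk, d.h.zz, mul_one]; group
        _ = (z * k * z) * (z * v * z) := by group
        _ = k * v * (z * v * z) := by rw [hzk]
    rw [mul_assoc k v, eq_comm, mul_eq_left, mul_eq_one_iff_inv_eq] at e1
    exact e1.symm
  set k' := k * (v * v) with hk'
  have hk'z : k' * z = z * k' := by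
    have e : z * k' * z = k' := by
      have hvinv : v⁻¹ = v * v := by
        rw [inv_eq_iff_mul_eq_one, ← mul_assoc, ← pow_two, ← pow_succ, hv3]
      calc z * k' * z = (z * k * z) * (z * v * z) * (z * v * z) := by
            rw [hk', show z * (k * (v * v)) * z = z * k * (1 * v * 1) * v * z by group, ← d.h.zz]
            group
        _ = k * v * v⁻¹ * v⁻¹ := by rw [hzk, hzv]
        _ = k' := by rw [mul_inv_cancel_right, hvinv, hk']
    calc k' * z = z * k' * z * z := by rw [e]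
      _ = z * k' := by rw [mul_assoc (z * k'), d.h.zz, mul_one]
  have hinv' : ∀ y ∈ d.A, k' * y * k'⁻¹ = y⁻¹ := fun y hy => by
    rw [hk', show k * (v * v) * y * (k * (v * v))⁻¹ = k * (v * v * y * (v * v)⁻¹) * k⁻¹ by group,
      ((d.A_spec (mul_mem hvA hvA)).2 y hy).eq, mul_inv_cancel_right, hinvA y hy]
  refine no_inverter (d.h.ρ_mem k' hk'z) fun i => ?_
  obtain ⟨y, hy, hyz, hρ⟩ := d.exists_y i
  rw [← hρ, ← d.h.ρ_conj hk'z hyz, hinv' y hy.1, d.h.ρ_inv hyz]

theorem iso_m11 : ∃ _ : (d.A.subgroupOf d.NA).Normal,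
    Cfsg.IsM11 (↥d.NA ⧸ d.A.subgroupOf d.NA) := by
  classical
  haveI hn : (d.A.subgroupOf d.NA).Normal := Subgroup.normal_in_normalizer
  refine ⟨hn, ?_⟩
  -- the action on the eleven lines
  have hmap : ∀ (n : d.NA) (Y : d.Om), (Y : Subgroup G).map (MulAut.conj (n : G)).toMonoidHom ∈ d.Om := by
    rintro n ⟨_, y, hy, rfl⟩
    exact ⟨(n : G) * y * (n : G)⁻¹, d.E_stable n.2 hy, ((MulAut.conj (n : G)).toMonoidHom.map_zpowers y).symm⟩
  letI act : MulAction d.NA d.Om :=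
    { smul := fun n Y => ⟨_, hmap n Y⟩
      one_smul := fun Y => Subtype.ext (by
        show (Y : Subgroup G).map (MulAut.conj ((1 : d.NA) : G)).toMonoidHom = Y
        ext g; simp [Subgroup.mem_map])
      mul_smul := fun a b Y => Subtype.ext (by
        show (Y : Subgroup G).map (MulAut.conj ((a * b : d.NA) : G)).toMonoidHom =
          ((Y : Subgroup G).map (MulAut.conj (b : G)).toMonoidHom).map
            (MulAut.conj (a : G)).toMonoidHom
        rw [Subgroup.map_map]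
        congr 1
        ext g
        simp [mul_assoc]) }
  have hsm : ∀ (n : d.NA) (y : G) (hy : y ∈ d.E),
      ((n • (⟨_, y, hy, rfl⟩ : d.Om) : d.Om) : Subgroup G) =
        Subgroup.zpowers ((n : G) * y * (n : G)⁻¹) :=
    fun n y hy => MonoidHom.map_zpowers _ y
  have hker : d.A.subgroupOf d.NA ≤ (MulAction.toPermHom d.NA d.Om).ker := by
    intro n hn'
    rw [MonoidHom.mem_ker]
    refine Equiv.ext fun Y => ?_
    obtain ⟨_, y, hy, rfl⟩ := Y
    refine Subtype.ext ((hsm n y hy).trans ?_)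
    rw [((d.A_spec (show (n : G) ∈ d.A from hn')).2 y hy.1).eq, mul_inv_cancel_right]
    rfl
  set f := QuotientGroup.lift _ (MulAction.toPermHom d.NA d.Om) hker with hf
  letI : MulAction (↥d.NA ⧸ d.A.subgroupOf d.NA) d.Om := MulAction.compHom d.Om f
  have hq : ∀ (n : d.NA) (Y : d.Om),
      (QuotientGroup.mk n : ↥d.NA ⧸ d.A.subgroupOf d.NA) • Y = n • Y := fun n Y => rfl
  haveI : FaithfulSMul (↥d.NA ⧸ d.A.subgroupOf d.NA) d.Om := ⟨fun {m1 m2} e => by
    obtain ⟨n, hn1⟩ := QuotientGroup.mk_surjective (m1⁻¹ * m2)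
    have hfix : ∀ Y : d.Om, n • Y = Y := fun Y => by
      rw [← hq, hn1, mul_smul, ← e Y, inv_smul_smul]
    have hA := d.mem_A_of_fix n.2 fun y hy => by
      have := congrArg Subtype.val (hfix ⟨_, y, hy, rfl⟩)
      rw [hsm n y hy] at this
      exact d.zpowers_E_inj hy (d.E_stable n.2 hy) this
    have h1 : m1⁻¹ * m2 = 1 := by rw [← hn1]; exact (QuotientGroup.eq_one_iff n).2 hA
    exact inv_mul_eq_one.1 h1⟩
  set X0 : d.Om := ⟨_, x, d.x_mem_E, rfl⟩ with hX0
  haveI : MulAction.IsPretransitive (↥d.NA ⧸ d.A.subgroupOf d.NA) d.Om := by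
    rw [MulAction.isPretransitive_iff_orbit_eq_univ X0, Set.eq_univ_iff_forall]
    rintro ⟨_, y, hy, rfl⟩
    obtain ⟨n, hn', rfl⟩ := d.exists_NA_of_E hy
    exact ⟨QuotientGroup.mk ⟨n, hn'⟩, Subtype.ext ((hsm ⟨n, hn'⟩ x d.x_mem_E))⟩
  have hM : Nat.card (↥d.NA ⧸ d.A.subgroupOf d.NA) = 7920 := by
    have h := Subgroup.card_eq_card_quotient_mul_card_subgroup (d.A.subgroupOf d.NA)
    rw [d.card_NA_eq, Nat.card_congr (Subgroup.subgroupOfEquivOfLe d.A_le_NA).toEquiv, d.card_A] at h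
    omega
  -- the point stabiliser contains `NT / TT`
  set S0 := NT.comap d.φ with hS0
  have hS0N : ∀ s : S0, ((s : ↥(Subgroup.centralizer ({x} : Set G))) : G) ∈ d.NA := fun s =>
    (d.mem_NA_C (s : ↥(Subgroup.centralizer ({x} : Set G))).2).2 s.2
  let g : S0 →* ↥d.NA ⧸ d.A.subgroupOf d.NA :=
    (QuotientGroup.mk' _).comp
      (MonoidHom.mk' (fun s => (⟨_, hS0N s⟩ : d.NA)) fun a b => rfl)
  have hgker : ∀ s : S0, g s = 1 ↔ ((s : ↥(Subgroup.centralizer ({x} : Set G))) : G) ∈ d.A :=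
    fun s => QuotientGroup.eq_one_iff _
  have hkc : Nat.card g.ker = 243 := by
    rw [← d.card_A]
    refine Nat.card_congr
      { toFun := fun s => ⟨_, (hgker s.1).1 s.2⟩
        invFun := fun v => ⟨⟨⟨v.1, d.A_le_C v.2⟩,
          (d.mem_NA_C _).1 (d.A_le_NA v.2)⟩, (hgker _).2 v.2⟩
        left_inv := fun _ => rfl
        right_inv := fun _ => rfl }
  have hcard : Nat.card g.range = 360 := by
    have h := Subgroup.card_mul_index g.ker
    rw [Subgroup.index_ker, hkc, d.card_stab] at h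
    omega
  haveI : IsSimpleGroup g.range := by
    haveI : Nontrivial g.range := Finite.one_lt_card_iff_nontrivial.1 (by rw [hcard]; norm_num)
    refine ⟨fun K hK => ?_⟩
    set L := K.comap g.rangeRestrict with hL
    set K' := L.map (d.φ.comp S0.subtype) with hK'
    have hTL : ∀ s : S0, d.φ s ∈ TT → s ∈ L := fun s hs => by
      show g.rangeRestrict s ∈ K
      rw [show g.rangeRestrict s = 1 from Subtype.ext ((hgker s).2 (d.mem_A.2 ⟨_, hs⟩))]
      exact one_mem K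
    have h1 : TT ≤ K' := fun t ht => by
      obtain ⟨u, hu, rfl⟩ := d.exists_lift t
      exact ⟨⟨⟨u, hu⟩, TT_le_NT ht⟩, hTL ⟨⟨u, hu⟩, TT_le_NT ht⟩ ht, rfl⟩
    have h2 : K' ≤ NT := by rintro _ ⟨s, -, rfl⟩; exact s.2
    have h3 : ∀ n ∈ NT, ∀ a ∈ K', n * a * n⁻¹ ∈ K' := by
      rintro n hn' _ ⟨s, hs, rfl⟩
      obtain ⟨u, hu, rfl⟩ := d.exists_lift n
      exact ⟨⟨⟨u, hu⟩, hn'⟩ * s * ⟨⟨u, hu⟩, hn'⟩⁻¹, (hK.comap g.rangeRestrict).conj_mem s hs _,
        by simp⟩
    have hback : ∀ s : S0, d.φ s ∈ K' → s ∈ L := fun s hs => by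
      obtain ⟨r, hr, e⟩ := hs
      have e' : d.φ (r : ↥(Subgroup.centralizer ({x} : Set G))) = d.φ s := e
      have hm : r⁻¹ * s ∈ L := hTL _ (by
        rw [Subgroup.coe_mul, Subgroup.coe_inv, map_mul, map_inv, e', inv_mul_cancel]
        exact one_mem _)
      simpa using mul_mem hr hm
    rcases quot_simple K' h1 h2 h3 with e | e
    · refine Or.inl ((Subgroup.eq_bot_iff_forall _).2 fun k hk => ?_)
      obtain ⟨s, rfl⟩ := g.rangeRestrict_surjective k
      have hm : d.φ s ∈ K' := ⟨s, hk, rfl⟩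
      rw [e] at hm
      exact Subtype.ext ((hgker s).2 (d.mem_A.2 ⟨_, hm⟩))
    · refine Or.inr (eq_top_iff.2 fun k _ => ?_)
      obtain ⟨s, rfl⟩ := g.rangeRestrict_surjective k
      exact hback s (by rw [e]; exact s.2)
  refine isM11_of_eleven (Ω := d.Om) d.card_Om hM X0 g.range ?_ hcard
  rintro _ ⟨s, rfl⟩
  rw [MulAction.mem_stabilizer_iff]
  refine Subtype.ext ((hsm ⟨_, hS0N s⟩ x d.x_mem_E).trans ?_)
  show Subgroup.zpowers (_ * x * _⁻¹) = Subgroup.zpowers x
  rw [Subgroup.mem_centralizer_singleton_iff.1 (s : ↥(Subgroup.centralizer ({x} : Set G))).2,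
    mul_inv_cancel_right]

end Data

end Cfsg.Agent.H92.SuzThree
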