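import Cfsg.Agent.H92.SuzThree.Planes
import Cfsg.Agent.H73.Suz.Basic

/-!
The action of an element of order three with quaternion commutator on the quadratic space.
-/

set_option autoImplicit false

namespace Cfsg.Agent.H92.SuzThree

open QuadraticMap Cfsg.Agent.Orthogonal Cfsg.Agent.H73.Suz Cfsg.Agent.H92.ExtraForm

variable {G : Type*} [Group G] [Finite G] {z : G} {Q : Subgroup G}

/-- Change of coordinates. -/
noncomputable def twist (h : Setup z Q) (k : O phi) : Setup z Q where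
  hzo := h.hzo
  hzQ := h.hzQ
  le := h.le
  norm := h.norm
  π q := (k : V6 ≃ₗ[ZMod 2] V6) (h.π q)
  π_mul a ha b hb := by rw [h.π_mul a ha b hb, map_add]
  π_surj v := by
    obtain ⟨q, hq, e⟩ := h.π_surj (((k⁻¹ : O phi) : V6 ≃ₗ[ZMod 2] V6) v)
    exact ⟨q, hq, by rw [e, ← app_mul, mul_inv_cancel]; rfl⟩
  π_zero q hq := by rw [LinearEquiv.map_eq_zero_iff]; exact h.π_zero q hq
  sq q hq := by rw [O.map_app]; exact h.sq q hq
  comm q hq r hr := by rw [O.polar_app]; exact h.comm q hq r hr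
  ρ c := k * h.ρ c * k⁻¹
  ρ_mul c d hc hd := by rw [h.ρ_mul c d hc hd]; group
  ρ_π c hc q hq := by
    rw [h.ρ_π c hc q hq, app_mul, app_mul, ← app_mul k⁻¹ k, inv_mul_cancel]
    rfl
  ρ_ker c hc := by rw [conj_eq_one_iff]; exact h.ρ_ker c hc
  ρ_mem c hc := (Subgroup.Normal.conj_mem inferInstance _ (h.ρ_mem c hc) k)
  ρ_surj g hg := by
    obtain ⟨c, hc, e⟩ := h.ρ_surj (k⁻¹ * g * k)
      (by simpa using (Subgroup.Normal.conj_mem inferInstance _ hg k⁻¹))
    exact ⟨c, hc, by rw [e]; group⟩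
  nwc := h.nwc

/-- An element of order three with commutator of order eight in the core, not abelian. -/
theorem exists_twist (h : Setup z Q) {x : G} (hxz : x * z = z * x) (hx3 : x ^ 3 = 1) (hx1 : x ≠ 1)
    (Y : Subgroup G) (hY : Nat.card Y = 8) (hna : ∃ a ∈ Y, ∃ b ∈ Y, a * b ≠ b * a) (hYQ : Y ≤ Q)
    (hcomm : ∀ q ∈ Q, q * (x * q⁻¹ * x⁻¹) ∈ Y) :
    ∃ h' : Setup z Q, h'.ρ x = rotO 0 := by
  classical
  set g := h.ρ x with hg
  have hg3 : g ^ 3 = 1 := by rw [hg, ← h.ρ_pow hxz, hx3, h.ρ_one]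
  have hg1 : g ≠ 1 := fun e => by
    have hxQ := (h.ρ_ker x hxz).mp e
    have h4 := h.pow_four hxQ
    rw [pow_succ, hx3, one_mul] at h4
    exact hx1 h4
  -- images of `Y`
  haveI : Fintype G := Fintype.ofFinite G
  set W : Finset V6 := (Finset.univ.filter (· ∈ Y)).image h.π with hW
  have hzY : z ∈ Y := by
    obtain ⟨a, ha, b, hb, hab⟩ := hna
    have := h.comm a (hYQ ha) b (hYQ hb)
    rcases two_cases' (polar (⇑phi) (h.π a) (h.π b)) with e | e
    · simp only [e, zp, if_true, mul_one] at this; exact absurd this.symm hab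
    · simp only [e, zp, one_ne_zero, if_false] at this
      rw [show z = (a * b)⁻¹ * (b * a) by rw [this]; group]
      exact mul_mem (inv_mem (mul_mem ha hb)) (mul_mem hb ha)
  have hWcard : W.card ≤ 4 := by
    have h1 : 2 * W.card ≤ (Finset.univ.filter (· ∈ Y)).card := by
      refine Finset.mul_card_image_le_card _ 2 fun v hv => ?_
      obtain ⟨y, hy, rfl⟩ := Finset.mem_image.1 hv
      simp only [Finset.mem_filter, Finset.mem_univ, true_and] at hy
      refine Finset.one_lt_card.2 ⟨y, by simp [hy], y * z, ?_, ?_⟩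
      · simp only [Finset.mem_filter, Finset.mem_univ, true_and]
        exact ⟨mul_mem hy hzY, by rw [h.π_mul y (hYQ hy) z h.hzQ, h.π_z, add_zero]⟩
      · intro e
        exact h.z_ne (mul_left_cancel (a := y) (by rw [mul_one]; exact e.symm))
    have h2 : (Finset.univ.filter (· ∈ Y)).card = 8 := by
      rw [← hY, Nat.card_eq_fintype_card, Fintype.card_subtype]
    omega
  have hmemW : ∀ v, v + (g : V6 ≃ₗ[ZMod 2] V6) v ∈ W := fun v => by
    obtain ⟨q, hq, rfl⟩ := h.π_surj v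
    refine Finset.mem_image.2 ⟨q * (x * q⁻¹ * x⁻¹),
      Finset.mem_filter.2 ⟨Finset.mem_univ _, hcomm q hq⟩, ?_⟩
    rw [h.π_mul q hq _ (h.norm x hxz _ (inv_mem hq)), h.ρ_π x hxz _ (inv_mem hq), h.π_inv hq]
  obtain ⟨v0, hv0⟩ : ∃ v, v + (g : V6 ≃ₗ[ZMod 2] V6) v ≠ 0 := by
    by_contra hc
    simp only [not_exists, not_not] at hc
    exact hg1 (O.ext_app fun v => (eq_of_add_eq_zero' (hc v)).symm)
  set w := v0 + (g : V6 ≃ₗ[ZMod 2] V6) v0 with hw
  have hggg : ∀ v, (g : V6 ≃ₗ[ZMod 2] V6) ((g : V6 ≃ₗ[ZMod 2] V6) ((g : V6 ≃ₗ[ZMod 2] V6) v)) = v :=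
    fun v => by
      have := congrArg (fun x : O phi => (x : V6 ≃ₗ[ZMod 2] V6) v) hg3
      simpa only [app_pow, pow_zero, show ((1 : O phi) : V6 ≃ₗ[ZMod 2] V6) v = v from rfl] using this
  set gw := (g : V6 ≃ₗ[ZMod 2] V6) w with hgw
  have hne1 : gw ≠ w := fun e => by
    have hgg : (g : V6 ≃ₗ[ZMod 2] V6) ((g : V6 ≃ₗ[ZMod 2] V6) v0) = v0 := by
      have e' : gw = (g : V6 ≃ₗ[ZMod 2] V6) v0 + (g : V6 ≃ₗ[ZMod 2] V6) ((g : V6 ≃ₗ[ZMod 2] V6) v0) := by
        rw [hgw, hw, map_add]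
      rw [e, hw, add_comm v0] at e'
      exact (add_left_cancel e').symm
    have := hggg v0
    rw [hgg] at this
    exact hv0 (by rw [hw, this, add_self'])
  have hgw0 : gw ≠ 0 := fun e => hv0 ((LinearEquiv.map_eq_zero_iff _).1 e)
  have hsum : w + gw = (g : V6 ≃ₗ[ZMod 2] V6) gw := by
    rw [hgw, hw, map_add, map_add, hggg]
    have key : ∀ v b c : V6, v + b + (b + c) = c + v := fun v b c => by
      rw [add_assoc, ← add_assoc b b c, add_self', zero_add, add_comm]
    exact key _ _ _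
  have hmem2 : w ∈ W ∧ gw ∈ W ∧ w + gw ∈ W ∧ (0 : V6) ∈ W := by
    refine ⟨hmemW v0, ?_, ?_, ?_⟩
    · have := hmemW ((g : V6 ≃ₗ[ZMod 2] V6) v0)
      rwa [← map_add] at this
    · exact hmemW w
    · exact Finset.mem_image.2 ⟨1, by simp, h.π_one⟩
  have hne2 : w + gw ≠ 0 := fun e => hne1 (eq_of_add_eq_zero' e).symm
  have hW4 : W = {0, w, gw, w + gw} := by
    refine (Finset.eq_of_subset_of_card_le ?_ ?_).symm
    · intro a ha
      simp only [Finset.mem_insert, Finset.mem_singleton] at ha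
      rcases ha with rfl | rfl | rfl | rfl
      exacts [hmem2.2.2.2, hmem2.1, hmem2.2.1, hmem2.2.2.1]
    · rw [Finset.card_insert_of_notMem, Finset.card_insert_of_notMem, Finset.card_pair]
      · exact hWcard
      · intro e
        exact hv0 (add_right_cancel (b := gw) (by rw [zero_add]; exact e.symm))
      · simp only [Finset.mem_insert, Finset.mem_singleton, not_or]
        exact ⟨hne1.symm, fun e => hgw0 (add_left_cancel (a := w) (by rw [add_zero]; exact e.symm))⟩
      · simp only [Finset.mem_insert, Finset.mem_singleton, not_or]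
        exact ⟨(Ne.symm hv0), hgw0.symm, hne2.symm⟩
  have hrange : ∀ v, v + (g : V6 ≃ₗ[ZMod 2] V6) v = 0 ∨ v + (g : V6 ≃ₗ[ZMod 2] V6) v = w ∨
      v + (g : V6 ≃ₗ[ZMod 2] V6) v = gw ∨ v + (g : V6 ≃ₗ[ZMod 2] V6) v = w + gw := fun v => by
    have := hmemW v
    rw [hW4] at this
    simpa only [Finset.mem_insert, Finset.mem_singleton] using this
  have hphi : phi gw = phi w := O.map_app g w
  have hpol : polar (⇑phi) w gw = phi w := by
    have e : phi (w + gw) = phi w := by rw [hsum, O.map_app, hphi]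
    rw [map_add_polar, hphi, CharTwo.add_self_eq_zero, zero_add] at e
    exact e
  have hq1 : phi w = 1 := by
    refine (two_cases' _).resolve_left fun e0 => ?_
    obtain ⟨a, ha, b, hb, hab⟩ := hna
    refine hab ((h.commute_iff (hYQ ha) (hYQ hb)).2 ?_)
    have hs : ∀ y ∈ Y, h.π y ∈ W := fun y hy => Finset.mem_image.2 ⟨y, by simp [hy], rfl⟩
    have hwg := e0 ▸ hpol
    have hgwg : polar (⇑phi) gw w = 0 := by rw [polar_comm]; exact hwg
    have hww : ∀ u : V6, polar (⇑phi) u u = 0 := fun u => by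
      rw [polar_phi, fU_self, add_zero, CharTwo.add_self_eq_zero]
    have key : ∀ u ∈ W, polar (⇑phi) u w = 0 ∧ polar (⇑phi) u gw = 0 := by
      intro u hu
      rw [hW4] at hu
      simp only [Finset.mem_insert, Finset.mem_singleton] at hu
      rcases hu with hu | hu | hu | hu <;> rw [hu]
      · simp [polar]
      · exact ⟨hww _, hwg⟩
      · exact ⟨hgwg, hww _⟩
      · exact ⟨by rw [polar_add_left phi w gw w, hww, hgwg, add_zero],
          by rw [polar_add_left phi w gw gw, hwg, hww, add_zero]⟩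
    obtain ⟨k1, k2⟩ := key _ (hs b hb)
    have := hs a ha
    rw [hW4] at this
    simp only [Finset.mem_insert, Finset.mem_singleton] at this
    rw [polar_comm]
    rcases this with e | e | e | e <;> rw [e]
    · simp [polar]
    · exact k1
    · exact k2
    · rw [polar_add_right, k1, k2, add_zero]
  obtain ⟨k, hk⟩ := exists_conj_first hg3 (w := w) (by rw [← phi_eq]; exact hq1) ⟨v0, rfl⟩ hrange
    (by rw [← polar_eq]; exact hpol.trans hq1)
  exact ⟨twist h k, hk⟩

end Cfsg.Agent.H92.SuzThree
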