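import Cfsg.Agent.H92.SuzThree.Lines
import Cfsg.Agent.H92.SuzThree.Rho

/-!
Suzuki type groups: the elementary abelian subgroup of order 3^5.
-/

set_option autoImplicit false

namespace Cfsg.Agent.H92.SuzThree

open Cfsg.Agent.Orthogonal Cfsg.Agent.H73.Suz

variable {G : Type*} [Group G] [Finite G]

/-- The setting: an element of order three acting as a rotation, with centraliser quotient `HH`. -/
structure Data (z x : G) (Q : Subgroup G) where
  h : Setup z Q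
  hx3 : x ^ 3 = 1
  hx1 : x ≠ 1
  hxz : x * z = z * x
  hρ : h.ρ x = rotO 0
  φ : ↥(Subgroup.centralizer ({x} : Set G)) →* HH
  φ_surj : Function.Surjective φ
  φ_ker : ∀ c, φ c = 1 ↔ (c : G) ∈ Subgroup.zpowers x
  φ_z : φ ⟨z, Subgroup.mem_centralizer_singleton_iff.2 hxz.symm⟩ = zH
  inverter : ∃ g, g * x * g⁻¹ = x⁻¹

namespace Data

variable {z x : G} {Q : Subgroup G} (d : Data z x Q)

/-- The subgroup of order `3^5`. -/
noncomputable def A : Subgroup G :=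
  (TT.comap d.φ).map (Subgroup.centralizer ({x} : Set G)).subtype

theorem mem_A {g : G} :
    g ∈ d.A ↔ ∃ hg : g ∈ Subgroup.centralizer ({x} : Set G), d.φ ⟨g, hg⟩ ∈ TT := by
  constructor
  · rintro ⟨c, hc, rfl⟩; exact ⟨c.2, hc⟩
  · rintro ⟨hg, ht⟩; exact ⟨⟨g, hg⟩, ht, rfl⟩

theorem A_le_C : d.A ≤ Subgroup.centralizer ({x} : Set G) := fun _ hg => (d.mem_A.1 hg).1

theorem orderOf_x (d : Data z x Q) : orderOf x = 3 :=
  haveI : Fact (Nat.Prime 3) := ⟨by norm_num⟩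
  orderOf_eq_prime d.hx3 d.hx1

theorem mem_zpowers_x (d : Data z x Q) {g : G} (hg : g ∈ Subgroup.zpowers x) :
    g = 1 ∨ g = x ∨ g = x⁻¹ := by
  obtain ⟨k, rfl⟩ := Subgroup.mem_zpowers_iff.1 hg
  rw [← zpow_mod_orderOf, d.orderOf_x]
  have h1 := Int.emod_nonneg k (show ((3 : ℕ) : ℤ) ≠ 0 by norm_num)
  have h2 := Int.emod_lt_of_pos k (show (0 : ℤ) < (3 : ℕ) by norm_num)
  obtain h | h | h : k % ((3 : ℕ) : ℤ) = 0 ∨ k % ((3 : ℕ) : ℤ) = 1 ∨ k % ((3 : ℕ) : ℤ) = 2 := by omega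
  all_goals rw [h]
  · exact Or.inl (zpow_zero x)
  · exact Or.inr (Or.inl (zpow_one x))
  · refine Or.inr (Or.inr (eq_inv_of_mul_eq_one_left ?_))
    rw [show ((2 : ℤ)) = ((2 : ℕ) : ℤ) from rfl, zpow_natCast, ← pow_succ, d.hx3]

theorem zpowers_cube (d : Data z x Q) {g : G} (hg : g ∈ Subgroup.zpowers x) : g ^ 3 = 1 := by
  rcases d.mem_zpowers_x hg with rfl | rfl | rfl
  · simp
  · exact d.hx3
  · rw [inv_pow, d.hx3, inv_one]

theorem x_mem_A : x ∈ d.A :=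
  d.mem_A.2 ⟨Subgroup.mem_centralizer_singleton_iff.2 rfl, by
    rw [(d.φ_ker _).2 (Subgroup.mem_zpowers x)]; exact one_mem _⟩

theorem z_mem_C (d : Data z x Q) : z ∈ Subgroup.centralizer ({x} : Set G) :=
  Subgroup.mem_centralizer_singleton_iff.2 d.hxz.symm

theorem comm_zpowers {g k : G} (hg : g ∈ Subgroup.centralizer ({x} : Set G))
    (hk : k ∈ Subgroup.zpowers x) : Commute g k := by
  obtain ⟨n, rfl⟩ := Subgroup.mem_zpowers_iff.1 hk
  exact ((show Commute g x from Subgroup.mem_centralizer_singleton_iff.1 hg).zpow_right n)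

theorem z_comm_zpowers (d : Data z x Q) {k : G} (hk : k ∈ Subgroup.zpowers x) : Commute z k :=
  comm_zpowers d.z_mem_C hk

/-- A preimage of an element centralised by `zH` commutes with `z`. -/
theorem comm_z {u : G} (hu : u ∈ Subgroup.centralizer ({x} : Set G))
    (hc : Commute zH (d.φ ⟨u, hu⟩)) : u * z = z * u := by
  set e := z * u * z⁻¹ * u⁻¹ with he
  have hmem : e ∈ Subgroup.zpowers x := by
    have : d.φ (⟨z, d.z_mem_C⟩ * ⟨u, hu⟩ * ⟨z, d.z_mem_C⟩⁻¹ * ⟨u, hu⟩⁻¹) = 1 := by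
      simp only [map_mul, map_inv, d.φ_z]
      rw [hc.eq]; group
    exact (d.φ_ker _).1 this
  have h2 : z * (z * u * z⁻¹) * z⁻¹ = u := by
    rw [show z * (z * u * z⁻¹) * z⁻¹ = (z * z) * u * (z * z)⁻¹ by group, d.h.zz]
    group
  have h3 : z * (z * u * z⁻¹) * z⁻¹ = e * (e * u) := by
    calc z * (z * u * z⁻¹) * z⁻¹ = z * (e * u) * z⁻¹ := by rw [he]; group
      _ = e * (z * u * z⁻¹) := by rw [← mul_assoc, (d.z_comm_zpowers hmem).eq]; group
      _ = e * (e * u) := by rw [he]; group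
  rw [h2, ← mul_assoc] at h3
  have hee : e * e = 1 := mul_right_cancel (b := u) (by rw [one_mul]; exact h3.symm)
  have he1 : e = 1 := by
    have h4 : e ^ 3 = 1 := d.zpowers_cube hmem
    rwa [pow_succ, pow_two, hee, one_mul] at h4
  rw [he] at he1
  have := mul_inv_eq_one.1 he1
  rw [mul_inv_eq_iff_eq_mul] at this
  exact this.symm

/-- An element of order dividing nine of the centraliser of `z` acting trivially is trivial. -/
theorem eq_one_of_ρ (d : Data z x Q) {u : G} (huz : u * z = z * u) (h9 : u ^ 9 = 1)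
    (hρ : d.h.ρ u = 1) : u = 1 := by
  have h4 := d.h.pow_four ((d.h.ρ_ker u huz).1 hρ)
  rw [show u ^ 9 = (u ^ 4) ^ 2 * u by rw [← pow_mul, ← pow_succ], h4, one_pow, one_mul] at h9
  exact h9

theorem A_nine {u : G} (hu : u ∈ d.A) : u ^ 9 = 1 := by
  obtain ⟨hC, ht⟩ := d.mem_A.1 hu
  have h3 : d.φ (⟨u, hC⟩ ^ 3) = 1 := by rw [map_pow]; exact TT_cube ht
  have := d.zpowers_cube ((d.φ_ker _).1 h3)
  rwa [Subgroup.coe_pow, ← pow_mul] at this

theorem ρ_commute_x {u : G} (hu : u ∈ Subgroup.centralizer ({x} : Set G)) (huz : u * z = z * u) :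
    Commute (d.h.ρ u) (rotO 0) := by
  show d.h.ρ u * rotO 0 = rotO 0 * d.h.ρ u
  rw [← d.hρ, ← d.h.ρ_mul _ _ huz d.hxz, ← d.h.ρ_mul _ _ d.hxz huz,
    Subgroup.mem_centralizer_singleton_iff.1 hu]

/-- Elements of order dividing nine commuting with `x` and `z` act as rotations. -/
theorem ρ_rot {u : G} (hu : u ∈ Subgroup.centralizer ({x} : Set G)) (huz : u * z = z * u)
    (h9 : u ^ 9 = 1) : ∃ n, d.h.ρ u = rot3O n :=
  cent_first (d.ρ_commute_x hu huz) (by rw [← d.h.ρ_pow huz, h9, d.h.ρ_one])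

theorem rot3O_comm (n m : Fin 3 × Fin 3 × Fin 3) : Commute (rot3O n) (rot3O m) := by
  have key : ∀ i, Commute (rot3O n) (rotO i) := fun i =>
    (((rotO_comm 0 i).pow_left _).mul_left ((rotO_comm 1 i).pow_left _)).mul_left
      ((rotO_comm 2 i).pow_left _)
  exact (((key 0).pow_right _).mul_right ((key 1).pow_right _)).mul_right ((key 2).pow_right _)

theorem rot3O_cube (n : Fin 3 × Fin 3 × Fin 3) : rot3O n ^ 3 = 1 := by
  rw [rot3O, (((rotO_comm 0 2).pow_pow _ _).mul_left ((rotO_comm 1 2).pow_pow _ _)).mul_pow,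
    ((rotO_comm 0 1).pow_pow _ _).mul_pow, ← pow_mul, ← pow_mul, ← pow_mul,
    mul_comm _ 3, mul_comm _ 3, mul_comm _ 3, pow_mul, pow_mul, pow_mul, rotO_cube, rotO_cube,
    rotO_cube, one_pow, one_pow, one_pow, one_mul, one_mul]

theorem fixed_cube {u : G} (hu : u ∈ d.A) (huz : u * z = z * u) : u ^ 3 = 1 := by
  obtain ⟨n, hn⟩ := d.ρ_rot (d.A_le_C hu) huz (d.A_nine hu)
  refine d.eq_one_of_ρ ((show Commute u z from huz).pow_left 3).eq ?_ ?_
  · rw [← pow_mul, mul_comm, pow_mul, d.A_nine hu, one_pow]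
  · rw [d.h.ρ_pow huz, hn, rot3O_cube]

theorem fixed_comm {u v : G} (hu : u ∈ d.A) (hv : v ∈ d.A) (huz : u * z = z * u)
    (hvz : v * z = z * v) : Commute u v := by
  obtain ⟨n, hn⟩ := d.ρ_rot (d.A_le_C hu) huz (d.A_nine hu)
  obtain ⟨m, hm⟩ := d.ρ_rot (d.A_le_C hv) hvz (d.A_nine hv)
  have hez : u * v * u⁻¹ * v⁻¹ * z = z * (u * v * u⁻¹ * v⁻¹) :=
    d.h.mul_comm' (d.h.mul_comm' (d.h.mul_comm' huz hvz) (d.h.inv_comm huz)) (d.h.inv_comm hvz)
  have hC := mul_mem (mul_mem (mul_mem hu hv) (inv_mem hu)) (inv_mem hv)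
  have h1 : u * v * u⁻¹ * v⁻¹ = 1 := by
    refine d.eq_one_of_ρ hez (d.A_nine hC) ?_
    rw [d.h.ρ_mul _ _ (d.h.mul_comm' (d.h.mul_comm' huz hvz) (d.h.inv_comm huz)) (d.h.inv_comm hvz),
      d.h.ρ_mul _ _ (d.h.mul_comm' huz hvz) (d.h.inv_comm huz), d.h.ρ_mul _ _ huz hvz,
      d.h.ρ_inv huz, d.h.ρ_inv hvz, hn, hm, (rot3O_comm n m).eq]
    group
  rwa [mul_inv_eq_one, mul_inv_eq_iff_eq_mul] at h1

/-- An element of `A` over a line centralised by `zH` is central in `A`. -/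
theorem central_of_fixed {u : G} (hu : u ∈ d.A) (huz : u * z = z * u) {v : G} (hv : v ∈ d.A) :
    Commute u v := by
  obtain ⟨huC, hut⟩ := d.mem_A.1 hu
  obtain ⟨hvC, hvt⟩ := d.mem_A.1 hv
  set e := u * v * u⁻¹ * v⁻¹ with he
  have heX : e ∈ Subgroup.zpowers x := by
    have : d.φ (⟨u, huC⟩ * ⟨v, hvC⟩ * ⟨u, huC⟩⁻¹ * ⟨v, hvC⟩⁻¹) = 1 := by
      simp only [map_mul, map_inv]
      rw [(TT_comm hut hvt).eq]; group
    exact (d.φ_ker _).1 this
  set v' := z * v * z⁻¹ with hv'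
  have hvC' : v' ∈ Subgroup.centralizer ({x} : Set G) :=
    mul_mem (mul_mem d.z_mem_C hvC) (inv_mem d.z_mem_C)
  have hv'φ : d.φ ⟨v', hvC'⟩ = zH * d.φ ⟨v, hvC⟩ * zH⁻¹ := by
    rw [show (⟨v', hvC'⟩ : ↥(Subgroup.centralizer ({x} : Set G))) =
      ⟨z, d.z_mem_C⟩ * ⟨v, hvC⟩ * ⟨z, d.z_mem_C⟩⁻¹ from rfl, map_mul, map_mul, map_inv, d.φ_z]
  have hzi : zH⁻¹ = zH := inv_eq_of_mul_eq_one_left zH_spec.2.1
  have hv't : zH * d.φ ⟨v, hvC⟩ * zH⁻¹ ∈ TT :=
    (Subgroup.mem_normalizer_iff.1 zH_spec.1 _).1 hvt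
  have hv'A : v' ∈ d.A := d.mem_A.2 ⟨hvC', by rw [hv'φ]; exact hv't⟩
  have hfix : v' * v * z = z * (v' * v) := by
    refine d.comm_z (mul_mem hvC' hvC) ?_
    rw [show (⟨v' * v, mul_mem hvC' hvC⟩ : ↥(Subgroup.centralizer ({x} : Set G))) =
      ⟨v', hvC'⟩ * ⟨v, hvC⟩ from rfl, map_mul, hv'φ]
    generalize d.φ ⟨v, hvC⟩ = t at hvt hv't ⊢
    show zH * (zH * t * zH⁻¹ * t) = zH * t * zH⁻¹ * t * zH
    have hc := (TT_comm hv't hvt).eq
    rw [hzi] at hc ⊢
    calc zH * (zH * t * zH * t) = zH * (t * (zH * t * zH)) := by rw [hc]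
      _ = zH * t * zH * t * zH := by group
  have h1 : Commute u (v' * v) := d.fixed_comm hu (mul_mem hv'A hv) huz hfix
  have huv : u * v = e * (v * u) := by rw [he]; group
  have hzu : z * u * z⁻¹ = u := by rw [← huz, mul_inv_cancel_right]
  have huv' : u * v' = e * (v' * u) := by
    calc u * v' = z * (u * v) * z⁻¹ := by
          rw [hv']
          calc u * (z * v * z⁻¹) = z * u * z⁻¹ * (z * v * z⁻¹) := by rw [hzu]
            _ = z * (u * v) * z⁻¹ := by group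
      _ = e * (z * (v * u) * z⁻¹) := by
          rw [huv, ← mul_assoc, (d.z_comm_zpowers heX).eq]; group
      _ = e * (v' * (z * u * z⁻¹)) := by rw [hv']; group
      _ = e * (v' * u) := by rw [hzu]
  have hev' : Commute v' e := comm_zpowers hvC' heX
  have h2 : u * (v' * v) = e * e * ((v' * v) * u) := by
    calc u * (v' * v) = u * v' * v := by group
      _ = e * (v' * u) * v := by rw [huv']
      _ = e * (v' * (u * v)) := by group
      _ = e * ((v' * e) * (v * u)) := by rw [huv]; group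
      _ = e * ((e * v') * (v * u)) := by rw [hev'.eq]
      _ = e * e * ((v' * v) * u) := by group
  have hee : e * e = 1 :=
    mul_right_cancel (b := v' * v * u) (by rw [one_mul, ← h2, h1.eq])
  have he1 : e = 1 := by
    have h4 : e ^ 3 = 1 := d.zpowers_cube heX
    rwa [pow_succ, pow_two, hee, one_mul] at h4
  show u * v = v * u
  rw [huv, he1, one_mul]

theorem exists_lift (t : HH) :
    ∃ u, ∃ hu : u ∈ Subgroup.centralizer ({x} : Set G), d.φ ⟨u, hu⟩ = t := by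
  obtain ⟨c, hc⟩ := d.φ_surj t
  exact ⟨c, c.2, hc⟩

theorem normalizer_lift {n : G} (hn : n ∈ Subgroup.centralizer ({x} : Set G))
    (hN : d.φ ⟨n, hn⟩ ∈ NT) {v : G} (hv : v ∈ d.A) : n * v * n⁻¹ ∈ d.A := by
  obtain ⟨hvC, hvt⟩ := d.mem_A.1 hv
  refine d.mem_A.2 ⟨mul_mem (mul_mem hn hvC) (inv_mem hn), ?_⟩
  rw [show (⟨n * v * n⁻¹, mul_mem (mul_mem hn hvC) (inv_mem hn)⟩ :
      ↥(Subgroup.centralizer ({x} : Set G))) = ⟨n, hn⟩ * ⟨v, hvC⟩ * ⟨n, hn⟩⁻¹ from rfl,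
    map_mul, map_mul, map_inv]
  exact (Subgroup.mem_normalizer_iff.1 hN _).1 hvt

/-- The nice elements: central in `A` and of order dividing three. -/
theorem A_spec {v : G} (hv : v ∈ d.A) : v ^ 3 = 1 ∧ ∀ w ∈ d.A, Commute v w := by
  classical
  let Z : Subgroup G :=
    { carrier := {v | v ∈ d.A ∧ v ^ 3 = 1 ∧ ∀ w ∈ d.A, Commute v w}
      one_mem' := ⟨one_mem _, one_pow _, fun _ _ => Commute.one_left _⟩
      mul_mem' := fun {a b} ha hb => ⟨mul_mem ha.1 hb.1, by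
        rw [(ha.2.2 b hb.1).mul_pow, ha.2.1, hb.2.1, one_mul],
        fun w hw => (ha.2.2 w hw).mul_left (hb.2.2 w hw)⟩
      inv_mem' := fun {a} ha => ⟨inv_mem ha.1, by rw [inv_pow, ha.2.1, inv_one],
        fun w hw => (ha.2.2 w hw).inv_left⟩ }
  suffices hle : d.A ≤ Z from ⟨(hle hv).2.1, (hle hv).2.2⟩
  have hxZ : ∀ k ∈ Subgroup.zpowers x, k ∈ Z := fun k hk =>
    ⟨(Subgroup.zpowers_le.2 d.x_mem_A) hk, d.zpowers_cube hk,
      fun w hw => (comm_zpowers (d.A_le_C hw) hk).symm⟩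
  have hfixZ : ∀ u ∈ d.A, u * z = z * u → u ∈ Z := fun u hu huz =>
    ⟨hu, d.fixed_cube hu huz, fun w hw => d.central_of_fixed hu huz hw⟩
  have hzT : ∀ t ∈ TT, t ∈ (Z.subgroupOf (Subgroup.centralizer ({x} : Set G))).map d.φ := by
    rw [← tenH_span]
    refine (Subgroup.closure_le _).2 ?_
    rintro _ ⟨i, rfl⟩
    obtain ⟨n, hn, hl⟩ := ten_conj_a i
    obtain ⟨n', hn', rfl⟩ := d.exists_lift n
    obtain ⟨u, hu, hua⟩ := d.exists_lift aH
    have huA : u ∈ d.A := d.mem_A.2 ⟨hu, by rw [hua]; exact four_mem.1⟩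
    have huZ : u ∈ Z := hfixZ u huA (d.comm_z hu (by rw [hua]; exact four_comm.1))
    have hni : d.φ ⟨n'⁻¹, inv_mem hn'⟩ ∈ NT := by
      rw [show (⟨n'⁻¹, inv_mem hn'⟩ : ↥(Subgroup.centralizer ({x} : Set G))) = ⟨n', hn'⟩⁻¹ from rfl,
        map_inv]
      exact inv_mem hn
    have hback : ∀ w ∈ d.A, n' * w * n'⁻¹ ∈ d.A := fun w hw => d.normalizer_lift hn' hn hw
    have hwZ : n'⁻¹ * u * n' ∈ Z := by
      refine ⟨?_, ?_, fun w hw => ?_⟩
      · have := d.normalizer_lift (inv_mem hn') hni huA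
        rwa [inv_inv] at this
      · rw [show n'⁻¹ * u * n' = n'⁻¹ * u * n'⁻¹⁻¹ by group, conj_pow, huZ.2.1, mul_one,
          mul_inv_cancel]
      · have hc := (huZ.2.2 _ (hback w hw)).eq
        show n'⁻¹ * u * n' * w = w * (n'⁻¹ * u * n')
        calc n'⁻¹ * u * n' * w = n'⁻¹ * (u * (n' * w * n'⁻¹)) * n' := by group
          _ = n'⁻¹ * ((n' * w * n'⁻¹) * u) * n' := by rw [hc]
          _ = w * (n'⁻¹ * u * n') := by group
    have himg : d.φ ⟨n'⁻¹ * u * n', mul_mem (mul_mem (inv_mem hn') hu) hn'⟩ =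
        (d.φ ⟨n', hn'⟩)⁻¹ * aH * d.φ ⟨n', hn'⟩ := by
      rw [show (⟨n'⁻¹ * u * n', mul_mem (mul_mem (inv_mem hn') hu) hn'⟩ :
          ↥(Subgroup.centralizer ({x} : Set G))) = ⟨n', hn'⟩⁻¹ * ⟨u, hu⟩ * ⟨n', hn'⟩ from rfl,
        map_mul, map_mul, map_inv, hua]
    rcases hl with hl | hl
    · refine ⟨⟨n'⁻¹ * u * n', mul_mem (mul_mem (inv_mem hn') hu) hn'⟩, hwZ, ?_⟩
      rw [himg, ← hl]; group
    · refine ⟨⟨n'⁻¹ * u * n', mul_mem (mul_mem (inv_mem hn') hu) hn'⟩⁻¹, inv_mem hwZ, ?_⟩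
      rw [map_inv, himg, show aH = (d.φ ⟨n', hn'⟩ * tenH i * (d.φ ⟨n', hn'⟩)⁻¹)⁻¹ by
        rw [hl, inv_inv]]
      group
  intro g hg
  obtain ⟨hgC, hgt⟩ := d.mem_A.1 hg
  obtain ⟨w, hw, hwe⟩ := hzT _ hgt
  have : (w : G)⁻¹ * g ∈ Subgroup.zpowers x := (d.φ_ker (w⁻¹ * ⟨g, hgC⟩)).1 (by
    rw [map_mul, map_inv, hwe, inv_mul_cancel])
  have := mul_mem (show (w : G) ∈ Z from hw) (hxZ _ this)
  rwa [mul_inv_cancel_left] at this

theorem A_elem : Cfsg.IsElementaryAbelian 3 d.A :=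
  ⟨⟨⟨fun a b => Subtype.ext ((d.A_spec a.2).2 _ b.2).eq⟩⟩, fun _ ha => (d.A_spec ha).1⟩

theorem card_C (d : Data z x Q) : Nat.card ↥(Subgroup.centralizer ({x} : Set G)) = 3 * 3265920 := by
  have h1 := Subgroup.card_mul_index d.φ.ker
  rw [Subgroup.index_ker, MonoidHom.range_eq_top.2 d.φ_surj, Subgroup.card_top, card_HH] at h1
  have h2 : Nat.card d.φ.ker = 3 := by
    have : d.φ.ker = (Subgroup.zpowers x).subgroupOf (Subgroup.centralizer ({x} : Set G)) := by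
      ext c; exact d.φ_ker c
    rw [this, Nat.card_congr (Subgroup.subgroupOfEquivOfLe
      (Subgroup.zpowers_le.2 (Subgroup.mem_centralizer_singleton_iff.2 rfl))).toEquiv,
      Nat.card_zpowers, d.orderOf_x]
  omega

theorem card_A : Nat.card d.A = 243 := by
  rw [A, Subgroup.card_map_of_injective Subtype.val_injective]
  have h1 := Subgroup.card_mul_index (TT.comap d.φ)
  have h2 := Subgroup.card_mul_index TT
  rw [Subgroup.index_comap_of_surjective TT d.φ_surj, d.card_C] at h1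
  rw [card_TT, card_HH] at h2
  rw [show TT.index = 40320 by omega] at h1
  omega

theorem centralizer_A : Subgroup.centralizer (d.A : Set G) = d.A := by
  refine le_antisymm (fun g hg => ?_) fun g hg =>
    Subgroup.mem_centralizer_iff.2 fun w hw => ((d.A_spec hw).2 g hg).eq
  have hgC : g ∈ Subgroup.centralizer ({x} : Set G) :=
    Subgroup.mem_centralizer_singleton_iff.2 (Subgroup.mem_centralizer_iff.1 hg x d.x_mem_A).symm
  refine d.mem_A.2 ⟨hgC, ?_⟩
  rw [← centralizer_TT]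
  refine Subgroup.mem_centralizer_iff.2 fun t ht => ?_
  obtain ⟨u, hu, rfl⟩ := d.exists_lift t
  rw [← map_mul, ← map_mul]
  exact congrArg _ (Subtype.ext (Subgroup.mem_centralizer_iff.1 hg u (d.mem_A.2 ⟨hu, ht⟩)))

/-! ### Uniqueness -/

theorem subgroupOf_elem {C E : Subgroup G} (hE : Cfsg.IsElementaryAbelian 3 E) :
    Cfsg.IsElementaryAbelian 3 (E.subgroupOf C) := by
  refine ⟨⟨⟨fun a b => ?_⟩⟩, fun a ha => Subtype.ext (hE.2 _ ha)⟩
  refine Subtype.ext (Subtype.ext ?_)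
  exact (congrArg Subtype.val
    (hE.1.is_comm.comm ⟨((a : C) : G), a.2⟩ ⟨((b : C) : G), b.2⟩) :)

/-- The image of an elementary abelian subgroup of order `3^5` has order 81 and contains `x`. -/
theorem image_81 (E : Subgroup G) (hEC : E ≤ Subgroup.centralizer ({x} : Set G))
    (hE : Cfsg.IsElementaryAbelian 3 E) (hcard : Nat.card E = 243) :
    Nat.card ((E.subgroupOf (Subgroup.centralizer ({x} : Set G))).map d.φ) = 81 ∧ x ∈ E := by
  haveI : Fact (Nat.Prime 3) := ⟨by norm_num⟩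
  set E0 := E.subgroupOf (Subgroup.centralizer ({x} : Set G)) with hE0
  have hE0e : Cfsg.IsElementaryAbelian 3 E0 := subgroupOf_elem hE
  have hc0 : Nat.card E0 = 243 :=
    (Nat.card_congr (Subgroup.subgroupOfEquivOfLe hEC).toEquiv).trans hcard
  set f := d.φ.comp E0.subtype with hf
  have hrange : f.range = E0.map d.φ := by
    rw [hf, MonoidHom.range_comp, Subgroup.range_subtype]
  have hmul : Nat.card f.ker * Nat.card f.range = 243 := by
    rw [← Subgroup.index_ker, Subgroup.card_mul_index, hc0]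
  have hsub : ∀ a : f.ker, (((a : E0) : ↥(Subgroup.centralizer ({x} : Set G))) : G) ∈
      Subgroup.zpowers x := fun a => (d.φ_ker _).1 a.2
  have hk3 : Nat.card f.ker ≤ 3 := by
    rw [← d.orderOf_x, ← Nat.card_zpowers]
    exact Nat.card_le_card_of_injective (fun a => (⟨_, hsub a⟩ : Subgroup.zpowers x))
      fun a b e => Subtype.ext (Subtype.ext (Subtype.ext (congrArg Subtype.val e :)))
  have hr81 : ¬ 81 < Nat.card f.range := by
    intro hlt
    rw [hrange] at hlt hmul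
    have hd : 81 ∣ Nat.card (E0.map d.φ) := by
      obtain ⟨j, -, hj⟩ := (Nat.dvd_prime_pow (show Nat.Prime 3 by norm_num)).1
        (show Nat.card (E0.map d.φ) ∣ 3 ^ 5 from Dvd.intro_left _ hmul)
      rw [hj] at hlt ⊢
      have : 4 < j := by
        by_contra hc
        have := Nat.pow_le_pow_right (show 0 < 3 by norm_num) (not_lt.1 hc)
        omega
      exact Nat.pow_dvd_pow 3 (by omega : 4 ≤ j)
    obtain ⟨E1', hE1'⟩ := Sylow.exists_subgroup_card_pow_prime 3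
      (G := ↥(E0.map d.φ)) (n := 4) (by rw [show (3 : ℕ) ^ 4 = 81 from rfl]; exact hd)
    obtain ⟨E1, hE1, hle⟩ : ∃ E1 : Subgroup HH, Nat.card E1 = 3 ^ 4 ∧ E1 ≤ E0.map d.φ :=
      ⟨E1'.map (E0.map d.φ).subtype,
        by rw [Subgroup.card_map_of_injective Subtype.val_injective, hE1'],
        Subgroup.map_subtype_le _⟩
    have hmap := isElementaryAbelian_map d.φ hE0e
    obtain ⟨g, hg⟩ := elem81_conj E1
      ⟨⟨⟨fun a b => Subtype.ext
        (congrArg Subtype.val (hmap.1.is_comm.comm ⟨_, hle a.2⟩ ⟨_, hle b.2⟩) :)⟩⟩,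
        fun a ha => hmap.2 a (hle ha)⟩ (by simpa using hE1)
    have hall : ∀ y ∈ E0.map d.φ, y ∈ E1 := by
      intro y hy
      rw [hg, ← centralizer_TT, Subgroup.mem_centralizer_iff]
      intro t ht
      have hpre : g⁻¹ * t * g ∈ E1 := by
        rw [hg]
        rwa [show g * (g⁻¹ * t * g) * g⁻¹ = t by group]
      have hc : g⁻¹ * t * g * y = y * (g⁻¹ * t * g) :=
        congrArg Subtype.val (hmap.1.is_comm.comm ⟨_, hle hpre⟩ ⟨_, hy⟩)
      calc t * (g * y * g⁻¹) = g * ((g⁻¹ * t * g) * y) * g⁻¹ := by group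
        _ = g * (y * (g⁻¹ * t * g)) * g⁻¹ := by rw [hc]
        _ = g * y * g⁻¹ * t := by group
    have := Subgroup.card_le_of_le (show E0.map d.φ ≤ E1 from hall)
    rw [hE1, show (3 : ℕ) ^ 4 = 81 from rfl] at this
    exact absurd (lt_of_lt_of_le hlt this) (lt_irrefl _)
  have hk : Nat.card f.ker = 3 ∧ Nat.card f.range = 81 := by
    constructor <;> nlinarith
  refine ⟨hrange ▸ hk.2, ?_⟩
  have hbij : Function.Bijective (fun a => (⟨_, hsub a⟩ : Subgroup.zpowers x)) :=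
    (Nat.bijective_iff_injective_and_card _).2
      ⟨fun a b e => Subtype.ext (Subtype.ext (Subtype.ext (congrArg Subtype.val e :))),
        by rw [hk.1, Nat.card_zpowers, d.orderOf_x]⟩
  obtain ⟨a, ha⟩ := hbij.2 ⟨x, Subgroup.mem_zpowers x⟩
  rw [← show (((a : E0) : ↥(Subgroup.centralizer ({x} : Set G))) : G) = x from congrArg Subtype.val ha]
  exact (a : E0).2

theorem conj_to_A (E : Subgroup G) (hEC : E ≤ Subgroup.centralizer ({x} : Set G))
    (hE : Cfsg.IsElementaryAbelian 3 E) (hcard : Nat.card E = 243) :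
    ∃ c ∈ Subgroup.centralizer ({x} : Set G), E.map (MulAut.conj c).toMonoidHom = d.A := by
  obtain ⟨h81, -⟩ := d.image_81 E hEC hE hcard
  have hE0e := subgroupOf_elem (C := Subgroup.centralizer ({x} : Set G)) hE
  obtain ⟨g, hg⟩ := elem81_conj _ (isElementaryAbelian_map d.φ hE0e) h81
  obtain ⟨c, hc, rfl⟩ := d.exists_lift g
  refine ⟨c, hc, Subgroup.eq_of_le_of_card_ge ?_ ?_⟩
  · rintro _ ⟨e, he, rfl⟩
    refine d.mem_A.2 ⟨mul_mem (mul_mem hc (hEC he)) (inv_mem hc), ?_⟩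
    show d.φ (⟨c, hc⟩ * ⟨e, hEC he⟩ * ⟨c, hc⟩⁻¹) ∈ TT
    rw [map_mul, map_mul, map_inv]
    exact (hg _).1 ⟨⟨e, hEC he⟩, he, rfl⟩
  · rw [d.card_A, Subgroup.card_map_of_injective (MulEquiv.injective _), hcard]

/-- A 3-subgroup of the centraliser containing `A` has no other such subgroup. -/
theorem A_unique (P : Subgroup G) (hPC : P ≤ Subgroup.centralizer ({x} : Set G))
    (hP : IsPGroup 3 P) (hAP : d.A ≤ P) (E : Subgroup G) (hEP : E ≤ P)
    (hE : Cfsg.IsElementaryAbelian 3 E) (hcard : Nat.card E = 243) : E = d.A := by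
  obtain ⟨h81, -⟩ := d.image_81 E (hEP.trans hPC) hE hcard
  set C := Subgroup.centralizer ({x} : Set G) with hC
  have hE0e := subgroupOf_elem (C := C) hE
  have hU : IsPGroup 3 ((P.subgroupOf C).map d.φ) :=
    (hP.of_equiv (Subgroup.subgroupOfEquivOfLe hPC).symm).map d.φ
  have hT : TT ≤ (P.subgroupOf C).map d.φ := fun t ht => by
    obtain ⟨u, hu, rfl⟩ := d.exists_lift t
    exact ⟨⟨u, hu⟩, hAP (d.mem_A.2 ⟨hu, ht⟩), rfl⟩
  have himg := elem81_unique _ hU hT _ (isElementaryAbelian_map d.φ hE0e) h81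
    (Subgroup.map_mono fun a ha => hEP ha)
  refine Subgroup.eq_of_le_of_card_ge (fun e he => ?_) (by rw [d.card_A, hcard])
  refine d.mem_A.2 ⟨hPC (hEP he), ?_⟩
  rw [← himg]
  exact ⟨⟨e, hPC (hEP he)⟩, he, rfl⟩

end Data

end Cfsg.Agent.H92.SuzThree
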